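import Cfsg.Agent.H170.HL.OmRows_m3
import Mathlib
import Cfsg.Agent.Involutions.BaerSuzuki
import Cfsg.Agent.S0071
import Cfsg.Agent.ThreePrime.SzDataExists
import Cfsg.Agent.H167.OP.MinD2
import Cfsg.Agent.H331.SCExc
import Cfsg.Agent.SignalizersComponents.ComponentExists
import Cfsg.Agent.SignalizersComponents.OddFixed
import Cfsg.Agent.SignalizersComponents.ComponentNormalize
import Cfsg.Prelude.Def_LieTypeChar
import Cfsg.Agent.H553.OddHall_m3
import Cfsg.Agent.H556.SmallAb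
import Cfsg.Agent.FastGrp
import Cfsg.Agent.Prune
set_option linter.all false

section
prune_inst 0x7fbda8f9bbb8a9dedfff7e7faefcdffc3b941fffe6dff94bffe061ff2b9f23020bc5fb8f09e010fe1ef6e21410b87853f9feca3fea6bd87ffffd1ff41ffbee1fa5e7b50951d498340fbc2ffe03f0778e7f3fffffffffffffffffffffffffffbefffdffffffff

-- part: H170/Fl/Claim
section
prune_inst 0x404200000014010000000001000000000080000000000000000a005000001004000020000088004001000000000000000000000000000000000000000000001000000000000000100000000000000000000000000000000000000000000000000000000000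
set_option linter.all false
open scoped Cfsg.Agent.FastGrp

-- part: H170/Fl/Base
section
/-!
# Basic lemmas (helper170)
-/

set_option autoImplicit false

namespace Cfsg.Agent.H170.Fl

open Module Cfsg.Agent.H167.OP Cfsg.Agent.H170.HL

/-- two transpositions of three points give an element of order divisible by 3 -/
theorem three_dvd {G ι : Type*} [Group G] [MulAction G ι] {σ τ : G} {a p b : ι}
    (hpb : p ≠ b) (h1 : σ • p = a) (h2 : σ • a = p) (h3 : σ • b = b)
    (h4 : τ • p = b) (h5 : τ • b = p) (h6 : τ • a = a) : 3 ∣ Nat.card G := by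
  have g1 : (σ * τ) • p = b := by rw [mul_smul, h4, h3]
  have g2 : (σ * τ) • b = a := by rw [mul_smul, h5, h1]
  have g3 : (σ * τ) • a = p := by rw [mul_smul, h6, h2]
  have : Fact (Nat.Prime 3) := ⟨Nat.prime_three⟩
  have hper : Function.minimalPeriod ((σ * τ) • ·) p = 3 := by
    refine Function.minimalPeriod_eq_prime ?_ ?_
    · show ((σ * τ) • ·)^[3] p = p
      simp only [Function.iterate_succ, Function.comp, Function.iterate_zero, id]
      rw [g1, g2, g3]
    · intro h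
      have h' : (σ * τ) • p = p := h
      rw [g1] at h'
      exact hpb h'.symm
  have h7 : 3 ∣ orderOf (σ * τ) := by
    rw [← hper, ← MulAction.pow_smul_eq_iff_minimalPeriod_dvd, pow_orderOf_eq_one, one_smul]
  exact h7.trans (orderOf_dvd_natCard _)

variable {F : Type*} [Field F] {V : Type*} [AddCommGroup V] [Module F V] {G : Type*} [Group G]

theorem mem_range_of_neg (h2 : (2 : F) ≠ 0) (ρ : Representation F G V) {x : G} {v : V}
    (hv : ρ x v = -v) : v ∈ LinearMap.range (ρ x - 1) := by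
  refine ⟨(-(2 : F)⁻¹) • v, ?_⟩
  show ρ x ((-(2 : F)⁻¹) • v) - (-(2 : F)⁻¹) • v = v
  rw [map_smul, hv, smul_neg, neg_smul, neg_neg, sub_neg_eq_add, ← add_smul]
  have : (2 : F)⁻¹ + (2 : F)⁻¹ = 1 := by field_simp; norm_num
  rw [this, one_smul]

/-- an injective operator anticommuting with an involution -/
theorem anti [FiniteDimensional F V] (h2 : (2 : F) ≠ 0) (ρ : Representation F G V) {x : G}
    (β : Module.End F V) (hβ : Function.Injective β)
    (h : ∀ v, β (ρ x v) = -(ρ x (β v))) : finrank F V ≤ 2 * rk ρ x := by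
  have h1 := LinearMap.finrank_range_add_finrank_ker (ρ x - 1)
  have h3 : (LinearMap.ker (ρ x - 1)).map β ≤ LinearMap.range (ρ x - 1) := by
    rintro _ ⟨v, hv, rfl⟩
    have hv' : ρ x v = v := by
      have : ρ x v - v = 0 := hv
      exact sub_eq_zero.mp this
    apply mem_range_of_neg h2
    have := h v
    rw [hv'] at this
    have h5 := congrArg Neg.neg this
    rw [neg_neg] at h5
    exact h5.symm
  have h4 := Submodule.finrank_mono h3
  rw [(Submodule.equivMapOfInjective β hβ _).finrank_eq.symm] at h4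
  unfold rk
  omega

/-- the fixed space -/
def FixS (ρ : Representation F G V) (R : Subgroup G) : Submodule F V where
  carrier := {v | ∀ r ∈ R, ρ r v = v}
  zero_mem' := fun _ _ => map_zero _
  add_mem' := fun ha hb r hr => by rw [map_add, ha r hr, hb r hr]
  smul_mem' := fun c _ ha r hr => by rw [map_smul, ha r hr]

theorem CV_eq_bot_of_fix {ρ : Representation F G V} {R : Subgroup G} (h : FixS ρ R = ⊤) :
    CV ρ R = ⊥ := by
  rw [eq_bot_iff]
  refine CV_le fun d hd => ?_
  rintro _ ⟨v, rfl⟩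
  have h1 : v ∈ FixS ρ R := by rw [h]; trivial
  show ρ d v - v ∈ (⊥ : Submodule F V)
  rw [h1 d hd, sub_self]
  exact Submodule.zero_mem _

/-- elements of a subspace `M` with `[M, R] = 0` -/
theorem CV_inv (ρ : Representation F G V) {R : Subgroup G} {r : G} (hr : r ∈ R) {v : V}
    (hv : v ∈ CV ρ R) : ρ r v ∈ CV ρ R := by
  have h1 : ρ r v = (ρ r v - v) + v := by abel
  rw [h1]
  exact (CV ρ R).add_mem (sub_mem_CV ρ hr v) hv

/-- the hypotheses of the main theorem -/
structure Hyp (ρ : Representation F G V) (R R' : Subgroup G) : Prop where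
  inj : Function.Injective ρ
  two : (2 : F) ≠ 0
  card : (Nat.card G : F) ≠ 0
  three : ¬ 3 ∣ Nat.card G
  irr : ∀ M : Submodule F V, (∀ g : G, ∀ m ∈ M, ρ g m ∈ M) → M = ⊥ ∨ M = ⊤
  five : 5 ≤ finrank F V
  eight : finrank F V ≤ 8
  scal : ∀ g : G, (∃ c : F, ∀ v, ρ g v = c • v) → (∀ v, ρ g v = v) ∨ (∀ v, ρ g v = -v)
  qr : QR ρ R
  qr' : QR ρ R'
  gen : R ⊔ R' = ⊤
  sup : CV ρ R ⊔ CV ρ R' = ⊤

/-- small involutions -/
def SI (ρ : Representation F G V) : Set G := {x | x * x = 1 ∧ rk ρ x ≤ 2}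

namespace Hyp

variable {ρ : Representation F G V} {R R' : Subgroup G}

theorem closure_SI (h : Hyp ρ R R') : Subgroup.closure (SI ρ) = ⊤ := by
  obtain ⟨S, hS, hS'⟩ := h.qr.gen
  obtain ⟨T, hT, hT'⟩ := h.qr'.gen
  rw [eq_top_iff, ← h.gen, ← hS, ← hT]
  exact sup_le (Subgroup.closure_mono hS') (Subgroup.closure_mono hT')

/-- elements fixed by all small involutions -/
theorem of_SI (h : Hyp ρ R R') {P : G → Prop} (h1 : P 1) (hm : ∀ a b, P a → P b → P (a * b))
    (hi : ∀ a, P a → P a⁻¹) (hx : ∀ x ∈ SI ρ, P x) (g : G) : P g := by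
  have hg : g ∈ Subgroup.closure (SI ρ) := by rw [h.closure_SI]; trivial
  induction hg using Subgroup.closure_induction with
  | mem x hx' => exact hx x hx'
  | one => exact h1
  | mul a b _ _ ha hb => exact hm a b ha hb
  | inv a _ ha => exact hi a ha

theorem finDim (h : Hyp ρ R R') : FiniteDimensional F V :=
  FiniteDimensional.of_finrank_pos (by have := h.five; omega)

theorem nontriv (h : Hyp ρ R R') : Nontrivial V :=
  Module.nontrivial_of_finrank_pos (R := F) (by have := h.five; omega)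

end Hyp

theorem SI_conj [FiniteDimensional F V] {ρ : Representation F G V} {x : G} (hx : x ∈ SI ρ) (g : G) :
    g * x * g⁻¹ ∈ SI ρ := by
  refine ⟨?_, (rk_conj_le ρ g x).trans hx.2⟩
  have : g * x * g⁻¹ * (g * x * g⁻¹) = g * (x * x) * g⁻¹ := by group
  rw [this, hx.1, mul_one, mul_inv_cancel]

end Cfsg.Agent.H170.Fl
end

-- part: H170/Fl/Blocks
section
/-!
# No blocks of imprimitivity (helper170)
-/

set_option autoImplicit false

namespace Cfsg.Agent.H170.Fl

open Module Cfsg.Agent.H167.OP Cfsg.Agent.H170.HL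

variable {F : Type*} [Field F] {V : Type*} [AddCommGroup V] [Module F V] {G : Type*} [Group G]
  {ι : Type*} [MulAction G ι]

/-- a system of blocks -/
structure Blk (ρ : Representation F G V) (B : ι → Submodule F V) : Prop where
  map : ∀ (g : G) (i : ι) (v : V), v ∈ B i → ρ g v ∈ B (g • i)
  ne : ∀ i, B i ≠ ⊥
  ind : iSupIndep B
  sup : ⨆ i, B i = ⊤

namespace Blk

variable {ρ : Representation F G V} {B : ι → Submodule F V}

theorem map_eq (hB : Blk ρ B) (g : G) (i : ι) : (B i).map (ρ g) = B (g • i) := by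
  apply le_antisymm
  · rintro _ ⟨v, hv, rfl⟩
    exact hB.map g i v hv
  · intro w hw
    refine ⟨ρ g⁻¹ w, ?_, ap_inv ρ g w⟩
    have := hB.map g⁻¹ _ _ hw
    rwa [inv_smul_smul] at this

theorem rho_inj (ρ : Representation F G V) (g : G) : Function.Injective (ρ g) := by
  intro a b h
  have := congrArg (ρ g⁻¹) h
  rwa [inv_ap, inv_ap] at this

theorem finrank_smul (hB : Blk ρ B) (g : G) (i : ι) : finrank F (B (g • i)) = finrank F (B i) := by
  rw [← hB.map_eq g i]
  exact ((Submodule.equivMapOfInjective (ρ g) (rho_inj ρ g) (B i)).finrank_eq).symm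

theorem eq_of_mem (hB : Blk ρ B) {i j : ι} {v : V} (hi : v ∈ B i) (hj : v ∈ B j) (hv : v ≠ 0) :
    i = j := by
  by_contra hne
  have := (hB.ind.pairwiseDisjoint hne).le_bot ⟨hi, hj⟩
  exact hv this

theorem exists_ne (hB : Blk ρ B) (i : ι) : ∃ v ∈ B i, v ≠ 0 := (Submodule.ne_bot_iff _).mp (hB.ne i)

theorem trans (hB : Blk ρ B)
    (irr : ∀ M : Submodule F V, (∀ g : G, ∀ m ∈ M, ρ g m ∈ M) → M = ⊥ ∨ M = ⊤) (i j : ι) :
    ∃ g : G, g • i = j := by
  by_contra hcon
  push Not at hcon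
  have hinv : ∀ g : G, ∀ m ∈ (⨆ g : G, B (g • i)), ρ g m ∈ (⨆ g : G, B (g • i)) := by
    intro g m hm
    have h1 : (⨆ g : G, B (g • i)) ≤ (⨆ g : G, B (g • i)).comap (ρ g) := by
      refine iSup_le fun g' v hv => ?_
      have := hB.map g _ _ hv
      rw [← mul_smul] at this
      exact (le_iSup (fun g : G => B (g • i)) (g * g')) this
    exact h1 hm
  rcases irr _ hinv with h | h
  · apply hB.ne i
    rw [eq_bot_iff, ← h]
    have := le_iSup (fun g : G => B (g • i)) 1
    simpa only [one_smul] using this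
  · apply hB.ne j
    have h1 : Disjoint (B j) (⨆ k ∈ {k | ∃ g : G, g • i = k}, B k) :=
      hB.ind.disjoint_biSup (by
        rintro ⟨g, hg⟩
        exact hcon g hg)
    have h2 : (⊤ : Submodule F V) ≤ ⨆ k ∈ {k | ∃ g : G, g • i = k}, B k := by
      rw [← h]
      refine iSup_le fun g => ?_
      exact le_biSup B (show g • i ∈ {k | ∃ g : G, g • i = k} from ⟨g, rfl⟩)
    exact Disjoint.eq_bot_of_le h1 (le_top.trans h2)

/-- an invariant set of blocks is everything -/
theorem eq_univ (hB : Blk ρ B)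
    (irr : ∀ M : Submodule F V, (∀ g : G, ∀ m ∈ M, ρ g m ∈ M) → M = ⊥ ∨ M = ⊤) {O : Set ι} {i : ι}
    (hi : i ∈ O) (hO : ∀ g : G, ∀ j ∈ O, g • j ∈ O) (j : ι) : j ∈ O := by
  obtain ⟨g, rfl⟩ := hB.trans irr i j
  exact hO g i hi

/-- a moved block has dimension at most the rank -/
theorem finrank_le [FiniteDimensional F V] (hB : Blk ρ B) {x : G} {i : ι} (hx : x • i ≠ i) :
    finrank F (B i) ≤ rk ρ x := by
  have h1 : Function.Injective ((ρ x - 1).domRestrict (B i)) := by
    rw [← LinearMap.ker_eq_bot, LinearMap.ker_eq_bot']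
    rintro ⟨v, hv⟩ hv0
    have h2 : ρ x v = v := sub_eq_zero.mp hv0
    by_contra hne
    have hv1 : v ≠ 0 := fun h => hne (Subtype.ext h)
    have h3 := hB.map x i v hv
    rw [h2] at h3
    exact hx (hB.eq_of_mem h3 hv hv1)
  have h2 : (B i).map (ρ x - 1) ≤ LinearMap.range (ρ x - 1) := LinearMap.map_le_range
  have h3 := Submodule.finrank_mono h2
  have h4 : LinearMap.range ((ρ x - 1).domRestrict (B i)) = (B i).map (ρ x - 1) := by
    rw [LinearMap.range_domRestrict]
  have h5 := LinearMap.finrank_range_of_inj h1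
  rw [h4] at h5
  unfold rk
  omega

/-- two different pairs of moved blocks -/
theorem finrank_add_le [FiniteDimensional F V] (hB : Blk ρ B) {x : G} (hxx : x * x = 1) {i j : ι}
    (hi : x • i ≠ i) (hj : x • j ≠ j) (hij : i ≠ j) (hij' : x • i ≠ j) :
    finrank F (B i) + finrank F (B j) ≤ rk ρ x := by
  have hxj : x • j ≠ i := by
    intro h
    apply hij'
    rw [← h, ← mul_smul, hxx, one_smul]
  have hne : x • i ≠ x • j := fun h => hij (MulAction.injective x h)
  have h1 : Function.Injective ((ρ x - 1).domRestrict (B i ⊔ B j)) := by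
    rw [← LinearMap.ker_eq_bot, LinearMap.ker_eq_bot']
    rintro ⟨v, hv⟩ hv0
    have h2 : ρ x v = v := sub_eq_zero.mp hv0
    obtain ⟨a, ha, b, hb, rfl⟩ := Submodule.mem_sup.mp hv
    -- `a + b = x a + x b`
    have hxa := hB.map x i a ha
    have hxb := hB.map x j b hb
    rw [map_add] at h2
    have ha0 : a = 0 := by
      have h3 : Disjoint (B i) (⨆ k ∈ ({j, x • i, x • j} : Set ι), B k) :=
        hB.ind.disjoint_biSup (by
          rintro (h | h | h)
          · exact hij h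
          · exact hi h.symm
          · exact hxj h.symm)
      have hm : ∀ k ∈ ({j, x • i, x • j} : Set ι), B k ≤ ⨆ k ∈ ({j, x • i, x • j} : Set ι), B k :=
        fun k hk => le_biSup B hk
      refine Submodule.disjoint_def.mp h3 a ha ?_
      have h4 : a = ρ x a + ρ x b - b := by rw [h2]; abel
      rw [h4]
      refine Submodule.sub_mem _ (Submodule.add_mem _ ?_ ?_) ?_
      · exact hm _ (by simp) hxa
      · exact hm _ (by simp) hxb
      · exact hm _ (by simp) hb
    have hb0 : b = 0 := by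
      have h3 : Disjoint (B j) (B (x • j)) := hB.ind.pairwiseDisjoint (fun h => hj h.symm)
      refine Submodule.disjoint_def.mp h3 b hb ?_
      rw [ha0, map_zero, zero_add, zero_add] at h2
      rw [← h2]
      exact hxb
    exact Subtype.ext (by show a + b = 0; rw [ha0, hb0, add_zero])
  have h2 : (B i ⊔ B j).map (ρ x - 1) ≤ LinearMap.range (ρ x - 1) := LinearMap.map_le_range
  have h3 := Submodule.finrank_mono h2
  have h4 : LinearMap.range ((ρ x - 1).domRestrict (B i ⊔ B j)) = (B i ⊔ B j).map (ρ x - 1) := by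
    rw [LinearMap.range_domRestrict]
  have h5 := LinearMap.finrank_range_of_inj h1
  rw [h4] at h5
  have h6 := Submodule.finrank_sup_add_finrank_inf_eq (B i) (B j)
  have h7 : B i ⊓ B j = ⊥ := (hB.ind.pairwiseDisjoint hij).eq_bot
  rw [h7, finrank_bot] at h6
  unfold rk
  omega

end Blk

variable {ρ : Representation F G V} {R R' : Subgroup G}

/-- blocks of dimension at least two -/
theorem Hyp.no_blocks_two (h : Hyp ρ R R') {B : ι → Submodule F V} (hB : Blk ρ B)
    [Nontrivial ι] (i : ι) : finrank F (B i) < 2 := by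
  have := h.finDim
  by_contra hcon
  push Not at hcon
  have hdim : ∀ j, finrank F (B j) = finrank F (B i) := by
    intro j
    obtain ⟨g, rfl⟩ := hB.trans h.irr i j
    exact hB.finrank_smul g i
  -- a block is moved by a small involution
  obtain ⟨x, hx, hxi⟩ : ∃ x ∈ SI ρ, x • i ≠ i := by
    by_contra hc
    push Not at hc
    have hfix : ∀ g : G, g • i = i := by
      refine h.of_SI (P := fun g => g • i = i) (one_smul G i) ?_ ?_ hc
      · intro a b ha hb
        rw [mul_smul, hb, ha]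
      · intro a ha
        rw [inv_smul_eq_iff, ha]
    obtain ⟨j, hj⟩ := exists_ne i
    obtain ⟨g, hg⟩ := hB.trans h.irr i j
    rw [hfix g] at hg
    exact hj hg.symm
  -- a small involution moves only one pair
  have hpair : ∀ y ∈ SI ρ, ∀ j k : ι, y • j ≠ j → y • k ≠ k → j ≠ k → y • j = k := by
    intro y hy j k hj hk hjk
    by_contra hc
    have h1 := hB.finrank_add_le hy.1 hj hk hjk hc
    have h2 := hy.2
    rw [hdim j, hdim k] at h1
    omega
  set j := x • i with hj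
  have hxj : x • j = i := by rw [hj, ← mul_smul, hx.1, one_smul]
  -- some small involution moves `{i, j}`
  obtain ⟨y, hy, hyc⟩ : ∃ y ∈ SI ρ, (y • i ∉ ({i, j} : Set ι) ∨ y • j ∉ ({i, j} : Set ι)) := by
    by_contra hc
    push Not at hc
    have hij : i ≠ j := fun hc => hxi hc.symm
    have hinv' : ∀ y : G, (y • i = i ∧ y • j = j) ∨ (y • i = j ∧ y • j = i) := by
      refine h.of_SI (P := fun y => (y • i = i ∧ y • j = j) ∨ (y • i = j ∧ y • j = i))
        (Or.inl ⟨one_smul G i, one_smul G j⟩) ?_ ?_ ?_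
      · intro a b ha hb
        rcases ha with ⟨ha1, ha2⟩ | ⟨ha1, ha2⟩ <;> rcases hb with ⟨hb1, hb2⟩ | ⟨hb1, hb2⟩ <;>
          simp only [mul_smul, ha1, ha2, hb1, hb2, and_self, true_or, or_true]
      · intro a ha
        have h1 : ∀ k l : ι, a • k = l → a⁻¹ • l = k := fun k l hkl => by rw [← hkl, inv_smul_smul]
        rcases ha with ⟨ha1, ha2⟩ | ⟨ha1, ha2⟩
        · exact Or.inl ⟨h1 _ _ ha1, h1 _ _ ha2⟩
        · exact Or.inr ⟨h1 _ _ ha2, h1 _ _ ha1⟩
      · intro y hy
        obtain ⟨h1, h2⟩ := hc y hy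
        have h3 : y • i ≠ y • j := fun h => hij (MulAction.injective y h)
        simp only [Set.mem_insert_iff, Set.mem_singleton_iff] at h1 h2
        rcases h1 with h1 | h1 <;> rcases h2 with h2 | h2
        · exact absurd (h1.trans h2.symm) h3
        · exact Or.inl ⟨h1, h2⟩
        · exact Or.inr ⟨h1, h2⟩
        · exact absurd (h1.trans h2.symm) h3
    have hinv : ∀ y : G, y • i ∈ ({i, j} : Set ι) ∧ y • j ∈ ({i, j} : Set ι) := by
      intro y
      rcases hinv' y with ⟨h1, h2⟩ | ⟨h1, h2⟩ <;> simp [h1, h2]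
    have hall : ∀ k, k ∈ ({i, j} : Set ι) := fun k =>
      hB.eq_univ h.irr (O := {i, j}) (i := i) (by simp) (fun g l hl => by
        rcases hl with rfl | hl
        · exact (hinv g).1
        · rw [Set.mem_singleton_iff] at hl
          rw [hl]
          exact (hinv g).2) k
    have h1 : (⊤ : Submodule F V) ≤ B i ⊔ B j := by
      rw [← hB.sup]
      refine iSup_le fun k => ?_
      rcases hall k with rfl | hk
      · exact le_sup_left
      · rw [Set.mem_singleton_iff] at hk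
        rw [hk]
        exact le_sup_right
    have h2 := Submodule.finrank_mono h1
    rw [finrank_top] at h2
    have h3 := Submodule.finrank_add_le_finrank_add_finrank (B i) (B j)
    have h4 := hB.finrank_le hxi
    have h5 := hx.2
    have h6 := h.five
    rw [hdim j] at h3
    omega
  have hxfix : ∀ k, k ≠ i → k ≠ j → x • k = k := by
    intro k hk hk'
    by_contra hc
    exact hk' (hpair x hx i k hxi hc (Ne.symm hk)).symm
  have hyy : ∀ k : ι, y • y • k = k := fun k => by rw [← mul_smul, hy.1, one_smul]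
  have hij : i ≠ j := fun hc => hxi hc.symm
  refine h.three ?_
  rcases hyc with hyc | hyc
  · -- `y` maps `i` to `k`
    simp only [Set.mem_insert_iff, Set.mem_singleton_iff, not_or] at hyc
    refine three_dvd (σ := x) (τ := y) (p := i) (a := j) (b := y • i) (Ne.symm hyc.1) rfl hxj
      (hxfix _ hyc.1 hyc.2) rfl (hyy i) ?_
    by_contra hc
    exact hyc.2 (hpair y hy i j hyc.1 hc hij)
  · simp only [Set.mem_insert_iff, Set.mem_singleton_iff, not_or] at hyc
    refine three_dvd (σ := x) (τ := y) (p := j) (a := i) (b := y • j) (Ne.symm hyc.2) hxj rfl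
      (hxfix _ hyc.1 hyc.2) rfl (hyy j) ?_
    by_contra hc
    exact hyc.1 (hpair y hy j i hyc.2 hc (Ne.symm hij))

end Cfsg.Agent.H170.Fl
end

-- part: H170/Fl/Lines
section
/-!
# No blocks of dimension one (helper170)
-/

set_option autoImplicit false

namespace Cfsg.Agent.H170.Fl

open Module Cfsg.Agent.H167.OP Cfsg.Agent.H170.HL

variable {F : Type*} [Field F] {V : Type*} [AddCommGroup V] [Module F V] {G : Type*} [Group G]
  {ι : Type*} [MulAction G ι] {ρ : Representation F G V} {B : ι → Submodule F V} {R R' : Subgroup G}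

/-- `R` acts on a system of lines: four of them are permuted transitively and span `[V, R]`, the others are fixed -/
theorem QR.lines [Finite G] [Finite ι] [FiniteDimensional F V] (hR : QR ρ R) (hB : Blk ρ B)
    (h1 : ∀ i, finrank F (B i) = 1) :
    ∃ O : Set ι, O.ncard = 4 ∧ (⨆ i ∈ O, B i) = CV ρ R ∧ (∀ i ∈ O, ∀ j ∈ O, ∃ r ∈ R, r • i = j) ∧
      ∀ r ∈ R, ∀ i, i ∉ O → r • i = i := by
  classical
  let O : Set ι := {i | ¬ B i ≤ FixS ρ R}
  have hCV : CV ρ R ≠ ⊥ := by
    intro h0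
    have := hR.dim
    rw [h0, finrank_bot] at this
    omega
  -- the span of an orbit
  let W : ι → Submodule F V := fun i => ⨆ j ∈ {j | ∃ r ∈ R, r • i = j}, B j
  have hW : ∀ i ∈ O, CV ρ R ≤ W i := by
    intro i hi
    have hinv : ∀ r ∈ R, ∀ m ∈ W i, ρ r m ∈ W i := by
      intro r hr m hm
      have : W i ≤ (W i).comap (ρ r) := by
        refine iSup₂_le fun j hj v hv => ?_
        obtain ⟨r', hr', rfl⟩ := hj
        have h2 := hB.map r _ _ hv
        refine (le_biSup B (i := r • r' • i) ?_ : _ ≤ W i) h2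
        exact ⟨r * r', R.mul_mem hr hr', mul_smul _ _ _⟩
      exact this hm
    have hBW : B i ≤ W i := le_biSup B (i := i) ⟨1, R.one_mem, one_smul G i⟩
    rcases hR.irr (CV ρ R ⊓ W i) inf_le_left (fun r hr m hm => ⟨CV_inv ρ hr hm.1, hinv r hr m hm.2⟩) with
      h2 | h2
    · exfalso
      apply hi
      intro v hv r hr
      have h3 : ρ r v - v ∈ CV ρ R ⊓ W i :=
        ⟨sub_mem_CV ρ hr v, (W i).sub_mem (hinv r hr v (hBW hv)) (hBW hv)⟩
      rw [h2, Submodule.mem_bot] at h3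
      exact sub_eq_zero.mp h3
    · rw [← h2]
      exact inf_le_right
  have htr : ∀ i ∈ O, ∀ j ∈ O, ∃ r ∈ R, r • i = j := by
    intro i hi j hj
    by_contra hcon
    push Not at hcon
    have hdis : Disjoint {k | ∃ r ∈ R, r • i = k} {k | ∃ r ∈ R, r • j = k} := by
      rw [Set.disjoint_left]
      rintro k ⟨r, hr, rfl⟩ ⟨r', hr', hk⟩
      refine hcon (r'⁻¹ * r) (R.mul_mem (R.inv_mem hr') hr) ?_
      rw [mul_smul, ← hk, inv_smul_smul]
    have h2 := hB.ind.disjoint_biSup_biSup hdis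
    apply hCV
    rw [eq_bot_iff, ← h2.eq_bot]
    exact le_inf (hW i hi) (hW j hj)
  -- `O` is not empty
  obtain ⟨o, ho⟩ : ∃ o, o ∈ O := by
    by_contra hcon
    push Not at hcon
    apply hCV
    apply CV_eq_bot_of_fix
    rw [eq_top_iff, ← hB.sup]
    exact iSup_le fun i => by
      have := hcon i
      simpa [O] using this
  have hOinv : ∀ r ∈ R, ∀ i ∈ O, r • i ∈ O := by
    intro r hr i hi hcon
    apply hi
    intro v hv r' hr'
    have h2 := hcon (hB.map r i v hv)
    have h3 := h2 (r' * r) (R.mul_mem hr' hr)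
    have h4 := h2 r⁻¹ (R.inv_mem hr)
    rw [inv_ap] at h4
    -- `v = ρ r v`
    rw [h4]
    exact h2 r' hr'
  have hOeq : O = {j | ∃ r ∈ R, r • o = j} := by
    ext j
    constructor
    · intro hj
      exact htr o ho j hj
    · rintro ⟨r, hr, rfl⟩
      exact hOinv r hr o ho
  -- basis vectors
  choose b hb hb0 using hB.exists_ne
  have hspan : ∀ i, B i = Submodule.span F {b i} := by
    intro i
    symm
    apply Submodule.eq_of_le_of_finrank_eq
    · rw [Submodule.span_singleton_le_iff_mem]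
      exact hb i
    · rw [finrank_span_singleton (hb0 i), h1 i]
  have hli : LinearIndependent F b := hB.ind.linearIndependent B hb hb0
  have hWO : (⨆ i ∈ O, B i) = Submodule.span F (Set.range fun i : O => b i) := by
    rw [Submodule.span_range_eq_iSup, iSup_subtype']
    exact iSup_congr fun i => hspan i
  have hdimO : finrank F (⨆ i ∈ O, B i : Submodule F V) = O.ncard := by
    have : Fintype O := Fintype.ofFinite O
    have h2 : LinearIndependent F (fun i : O => b i) := hli.comp _ Subtype.val_injective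
    rw [hWO, finrank_span_eq_card h2, ← Nat.card_coe_set_eq, Nat.card_eq_fintype_card]
  have hle1 : CV ρ R ≤ ⨆ i ∈ O, B i := by
    have h2 := hW o ho
    have h3 : W o = ⨆ i ∈ O, B i := by
      show (⨆ j ∈ {j | ∃ r ∈ R, r • o = j}, B j) = _
      rw [hOeq]
    rw [h3] at h2
    exact h2
  have hle2 : (⨆ i ∈ O, B i) ≤ CV ρ R ⊔ Submodule.span F {b o} := by
    refine iSup₂_le fun j hj => ?_
    obtain ⟨r, hr, hrj⟩ := htr o ho j hj
    have h2 : ρ r (b o) ∈ B j := by
      rw [← hrj]; exact hB.map r o _ (hb o)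
    have h3 : ρ r (b o) ≠ 0 := by
      intro h0
      apply hb0 o
      rw [← inv_ap ρ r (b o), h0, map_zero]
    have h4 : B j = Submodule.span F {ρ r (b o)} := by
      symm
      apply Submodule.eq_of_le_of_finrank_eq
      · rw [Submodule.span_singleton_le_iff_mem]
        exact h2
      · rw [finrank_span_singleton h3, h1 j]
    rw [h4, Submodule.span_singleton_le_iff_mem]
    have h5 : ρ r (b o) = (ρ r (b o) - b o) + b o := by abel
    rw [h5]
    exact Submodule.add_mem_sup (sub_mem_CV ρ hr _) (Submodule.mem_span_singleton_self _)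
  have hc4 : 4 ≤ O.ncard := by
    rw [← hdimO, ← hR.dim]
    exact Submodule.finrank_mono hle1
  have hc5 : O.ncard ≤ 5 := by
    rw [← hdimO]
    refine (Submodule.finrank_mono hle2).trans ?_
    refine (Submodule.finrank_add_le_finrank_add_finrank _ _).trans ?_
    rw [hR.dim, finrank_span_singleton (hb0 o)]
  -- the cardinality is a power of two
  have hpow : ∃ k : ℕ, O.ncard = 2 ^ k := by
    obtain ⟨n, hn⟩ := hR.pg.exists_card_eq
    have h2 := MulAction.index_stabilizer R o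
    have h3 : MulAction.orbit R o = O := by
      rw [hOeq]
      ext j
      constructor
      · rintro ⟨⟨r, hr⟩, rfl⟩
        exact ⟨r, hr, rfl⟩
      · rintro ⟨r, hr, rfl⟩
        exact ⟨⟨r, hr⟩, rfl⟩
    rw [h3] at h2
    have h4 : O.ncard ∣ 2 ^ n := by
      rw [← h2, ← hn]
      exact Subgroup.index_dvd_card _
    obtain ⟨k, -, hk⟩ := (Nat.dvd_prime_pow Nat.prime_two).mp h4
    exact ⟨k, hk⟩
  have hcard : O.ncard = 4 := by
    obtain ⟨k, hk⟩ := hpow
    have h2 : O.ncard ≠ 5 := by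
      intro h5
      rw [h5] at hk
      have hk3 : k < 3 := by
        by_contra hcon
        push Not at hcon
        have := Nat.pow_le_pow_right (n := 2) (by norm_num) hcon
        omega
      interval_cases k <;> omega
    omega
  refine ⟨O, hcard, ?_, htr, ?_⟩
  · symm
    apply Submodule.eq_of_le_of_finrank_eq hle1
    rw [hdimO, hcard, hR.dim]
  · intro r hr i hi
    have h2 : B i ≤ FixS ρ R := by simpa only [O, _root_.Set.mem_ofPred_eq, _root_.Decidable.not_not] using hi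
    have h3 := h2 (hb i) r hr
    have h4 := hB.map r i _ (hb i)
    rw [h3] at h4
    exact hB.eq_of_mem h4 (hb i) (hb0 i)

/-- **no blocks** -/
theorem Hyp.no_blocks [Finite G] [Finite ι] (h : Hyp ρ R R') (hB : Blk ρ B) [Nontrivial ι] : False := by
  classical
  have := h.finDim
  have h1 : ∀ i, finrank F (B i) = 1 := by
    intro i
    have h2 := h.no_blocks_two hB i
    have h3 : 0 < finrank F (B i) := by
      rw [Module.finrank_pos_iff]
      exact Submodule.nontrivial_iff_ne_bot.mpr (hB.ne i)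
    omega
  obtain ⟨O, hO4, hOs, hOt, hOf⟩ := h.qr.lines hB h1
  obtain ⟨O', hO4', hOs', hOt', hOf'⟩ := h.qr'.lines hB h1
  have hne : O ≠ O' := by
    rintro rfl
    have h2 := h.sup
    rw [← hOs, ← hOs', sup_idem, hOs] at h2
    have h3 := h.qr.dim
    rw [h2, finrank_top] at h3
    have := h.five
    omega
  -- the sets meet
  obtain ⟨p, hp, hp'⟩ : ∃ p, p ∈ O ∧ p ∈ O' := by
    by_contra hcon
    push Not at hcon
    have hinv : ∀ g : G, ∀ j ∈ O, g • j ∈ O := by
      have hRO : ∀ r ∈ R, ∀ j ∈ O, r • j ∈ O := by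
        intro r hr j hj
        by_contra hc
        have h2 := hOf r⁻¹ (R.inv_mem hr) _ hc
        rw [inv_smul_smul] at h2
        rw [← h2] at hc
        exact hc hj
      have hRO' : ∀ r ∈ R', ∀ j ∈ O, r • j ∈ O := by
        intro r hr j hj
        rw [hOf' r hr j (hcon j hj)]
        exact hj
      let S : Subgroup G :=
        { carrier := {g | ∀ j ∈ O, g • j ∈ O}
          one_mem' := fun j hj => by rwa [one_smul]
          mul_mem' := fun ha hb j hj => by rw [mul_smul]; exact ha _ (hb j hj)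
          inv_mem' := by
            intro a ha j hj
            have h2 : (fun k => a • k) '' O = O := by
              refine Set.eq_of_subset_of_ncard_le ?_ ?_
              · rintro _ ⟨k, hk, rfl⟩
                exact ha k hk
              · rw [Set.ncard_image_of_injective _ (MulAction.injective a)]
            rw [← h2] at hj
            obtain ⟨l, hl, hlk⟩ := hj
            rw [← hlk]
            show a⁻¹ • a • l ∈ _
            rwa [inv_smul_smul] }
      have hS : (⊤ : Subgroup G) ≤ S := by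
        rw [← h.gen]
        exact sup_le hRO hRO'
      exact fun g => hS (Subgroup.mem_top g)
    obtain ⟨i, hi⟩ : O.Nonempty := by
      rw [← Set.ncard_pos]
      omega
    have hall := hB.eq_univ h.irr hi hinv
    have h2 : CV ρ R = ⊤ := by
      rw [← hOs, eq_top_iff, ← hB.sup]
      exact iSup_le fun j => le_biSup B (hall j)
    have h3 := h.qr.dim
    rw [h2, finrank_top] at h3
    have := h.five
    omega
  obtain ⟨a, ha, ha'⟩ : ∃ a ∈ O, a ∉ O' := by
    by_contra hcon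
    push Not at hcon
    exact hne (Set.eq_of_subset_of_ncard_le hcon (by omega))
  obtain ⟨b, hb, hb'⟩ : ∃ b ∈ O', b ∉ O := by
    by_contra hcon
    push Not at hcon
    exact hne (Set.eq_of_subset_of_ncard_le hcon (by omega)).symm
  obtain ⟨σ, hσ, hσp⟩ := hOt p hp a ha
  obtain ⟨τ, hτ, hτp⟩ := hOt' p hp' b hb
  -- squares act trivially
  have hsq : ∀ (S : Subgroup G), QR ρ S → ∀ (P : Set ι), (⨆ i ∈ P, B i) = CV ρ S → ∀ s ∈ S, ∀ i ∈ P,
      (s * s) • i = i := by
    intro S hS P hP s hs i hi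
    obtain ⟨v, hv, hv0⟩ := hB.exists_ne i
    have hvC : v ∈ CV ρ S := by
      rw [← hP]
      exact (le_biSup B hi) hv
    have h2 := hB.map (s * s) i v hv
    have h3 : v ∈ B ((s * s) • i) := by
      rcases hS.sq s hs with h4 | h4
      · rwa [h4 v hvC] at h2
      · rw [h4 v hvC] at h2
        exact (Submodule.neg_mem_iff _).mp h2
    exact hB.eq_of_mem h3 hv hv0
  have h2 : σ • a = p := by
    rw [← hσp, ← mul_smul]
    exact hsq R h.qr O hOs σ hσ p hp
  have h3 : τ • b = p := by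
    rw [← hτp, ← mul_smul]
    exact hsq R' h.qr' O' hOs' τ hτ p hp'
  have hpb : p ≠ b := by
    rintro rfl
    exact hb' hp
  exact h.three (three_dvd hpb hσp h2 (hOf σ hσ b hb') hτp h3 (hOf' τ hτ a ha'))

end Cfsg.Agent.H170.Fl
end

-- part: H170/Fl/AbNormal
section
/-!
# Abelian normal subgroups act as `±1` (helper170)
-/

set_option autoImplicit false

namespace Cfsg.Agent.H170.Fl

open Module Cfsg.Agent.H167.OP Cfsg.Agent.H170.HL

variable {F : Type*} [Field F] {V : Type*} [AddCommGroup V] [Module F V] {G : Type*} [Group G]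

theorem mem_norm_iff {A : Subgroup G} [hA : A.Normal] (g x : G) : x ∈ A ↔ g⁻¹ * x * g ∈ A := by
  constructor
  · intro hx
    have := hA.conj_mem x hx g⁻¹
    rwa [inv_inv] at this
  · intro hx
    have := hA.conj_mem _ hx g
    convert this using 1
    group

theorem cj_one (E : Subgroup G) : cj 1 E = E := by
  ext x; rw [mem_cj]; simp

theorem cj_mul (g h : G) (E : Subgroup G) : cj (g * h) E = cj g (cj h E) := by
  ext x
  rw [mem_cj, mem_cj, mem_cj]
  have : (g * h)⁻¹ * x * (g * h) = h⁻¹ * (g⁻¹ * x * g) * h := by group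
  rw [this]

theorem maxIn_cj {A E : Subgroup G} [hA : A.Normal] (hE : MaxIn E A) (g : G) : MaxIn (cj g E) A := by
  refine ⟨fun x hx => ?_, fun x hx hxE => ?_⟩
  · rw [mem_cj] at hx
    exact (mem_norm_iff g x).mpr (hE.1 hx)
  · rw [mem_cj] at hxE
    have h1 := hE.2 _ ((mem_norm_iff g x).mp hx) hxE
    intro z hz
    have h2 := h1 ((mem_norm_iff g z).mp hz)
    have h3 : z ∈ cj g (E ⊔ Subgroup.zpowers (g⁻¹ * x * g)) := mem_cj.mpr h2
    rw [cj, Subgroup.map_sup, MonoidHom.map_zpowers] at h3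
    have h4 : (MulAut.conj g).toMonoidHom (g⁻¹ * x * g) = x := by
      show g * (g⁻¹ * x * g) * g⁻¹ = x
      group
    rw [h4] at h3
    exact h3

theorem VE_map [Finite G] (ρ : Representation F G V) {A E : Subgroup G} [hA : A.Normal] (g : G) {u : V}
    (hu : u ∈ VE ρ E A) : ρ g u ∈ VE ρ (cj g E) A := by
  refine ⟨fun e he => ?_, ?_⟩
  · rw [mem_cj] at he
    have h1 := hu.1 _ he
    have h2 : e * g = g * (g⁻¹ * e * g) := by group
    rw [← mul_ap, h2, mul_ap, h1]
  · rw [← avg_conj ρ A g (mem_norm_iff g), hu.2, map_zero]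

/-- the index set of the blocks given by an abelian normal subgroup -/
def Ix [Finite G] (ρ : Representation F G V) (A : Subgroup G) : Type _ :=
  {E : Subgroup G // MaxIn E A ∧ VE ρ E A ≠ ⊥}

instance instFiniteIx [Finite G] (ρ : Representation F G V) (A : Subgroup G) : Finite (Ix ρ A) :=
  inferInstanceAs (Finite {E : Subgroup G // MaxIn E A ∧ VE ρ E A ≠ ⊥})

noncomputable instance instActIx [Finite G] (ρ : Representation F G V) (A : Subgroup G) [hA : A.Normal] :
    MulAction G (Ix ρ A) where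
  smul g E := ⟨cj g E.1, maxIn_cj E.2.1 g, by
    obtain ⟨v, hv, hv0⟩ := (Submodule.ne_bot_iff _).mp E.2.2
    refine (Submodule.ne_bot_iff _).mpr ⟨ρ g v, VE_map ρ g hv, fun h => hv0 ?_⟩
    rw [← inv_ap ρ g v, h, map_zero]⟩
  one_smul E := Subtype.ext (cj_one _)
  mul_smul g h E := Subtype.ext (cj_mul g h _)

variable {ρ : Representation F G V} {R R' : Subgroup G}

theorem Hyp.card_ne [Finite G] (h : Hyp ρ R R') (A : Subgroup G) : (Nat.card A : F) ≠ 0 := by
  intro h0
  apply h.card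
  obtain ⟨k, hk⟩ := Subgroup.card_subgroup_dvd_card A
  rw [hk, Nat.cast_mul, h0, zero_mul]

theorem Hyp.prime_ne [Finite G] (h : Hyp ρ R R') {r : ℕ} (hr : r ∣ Nat.card G) : (r : F) ≠ 0 := by
  intro h0
  apply h.card
  obtain ⟨k, hk⟩ := hr
  rw [hk, Nat.cast_mul, h0, zero_mul]

/-- an operator commuting with `G` is a scalar -/
theorem Hyp.schur (h : Hyp ρ R R') (φ : Module.End F V) (hφ : ∀ g v, φ (ρ g v) = ρ g (φ v)) :
    ∃ c : F, ∀ v, φ v = c • v := by
  obtain ⟨c, hc⟩ := h.qr.scal φ fun r _ v => hφ r v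
  refine ⟨c, fun v => ?_⟩
  have h1 : LinearMap.ker (φ - c • (1 : Module.End F V)) = ⊤ := by
    rcases h.irr (LinearMap.ker (φ - c • (1 : Module.End F V))) (by
      intro g m hm
      rw [LinearMap.mem_ker] at hm ⊢
      show φ (ρ g m) - c • ρ g m = 0
      have : φ m - c • m = 0 := hm
      rw [hφ, ← map_smul, ← map_sub, this, map_zero]) with h2 | h2
    · exfalso
      have h3 : CV ρ R ≤ ⊥ := by
        rw [← h2]
        intro u hu
        show φ u - c • u = 0
        rw [hc u hu, sub_self]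
      have h4 := h.qr.dim
      rw [le_bot_iff.mp h3, finrank_bot] at h4
      omega
    · exact h2
  have h2 : v ∈ LinearMap.ker (φ - c • (1 : Module.End F V)) := by rw [h1]; trivial
  exact sub_eq_zero.mp h2

/-- central elements act as `±1` -/
theorem Hyp.of_central (h : Hyp ρ R R') {a : G} (ha : ∀ x ∈ SI ρ, x * a = a * x) :
    (∀ v, ρ a v = v) ∨ (∀ v, ρ a v = -v) := by
  have hc : ∀ g : G, g * a = a * g := by
    refine h.of_SI (P := fun g => g * a = a * g) (by simp) ?_ ?_ ha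
    · intro x y hx hy
      rw [mul_assoc, hy, ← mul_assoc, hx, mul_assoc]
    · intro x hx
      rw [inv_mul_eq_iff_eq_mul, ← mul_assoc, hx, mul_inv_cancel_right]
  obtain ⟨c, hcc⟩ := h.schur (ρ a) fun g v => by rw [← mul_ap, ← mul_ap, hc g]
  exact h.scal a ⟨c, hcc⟩

/-- **elementary abelian normal subgroups** -/
theorem Hyp.elem [Finite G] (h : Hyp ρ R R') {r : ℕ} (hr : r.Prime) {A : Subgroup G} [hA : A.Normal]
    (hab : ∀ a ∈ A, ∀ b ∈ A, a * b = b * a) (hexp : ∀ a ∈ A, a ^ r = 1) {a : G} (ha : a ∈ A) :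
    (∀ v, ρ a v = v) ∨ (∀ v, ρ a v = -v) := by
  classical
  have := h.finDim
  by_cases ha1 : a = 1
  · left
    intro v
    rw [ha1, one_ap]
  have hrd : r ∣ Nat.card G := by
    have h1 : orderOf a ∣ r := orderOf_dvd_of_pow_eq_one (hexp a ha)
    rcases (Nat.dvd_prime hr).mp h1 with h2 | h2
    · exact absurd (orderOf_eq_one_iff.mp h2) ha1
    · rw [← h2]
      exact orderOf_dvd_natCard a
  have hrF := h.prime_ne hrd
  have hcA := h.card_ne A
  have hρ : ∃ d ∈ A, ρ d ≠ 1 := ⟨a, ha, fun h0 => ha1 (h.inj (by rw [h0, map_one]))⟩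
  obtain ⟨E, hE, hne, hV⟩ := exists_VE ρ hr hrF hcA hab hexp hρ
  let B : Ix ρ A → Submodule F V := fun E => VE ρ E.1 A
  let i₀ : Ix ρ A := ⟨E, hE, hV⟩
  have hind : iSupIndep B := by
    intro i
    rw [Submodule.disjoint_def]
    intro v hv hv'
    have h1 : (⨆ j, ⨆ (_ : j ≠ i), B j) ≤ LinearMap.ker (avg ρ i.1) := by
      refine iSup₂_le fun j hj w hw => ?_
      rw [LinearMap.mem_ker]
      exact VE_avg_zero ρ hcA hab i.2.1 j.2.1 (fun h => hj (Subtype.ext h.symm)) hw
    have h2 := h1 hv'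
    rw [LinearMap.mem_ker, avg_fixed ρ i.1 (h.card_ne _) hv.1] at h2
    exact h2
  have hsup : ⨆ i, B i = ⊤ := by
    rcases h.irr (⨆ i, B i) (by
      intro g m hm
      have h1 : (⨆ i, B i) ≤ (⨆ i, B i).comap (ρ g) := by
        refine iSup_le fun i v hv => ?_
        exact (le_iSup B (g • i)) (VE_map ρ g hv)
      exact h1 hm) with h1 | h1
    · exfalso
      apply hV
      rw [eq_bot_iff, ← h1]
      exact le_iSup B i₀
    · exact h1
  have hB : Blk ρ B := ⟨fun g i v hv => VE_map ρ g hv, fun i => i.2.2, hind, hsup⟩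
  have hsub : Subsingleton (Ix ρ A) := by
    by_contra hcon
    rw [not_subsingleton_iff_nontrivial] at hcon
    exact h.no_blocks hB
  have htop : VE ρ E A = ⊤ := by
    rw [eq_top_iff, ← hsup]
    refine iSup_le fun i => ?_
    rw [Subsingleton.elim i i₀]
  have hE1 : ∀ e ∈ E, e = 1 := by
    intro e he
    apply h.inj
    rw [map_one]
    apply LinearMap.ext
    intro v
    have hv : v ∈ VE ρ E A := by rw [htop]; trivial
    exact hv.1 e he
  -- nontrivial elements of `A` have no fixed vectors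
  have hfix : ∀ b ∈ A, b ≠ 1 → ∀ v, ρ b v = v → v = 0 := by
    intro b hb hb1 v hv
    have h1 : b ∉ E := fun hbE => hb1 (hE1 b hbE)
    have h2 := hE.2 b hb h1
    have h3 : ∀ d ∈ A, ρ d v = v := by
      let T : Subgroup G :=
        { carrier := {g | ρ g v = v}
          one_mem' := one_ap ρ _
          mul_mem' := by
            intro a b ha hb
            show ρ (a * b) _ = _
            rw [mul_ap, hb, ha]
          inv_mem' := by
            intro a ha
            show ρ a⁻¹ _ = _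
            have : ρ a v = v := ha
            conv_lhs => rw [← this]
            rw [inv_ap] }
      have h4 : A ≤ T := by
        refine h2.trans (sup_le ?_ ?_)
        · intro e he
          rw [hE1 e he]
          exact T.one_mem
        · rw [Subgroup.zpowers_le]
          exact hv
      exact fun d hd => h4 hd
    have h5 : v ∈ VE ρ E A := by rw [htop]; trivial
    rw [← avg_fixed ρ A hcA h3, h5.2]
  refine h.of_central fun x hx => ?_
  by_contra hxa
  set a' := x * a * x⁻¹ with ha'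
  have ha'A : a' ∈ A := hA.conj_mem a ha x
  have hne' : a⁻¹ * a' ≠ 1 := by
    intro h1
    apply hxa
    have h2 : a' = a := by
      rw [inv_mul_eq_one] at h1
      exact h1.symm
    rw [ha'] at h2
    calc x * a = x * a * x⁻¹ * x := by group
      _ = a * x := by rw [h2]
  have hxx : x⁻¹ = x := by
    rw [inv_eq_iff_mul_eq_one]; exact hx.1
  have h1 := anti h.two ρ (x := x) (ρ a - ρ a') ?_ ?_
  · have := h.five
    have := hx.2
    omega
  · rw [injective_iff_map_eq_zero]
    intro v hv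
    have h2 : ρ a v = ρ a' v := sub_eq_zero.mp hv
    apply hfix _ (A.mul_mem (A.inv_mem ha) ha'A) hne' v
    rw [mul_ap, ← h2, inv_ap]
  · intro v
    show ρ a (ρ x v) - ρ a' (ρ x v) = -(ρ x (ρ a v - ρ a' v))
    rw [map_sub, ← mul_ap, ← mul_ap, ← mul_ap, ← mul_ap]
    have h2 : a' * x = x * a := by rw [ha']; group
    have h3 : x * a' = a * x := by
      rw [ha', hxx]
      calc x * (x * a * x) = (x * x) * (a * x) := by group
        _ = a * x := by rw [hx.1, one_mul]
    rw [h2, h3]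
    abel

end Cfsg.Agent.H170.Fl
end

-- part: H170/Fl/TwoNormal
section
/-!
# Normal 2-subgroups: reduction to class two (helper170)
-/

set_option autoImplicit false

namespace Cfsg.Agent.H170.Fl

open Module Cfsg.Agent.H167.OP Cfsg.Agent.H170.HL

section grp

variable {G : Type*} [Group G] [Finite G]

/-- a minimal normal 2-subgroup outside a normal subgroup `Z` -/
theorem exists_minN (Z : Subgroup G) [hZ : Z.Normal] {P : Subgroup G} (hPn : P.Normal)
    (hP : IsPGroup 2 P) (hPZ : ¬ P ≤ Z) :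
    ∃ N : Subgroup G, N.Normal ∧ IsPGroup 2 N ∧ ¬ N ≤ Z ∧
      (∀ a ∈ N, ∀ b ∈ N, a * b * a⁻¹ * b⁻¹ ∈ Z) ∧ ∀ a ∈ N, a * a ∈ Z := by
  classical
  let S : Set (Subgroup G) := {N | N.Normal ∧ IsPGroup 2 N ∧ ¬ N ≤ Z}
  obtain ⟨N, ⟨hNn, hN, hNZ⟩, hmin⟩ := (Set.toFinite S).exists_minimal ⟨P, hPn, hP, hPZ⟩
  have hmin' : ∀ M : Subgroup G, M.Normal → M ≤ N → ¬ M ≤ Z → M = N := by
    intro M hM hMN hMZ
    exact le_antisymm hMN (hmin ⟨hM, hN.to_le hMN, hMZ⟩ hMN)
  -- the quotient
  let Q := N ⧸ Z.subgroupOf N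
  have hQ : IsPGroup 2 Q := hN.to_quotient _
  have hnt : Nontrivial Q := by
    rw [← not_subsingleton_iff_nontrivial]
    intro hs
    apply hNZ
    intro a ha
    have h1 : (QuotientGroup.mk (⟨a, ha⟩ : N) : Q) = 1 := Subsingleton.elim _ _
    rw [QuotientGroup.eq_one_iff, Subgroup.mem_subgroupOf] at h1
    exact h1
  have hmk : ∀ a : N, (QuotientGroup.mk a : Q) = 1 ↔ (a : G) ∈ Z := by
    intro a
    rw [QuotientGroup.eq_one_iff, Subgroup.mem_subgroupOf]
  have hcomm : ∀ a ∈ N, ∀ b ∈ N, a * b * a⁻¹ * b⁻¹ ∈ Z := by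
    let M : Subgroup G :=
      { carrier := {a | a ∈ N ∧ ∀ b ∈ N, a * b * a⁻¹ * b⁻¹ ∈ Z}
        one_mem' := ⟨N.one_mem, fun b _ => by simp⟩
        mul_mem' := by
          rintro a c ⟨ha, ha'⟩ ⟨hc, hc'⟩
          refine ⟨N.mul_mem ha hc, fun b hb => ?_⟩
          have h1 : a * c * b * (a * c)⁻¹ * b⁻¹ = a * (c * b * c⁻¹ * b⁻¹) * a⁻¹ * (a * b * a⁻¹ * b⁻¹) := by
            group
          rw [h1]
          exact Z.mul_mem (hZ.conj_mem _ (hc' b hb) a) (ha' b hb)
        inv_mem' := by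
          rintro a ⟨ha, ha'⟩
          refine ⟨N.inv_mem ha, fun b hb => ?_⟩
          have h1 : a⁻¹ * b * a⁻¹⁻¹ * b⁻¹ = a⁻¹ * (a * b * a⁻¹ * b⁻¹)⁻¹ * a⁻¹⁻¹ := by group
          rw [h1]
          exact hZ.conj_mem _ (Z.inv_mem (ha' b hb)) a⁻¹ }
    have hMn : M.Normal := by
      refine ⟨?_⟩
      rintro a ⟨ha, ha'⟩ g
      refine ⟨hNn.conj_mem a ha g, fun b hb => ?_⟩
      have h1 : g * a * g⁻¹ * b * (g * a * g⁻¹)⁻¹ * b⁻¹ =
          g * (a * (g⁻¹ * b * g) * a⁻¹ * (g⁻¹ * b * g)⁻¹) * g⁻¹ := by group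
      rw [h1]
      exact hZ.conj_mem _ (ha' _ ((mem_norm_iff g b).mp hb)) g
    have hMZ : ¬ M ≤ Z := by
      intro hle
      have hc := hQ.center_nontrivial
      obtain ⟨⟨q, hq⟩, hq1⟩ := exists_ne (1 : Subgroup.center Q)
      obtain ⟨a, rfl⟩ := QuotientGroup.mk_surjective q
      apply hq1
      apply Subtype.ext
      show (QuotientGroup.mk a : Q) = 1
      rw [hmk]
      apply hle
      refine ⟨a.2, fun b hb => ?_⟩
      have h1 := Subgroup.mem_center_iff.mp hq (QuotientGroup.mk ⟨b, hb⟩)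
      have h2 : (QuotientGroup.mk (a * ⟨b, hb⟩ * a⁻¹ * (⟨b, hb⟩ : N)⁻¹) : Q) = 1 := by
        rw [QuotientGroup.mk_mul, QuotientGroup.mk_mul, QuotientGroup.mk_mul, QuotientGroup.mk_inv,
          QuotientGroup.mk_inv, ← h1, mul_inv_cancel_right, mul_inv_cancel]
      rw [hmk] at h2
      exact h2
    have hMN := hmin' M hMn (fun x hx => hx.1) hMZ
    intro a ha b hb
    rw [← hMN] at ha
    exact ha.2 b hb
  refine ⟨N, hNn, hN, hNZ, hcomm, ?_⟩
  let M : Subgroup G :=
    { carrier := {a | a ∈ N ∧ a * a ∈ Z}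
      one_mem' := ⟨N.one_mem, by simp⟩
      mul_mem' := by
        rintro a c ⟨ha, ha'⟩ ⟨hc, hc'⟩
        refine ⟨N.mul_mem ha hc, ?_⟩
        have h1 : a * c * (a * c) = (a * a) * (a⁻¹ * c * a⁻¹⁻¹ * c⁻¹) * (c * c) := by group
        rw [h1]
        exact Z.mul_mem (Z.mul_mem ha' (hcomm _ (N.inv_mem ha) _ hc)) hc'
      inv_mem' := by
        rintro a ⟨ha, ha'⟩
        refine ⟨N.inv_mem ha, ?_⟩
        have h1 : a⁻¹ * a⁻¹ = (a * a)⁻¹ := by group
        rw [h1]
        exact Z.inv_mem ha' }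
  have hMn : M.Normal := by
    refine ⟨?_⟩
    rintro a ⟨ha, ha'⟩ g
    refine ⟨hNn.conj_mem a ha g, ?_⟩
    have h1 : g * a * g⁻¹ * (g * a * g⁻¹) = g * (a * a) * g⁻¹ := by group
    rw [h1]
    exact hZ.conj_mem _ ha' g
  have hMZ : ¬ M ≤ Z := by
    intro hle
    have h2 : 2 ∣ Nat.card Q := by
      obtain ⟨n, hn⟩ := hQ.exists_card_eq
      have h3 : 1 < Nat.card Q := Finite.one_lt_card
      rw [hn] at h3 ⊢
      rcases n with _ | n
      · simp at h3
      · exact dvd_pow_self 2 (Nat.succ_ne_zero n)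
    have : Fact (Nat.Prime 2) := ⟨Nat.prime_two⟩
    obtain ⟨q, hq⟩ := exists_prime_orderOf_dvd_card' (G := Q) 2 h2
    obtain ⟨a, rfl⟩ := QuotientGroup.mk_surjective q
    have h3 : (a : G) ∈ Z := by
      apply hle
      refine ⟨a.2, ?_⟩
      have h4 : (QuotientGroup.mk (a * a) : Q) = 1 := by
        rw [QuotientGroup.mk_mul, ← pow_two, ← hq, pow_orderOf_eq_one]
      rw [hmk] at h4
      exact h4
    rw [← hmk] at h3
    rw [h3, orderOf_one] at hq
    norm_num at hq
  have hMN := hmin' M hMn (fun x hx => hx.1) hMZ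
  intro a ha
  rw [← hMN] at ha
  exact ha.2

end grp

variable {F : Type*} [Field F] {V : Type*} [AddCommGroup V] [Module F V] {G : Type*} [Group G]
  {ρ : Representation F G V} {R R' : Subgroup G}

/-- the elements acting as `±1` -/
def Sc (ρ : Representation F G V) : Subgroup G where
  carrier := {g | (∀ v, ρ g v = v) ∨ (∀ v, ρ g v = -v)}
  one_mem' := Or.inl fun v => one_ap ρ v
  mul_mem' := by
    rintro a b (ha | ha) (hb | hb)
    · exact Or.inl fun v => by rw [mul_ap, hb, ha]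
    · exact Or.inr fun v => by rw [mul_ap, hb, ha]
    · exact Or.inr fun v => by rw [mul_ap, hb, ha]
    · exact Or.inl fun v => by rw [mul_ap, hb, ha, neg_neg]
  inv_mem' := by
    rintro a (ha | ha)
    · exact Or.inl fun v => by conv_lhs => rw [← ha v, inv_ap]
    · refine Or.inr fun v => ?_
      have h1 := inv_ap ρ a v
      rw [ha, map_neg] at h1
      exact neg_eq_iff_eq_neg.mp h1

instance instScNormal : (Sc ρ).Normal := by
  refine ⟨?_⟩
  rintro a (ha | ha) g
  · exact Or.inl fun v => by rw [mul_ap, mul_ap, ha, ap_inv]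
  · exact Or.inr fun v => by rw [mul_ap, mul_ap, ha, map_neg, ap_inv]

theorem Sc_comm (hρ : Function.Injective ρ) {a : G} (ha : a ∈ Sc ρ) (g : G) : g * a = a * g := by
  apply hρ
  apply LinearMap.ext
  intro v
  rw [mul_ap, mul_ap]
  rcases ha with ha | ha
  · rw [ha, ha]
  · rw [ha, ha, map_neg]

theorem Sc_sq (hρ : Function.Injective ρ) {a : G} (ha : a ∈ Sc ρ) : a * a = 1 := by
  apply hρ
  rw [map_one]
  apply LinearMap.ext
  intro v
  rw [mul_ap]
  rcases ha with ha | ha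
  · rw [ha, ha]; rfl
  · rw [ha, ha, neg_neg]; rfl

/-- **abelian normal 2-subgroups act as `±1`** -/
theorem Hyp.abel_two [Finite G] (h : Hyp ρ R R') {A : Subgroup G} [hA : A.Normal]
    (hab : ∀ a ∈ A, ∀ b ∈ A, a * b = b * a) (h2 : IsPGroup 2 A) : A ≤ Sc ρ := by
  classical
  have := h.finDim
  -- the elements of order at most two
  let Om : Subgroup G :=
    { carrier := {d | d ∈ A ∧ d ^ 2 = 1}
      one_mem' := ⟨A.one_mem, one_pow _⟩
      mul_mem' := by
        rintro a b ⟨ha, ha1⟩ ⟨hb, hb1⟩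
        refine ⟨A.mul_mem ha hb, ?_⟩
        rw [(show Commute a b from hab a ha b hb).mul_pow, ha1, hb1, one_mul]
      inv_mem' := by
        rintro a ⟨ha, ha1⟩
        exact ⟨A.inv_mem ha, by rw [inv_pow, ha1, inv_one]⟩ }
  have hOm : Om.Normal := by
    refine ⟨?_⟩
    rintro a ⟨ha, ha'⟩ g
    exact ⟨hA.conj_mem a ha g, by rw [conj_pow, ha', mul_one, mul_inv_cancel]⟩
  have hOmS : Om ≤ Sc ρ := fun a ha =>
    h.elem Nat.prime_two (A := Om) (fun x hx y hy => hab x hx.1 y hy.1) (fun x hx => hx.2) ha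
  have key : ∀ k : ℕ, ∀ a ∈ A, a ^ 2 ^ k = 1 → a ∈ Sc ρ := by
    intro k
    induction k with
    | zero =>
      intro a _ ha1
      rw [pow_zero, pow_one] at ha1
      rw [ha1]
      exact Subgroup.one_mem _
    | succ k ih =>
      intro a ha ha1
      have h3 : a * a ∈ Sc ρ := by
        apply ih _ (A.mul_mem ha ha)
        rw [← pow_two, ← pow_mul, ← pow_succ', ha1]
      rcases h3 with h3 | h3
      · apply hOmS
        refine ⟨ha, ?_⟩
        rw [pow_two]
        apply h.inj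
        rw [map_one]
        exact LinearMap.ext h3
      · -- `a² = -1`
        refine h.of_central fun x hx => ?_
        set a' := x * a * x⁻¹ with ha'
        have ha'A : a' ∈ A := hA.conj_mem a ha x
        have h4 : a' * a' = a * a := by
          have h5 : a' * a' = x * (a * a) * x⁻¹ := by rw [ha']; group
          rw [h5]
          apply h.inj
          apply LinearMap.ext
          intro v
          rw [mul_ap, mul_ap, h3, map_neg, ap_inv, h3]
        have h5 : a⁻¹ * a' ∈ Om := by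
          refine ⟨A.mul_mem (A.inv_mem ha) ha'A, ?_⟩
          rw [(show Commute a⁻¹ a' from hab _ (A.inv_mem ha) _ ha'A).mul_pow, pow_two a', h4, inv_pow,
            pow_two, inv_mul_cancel]
        have hx' : x * a = a' * x := by rw [ha']; group
        rcases hOmS h5 with h6 | h6
        · have h7 : a⁻¹ * a' = 1 := by
            apply h.inj
            rw [map_one]
            exact LinearMap.ext h6
          rw [inv_mul_eq_one] at h7
          rw [hx', ← h7]
        · exfalso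
          have h7 : ∀ v, ρ a' v = -(ρ a v) := by
            intro v
            have h8 : a' = a * (a⁻¹ * a') := by group
            rw [h8, mul_ap, h6, map_neg]
          have h8 := anti h.two ρ (x := x) (ρ a) (Blk.rho_inj ρ a) (by
            intro v
            rw [← mul_ap ρ x a, hx', mul_ap, h7, neg_neg])
          have := h.five
          have := hx.2
          omega
  intro a ha
  obtain ⟨k, hk⟩ := h2 ⟨a, ha⟩
  exact key k a ha (congrArg Subtype.val hk)

/-- a normal extraspecial subgroup -/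
theorem Hyp.exists_N [Finite G] (h : Hyp ρ R R') {P : Subgroup G} (hPn : P.Normal)
    (hP : IsPGroup 2 P) (hPZ : ¬ P ≤ Sc ρ) :
    ∃ N : Subgroup G, N.Normal ∧ IsPGroup 2 N ∧ ¬ N ≤ Sc ρ ∧
      (∀ a ∈ N, ∀ b ∈ N, a * b * a⁻¹ * b⁻¹ ∈ Sc ρ) ∧ (∀ a ∈ N, a * a ∈ Sc ρ) ∧
      ∀ a ∈ N, (∀ b ∈ N, a * b = b * a) → a ∈ Sc ρ := by
  obtain ⟨N, h1, h2, h3, h4, h5⟩ := exists_minN (Sc ρ) hPn hP hPZ
  refine ⟨N, h1, h2, h3, h4, h5, ?_⟩
  intro a ha hac
  let C : Subgroup G :=
    { carrier := {a | a ∈ N ∧ ∀ b ∈ N, a * b = b * a}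
      one_mem' := ⟨N.one_mem, fun b _ => by simp⟩
      mul_mem' := by
        rintro a c ⟨ha, ha'⟩ ⟨hc, hc'⟩
        refine ⟨N.mul_mem ha hc, fun b hb => ?_⟩
        rw [mul_assoc, hc' b hb, ← mul_assoc, ha' b hb, mul_assoc]
      inv_mem' := by
        rintro a ⟨ha, ha'⟩
        refine ⟨N.inv_mem ha, fun b hb => ?_⟩
        rw [inv_mul_eq_iff_eq_mul, ← mul_assoc, ha' b hb, mul_inv_cancel_right] }
  have hCn : C.Normal := by
    refine ⟨?_⟩
    rintro a ⟨ha, ha'⟩ g
    refine ⟨h1.conj_mem a ha g, fun b hb => ?_⟩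
    have h6 := ha' _ ((mem_norm_iff g b).mp hb)
    calc g * a * g⁻¹ * b = g * (a * (g⁻¹ * b * g)) * g⁻¹ := by group
      _ = g * ((g⁻¹ * b * g) * a) * g⁻¹ := by rw [h6]
      _ = b * (g * a * g⁻¹) := by group
  exact h.abel_two (A := C) (fun x hx y hy => hx.2 y hy.1) (h2.to_le fun x hx => hx.1) ⟨ha, hac⟩

end Cfsg.Agent.H170.Fl
end

-- part: H170/Fl/Grade
section
/-!
# The grading of `End V` given by a group of class two (helper170)

`N` a finite group acting on `V` (order prime to the characteristic), commutators act as `±1`, the centre acts as `±1`;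
`X` the subgroup acting as `±1`. Then `End V` is the direct sum of the spaces `ρ(n) C(N)`, `n ∈ N/X`.
-/

set_option autoImplicit false

namespace Cfsg.Agent.H170.Fl

open Module Cfsg.Agent.H167.OP Cfsg.Agent.H170.HL

variable {F : Type*} [Field F] {V : Type*} [AddCommGroup V] [Module F V] {G : Type*} [Group G]

/-- `N` is of class two and all its central elements and commutators act as `±1` -/
structure Gr (ρ : Representation F G V) (N : Subgroup G) : Prop where
  inj : Function.Injective ρ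
  two : (2 : F) ≠ 0
  card : (Nat.card N : F) ≠ 0
  comm : ∀ a ∈ N, ∀ b ∈ N, a * b * a⁻¹ * b⁻¹ ∈ Sc ρ
  cen : ∀ a ∈ N, (∀ b ∈ N, a * b = b * a) → a ∈ Sc ρ

section sign

variable (ρ : Representation F G V)

open Classical in
/-- the sign of an element of `Sc ρ` -/
noncomputable def sg (g : G) : F := if ∀ v, ρ g v = v then 1 else -1

variable {ρ}

theorem sg_smul {g : G} (hg : g ∈ Sc ρ) (v : V) : ρ g v = sg ρ g • v := by
  unfold sg
  by_cases h : ∀ v, ρ g v = v
  · rw [if_pos h, one_smul, h]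
  · rw [if_neg h, neg_smul, one_smul]
    exact (hg.resolve_left h) v

theorem sg_unique [Nontrivial V] {g : G} (hg : g ∈ Sc ρ) {c : F} (hc : ∀ v, ρ g v = c • v) :
    sg ρ g = c := by
  obtain ⟨v, hv⟩ := exists_ne (0 : V)
  have h1 : (sg ρ g - c) • v = 0 := by rw [sub_smul, ← sg_smul hg, ← hc, sub_self]
  exact sub_eq_zero.mp ((smul_eq_zero.mp h1).resolve_right hv)

theorem sg_mul [Nontrivial V] {g h : G} (hg : g ∈ Sc ρ) (hh : h ∈ Sc ρ) :
    sg ρ (g * h) = sg ρ g * sg ρ h := by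
  refine sg_unique ((Sc ρ).mul_mem hg hh) fun v => ?_
  rw [mul_ap, sg_smul hh, map_smul, sg_smul hg, smul_smul, mul_comm]

theorem sg_one : sg ρ 1 = 1 := by
  unfold sg
  rw [if_pos fun v => one_ap ρ v]

theorem sg_sq (g : G) : sg ρ g * sg ρ g = 1 := by
  unfold sg
  split_ifs <;> ring

theorem sg_inv (g : G) (hg : g ∈ Sc ρ) [Nontrivial V] : sg ρ g⁻¹ = sg ρ g := by
  have h1 : sg ρ g * sg ρ g⁻¹ = 1 := by
    rw [← sg_mul hg ((Sc ρ).inv_mem hg), mul_inv_cancel, sg_one]
  have h2 := sg_sq (ρ := ρ) g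
  have h0 : sg ρ g ≠ 0 := by
    intro h0
    rw [h0, zero_mul] at h1
    exact zero_ne_one h1
  exact mul_left_cancel₀ h0 (h1.trans h2.symm)

theorem eq_one_of_sg (hρ : Function.Injective ρ) (h2 : (2 : F) ≠ 0) {g : G} (h : sg ρ g = 1) : g = 1 := by
  unfold sg at h
  by_cases h1 : ∀ v, ρ g v = v
  · apply hρ
    rw [map_one]
    exact LinearMap.ext h1
  · rw [if_neg h1] at h
    exfalso
    apply h2
    have : (1 : F) + 1 = 0 := by nth_rw 1 [← h]; ring
    rw [← one_add_one_eq_two, this]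

variable (ρ) in
/-- the commutator sign -/
noncomputable def ep (a b : G) : F := sg ρ (a * b * a⁻¹ * b⁻¹)

theorem ep_sq (a b : G) : ep ρ a b * ep ρ a b = 1 := sg_sq _

theorem ep_ne (a b : G) : ep ρ a b ≠ 0 := fun h => by
  have := ep_sq (ρ := ρ) a b
  rw [h, zero_mul] at this
  exact zero_ne_one this

end sign

namespace Gr

variable {ρ : Representation F G V} {N : Subgroup G}

theorem ep_mul_left [Nontrivial V] (h : Gr ρ N) {a b c : G} (ha : a ∈ N) (hb : b ∈ N) (hc : c ∈ N) :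
    ep ρ (a * b) c = ep ρ a c * ep ρ b c := by
  unfold ep
  rw [← sg_mul (h.comm a ha c hc) (h.comm b hb c hc)]
  congr 1
  have h1 : a * b * c * (a * b)⁻¹ * c⁻¹ = a * (b * c * b⁻¹ * c⁻¹) * (c * a⁻¹ * c⁻¹) := by group
  rw [h1, Sc_comm h.inj (h.comm b hb c hc) a]
  have h2 := Sc_comm h.inj (h.comm b hb c hc) (a * c * a⁻¹ * c⁻¹)
  rw [h2]
  group

theorem ep_symm [Nontrivial V] (h : Gr ρ N) {a b : G} (ha : a ∈ N) (hb : b ∈ N) :
    ep ρ a b = ep ρ b a := by
  unfold ep
  rw [← sg_inv _ (h.comm b hb a ha)]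
  congr 1
  group

theorem ep_mul_right [Nontrivial V] (h : Gr ρ N) {a b c : G} (ha : a ∈ N) (hb : b ∈ N) (hc : c ∈ N) :
    ep ρ a (b * c) = ep ρ a b * ep ρ a c := by
  rw [h.ep_symm ha (N.mul_mem hb hc), h.ep_mul_left hb hc ha, h.ep_symm hb ha, h.ep_symm hc ha]

theorem ep_Sc (h : Gr ρ N) (a : G) {s : G} (hs : s ∈ Sc ρ) : ep ρ a s = 1 := by
  unfold ep
  rw [Sc_comm h.inj hs a, mul_inv_cancel_right, mul_inv_cancel, sg_one]

theorem ep_Sc' (h : Gr ρ N) (a : G) {s : G} (hs : s ∈ Sc ρ) : ep ρ s a = 1 := by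
  unfold ep
  rw [← Sc_comm h.inj hs a, mul_inv_cancel_right, mul_inv_cancel, sg_one]

theorem ep_one_right (a : G) : ep ρ a 1 = 1 := by
  unfold ep; simp [sg_one]

theorem ep_one_left (a : G) : ep ρ 1 a = 1 := by
  unfold ep; simp [sg_one]

theorem comm_of_ep (h : Gr ρ N) {a b : G} (he : ep ρ a b = 1) : a * b = b * a := by
  have h1 := eq_one_of_sg h.inj h.two he
  have h2 : a * b = (a * b * a⁻¹ * b⁻¹) * (b * a) := by group
  rw [h2, h1, one_mul]

theorem conj_ap (h : Gr ρ N) {a b : G} (ha : a ∈ N) (hb : b ∈ N) :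
    ρ a * ρ b * ρ a⁻¹ = ep ρ a b • ρ b := by
  apply LinearMap.ext
  intro v
  rw [← map_mul, ← map_mul]
  have h1 : a * b * a⁻¹ = (a * b * a⁻¹ * b⁻¹) * b := by group
  rw [h1, mul_ap, sg_smul (h.comm a ha b hb)]
  rfl

end Gr

/-- the commutant -/
def Cm (ρ : Representation F G V) (N : Subgroup G) : Submodule F (End F V) where
  carrier := {A | ∀ b ∈ N, ρ b * A = A * ρ b}
  zero_mem' := fun b _ => by rw [mul_zero, zero_mul]
  add_mem' := fun {A B} hA hB b hb => by rw [mul_add, add_mul, hA b hb, hB b hb]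
  smul_mem' := fun c A hA b hb => by rw [mul_smul_comm, smul_mul_assoc, hA b hb]

theorem rho_mul_inv (ρ : Representation F G V) (g : G) : ρ g * ρ g⁻¹ = 1 := by
  rw [← map_mul, mul_inv_cancel, map_one]

theorem rho_inv_mul (ρ : Representation F G V) (g : G) : ρ g⁻¹ * ρ g = 1 := by
  rw [← map_mul, inv_mul_cancel, map_one]

/-- the conjugate of an operator -/
theorem Cm_conj {ρ : Representation F G V} {N : Subgroup G} {A : End F V} (hA : A ∈ Cm ρ N) {b : G}
    (hb : b ∈ N) : ρ b * A * ρ b⁻¹ = A := by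
  rw [hA b hb, mul_assoc, rho_mul_inv, mul_one]

section proj

variable (ρ : Representation F G V) (N : Subgroup G) [Fintype N]

/-- the projection to `ρ n · C(N)` -/
noncomputable def PP (n : G) : End F V →ₗ[F] End F V :=
  (Nat.card N : F)⁻¹ • ∑ m : N, ep ρ m n •
    (LinearMap.mulLeft F (ρ (m : G)) ∘ₗ LinearMap.mulRight F (ρ (m : G)⁻¹))

theorem PP_apply (n : G) (A : End F V) :
    PP ρ N n A = (Nat.card N : F)⁻¹ • ∑ m : N, ep ρ m n • (ρ (m : G) * A * ρ (m : G)⁻¹) := by
  unfold PP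
  rw [LinearMap.smul_apply, LinearMap.sum_apply]
  rfl

end proj

namespace Gr

variable {ρ : Representation F G V} {N : Subgroup G}

section

variable [Fintype N]

/-- `ρ b P(n) A ρ b⁻¹ = ε(b,n) P(n) A` -/
theorem conj_PP [Nontrivial V] (h : Gr ρ N) {n b : G} (hn : n ∈ N) (hb : b ∈ N) (A : End F V) :
    ρ b * PP ρ N n A * ρ b⁻¹ = ep ρ b n • PP ρ N n A := by
  rw [PP_apply, mul_smul_comm, smul_mul_assoc, Finset.mul_sum, Finset.sum_mul, smul_comm]
  congr 1
  rw [Finset.smul_sum]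
  refine Fintype.sum_equiv (Equiv.mulLeft (⟨b, hb⟩ : N)) _ _ fun m => ?_
  rw [Equiv.coe_mulLeft]
  show _ = ep ρ b n • (ep ρ (b * m) n • (ρ (b * m) * A * ρ (b * (m : G))⁻¹))
  rw [h.ep_mul_left hb m.2 hn, smul_smul, ← mul_assoc, ep_sq, one_mul, mul_smul_comm, smul_mul_assoc]
  rw [mul_inv_rev, map_mul, map_mul]
  simp only [mul_assoc]

/-- `ρ n⁻¹ P(n) A` commutes with `N` -/
theorem inv_PP_mem [Nontrivial V] (h : Gr ρ N) {n : G} (hn : n ∈ N) (A : End F V) :
    ρ n⁻¹ * PP ρ N n A ∈ Cm ρ N := by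
  intro b hb
  have h1 := h.conj_PP hn hb A
  have h2 := h.conj_ap (N.inv_mem hb) hn
  -- `ρ b⁻¹ ρ n ρ b = ε ρ n`
  have h3 : ρ b * ρ n⁻¹ = ep ρ b n • (ρ n⁻¹ * ρ b) := by
    have h4 : ρ (b * n⁻¹ * b⁻¹) = ep ρ b n • ρ n⁻¹ := by
      have h5 := h.conj_ap hb (N.inv_mem hn)
      rw [← map_mul, ← map_mul] at h5
      rw [h5]
      congr 1
      have h6 : ep ρ b (n * n⁻¹) = ep ρ b n * ep ρ b n⁻¹ := h.ep_mul_right hb hn (N.inv_mem hn)
      rw [mul_inv_cancel, ep_one_right] at h6
      have h7 := ep_sq (ρ := ρ) b n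
      exact mul_left_cancel₀ (ep_ne b n) (h6.symm.trans h7.symm)
    have h5 : b * n⁻¹ = (b * n⁻¹ * b⁻¹) * b := by group
    rw [← map_mul, h5, map_mul, h4, smul_mul_assoc]
  have h4 : ρ b * PP ρ N n A = ep ρ b n • (PP ρ N n A * ρ b) := by
    have h5 : ρ b * PP ρ N n A * ρ b⁻¹ * ρ b = ep ρ b n • (PP ρ N n A * ρ b) := by
      rw [h1, smul_mul_assoc]
    rw [mul_assoc, rho_inv_mul, mul_one] at h5
    exact h5
  rw [← mul_assoc, h3, smul_mul_assoc, mul_assoc, h4, mul_smul_comm, smul_smul, ep_sq, one_smul,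
    mul_assoc]

/-- the value on `ρ n' B` -/
theorem PP_rho_mul [Nontrivial V] (h : Gr ρ N) {n n' : G} (hn : n ∈ N) (hn' : n' ∈ N) {B : End F V}
    (hB : B ∈ Cm ρ N) :
    PP ρ N n (ρ n' * B) = ((Nat.card N : F)⁻¹ * ∑ m : N, ep ρ m (n⁻¹ * n')) • (ρ n' * B) := by
  rw [PP_apply, mul_smul, Finset.sum_smul]
  congr 1
  refine Finset.sum_congr rfl fun m _ => ?_
  have h1 : ρ (m : G) * (ρ n' * B) * ρ (m : G)⁻¹ = ep ρ m n' • (ρ n' * B) := by
    have h2 : ρ (m : G) * (ρ n' * B) * ρ (m : G)⁻¹ =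
        (ρ (m : G) * ρ n' * ρ (m : G)⁻¹) * (ρ (m : G) * B * ρ (m : G)⁻¹) := by
      have : ρ (m : G)⁻¹ * ρ (m : G) = 1 := rho_inv_mul ρ _
      calc ρ (m : G) * (ρ n' * B) * ρ (m : G)⁻¹
          = ρ (m : G) * ρ n' * 1 * B * ρ (m : G)⁻¹ := by rw [mul_one]; simp only [mul_assoc]
        _ = _ := by rw [← this]; simp only [mul_assoc]
    rw [h2, h.conj_ap m.2 hn', Cm_conj hB m.2, smul_mul_assoc]
  rw [h1, smul_smul]
  congr 1
  rw [h.ep_mul_right m.2 (N.inv_mem hn) hn']
  congr 1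
  have h6 : ep ρ m (n * n⁻¹) = ep ρ m n * ep ρ m n⁻¹ := h.ep_mul_right m.2 hn (N.inv_mem hn)
  rw [mul_inv_cancel, ep_one_right] at h6
  have h7 := ep_sq (ρ := ρ) m n
  exact mul_left_cancel₀ (ep_ne _ n) (h7.trans h6)

/-- orthogonality -/
theorem sum_ep [Nontrivial V] (h : Gr ρ N) {n : G} (hn : n ∈ N) (hns : n ∉ Sc ρ) :
    ∑ m : N, ep ρ m n = 0 := by
  let φ : N →* F :=
    { toFun := fun m => ep ρ m n
      map_one' := ep_one_left n
      map_mul' := fun a b => h.ep_mul_left a.2 b.2 hn }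
  refine sum_hom_units_eq_zero φ fun hφ => hns ?_
  refine h.cen n hn fun b hb => ?_
  have h1 : ep ρ b n = 1 := DFunLike.congr_fun hφ (⟨b, hb⟩ : N)
  exact (h.comm_of_ep h1).symm

theorem sum_ep_Sc (h : Gr ρ N) {n : G} (hns : n ∈ Sc ρ) :
    ∑ m : N, ep ρ m n = (Nat.card N : F) := by
  have h1 : ∀ m : N, ep ρ (m : G) n = 1 := fun m => h.ep_Sc (m : G) hns
  simp only [h1, Finset.sum_const, Finset.card_univ, Nat.card_eq_fintype_card, nsmul_eq_mul, mul_one]

theorem PP_same [Nontrivial V] (h : Gr ρ N) {n n' : G} (hn : n ∈ N) (hn' : n' ∈ N)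
    (hs : n⁻¹ * n' ∈ Sc ρ) {B : End F V} (hB : B ∈ Cm ρ N) : PP ρ N n (ρ n' * B) = ρ n' * B := by
  rw [h.PP_rho_mul hn hn' hB, h.sum_ep_Sc hs, inv_mul_cancel₀ h.card, one_smul]

theorem PP_ne [Nontrivial V] (h : Gr ρ N) {n n' : G} (hn : n ∈ N) (hn' : n' ∈ N)
    (hs : n⁻¹ * n' ∉ Sc ρ) {B : End F V} (hB : B ∈ Cm ρ N) : PP ρ N n (ρ n' * B) = 0 := by
  rw [h.PP_rho_mul hn hn' hB, h.sum_ep (N.mul_mem (N.inv_mem hn) hn') hs, mul_zero, zero_smul]

/-- `P(n)` depends on `n` modulo `X` only -/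
theorem PP_congr [Nontrivial V] (h : Gr ρ N) {n n' : G} (hn : n ∈ N) (hn' : n' ∈ N)
    (hs : n⁻¹ * n' ∈ Sc ρ) : PP ρ N n = PP ρ N n' := by
  apply LinearMap.ext
  intro A
  rw [PP_apply, PP_apply]
  congr 1
  refine Finset.sum_congr rfl fun m _ => ?_
  congr 1
  have h1 : n' = n * (n⁻¹ * n') := by group
  rw [h1, h.ep_mul_right m.2 hn (N.mul_mem (N.inv_mem hn) hn'), h.ep_Sc _ hs, mul_one]

/-- conjugation by an element normalising `N` -/
theorem PP_conj (h : Gr ρ N) {y : G} (hy : ∀ m, m ∈ N ↔ y * m * y⁻¹ ∈ N) {n : G} (hn : n ∈ N)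
    {A : End F V} (hA : ρ y * A = A * ρ y) :
    PP ρ N (y * n * y⁻¹) A = ρ y * PP ρ N n A * ρ y⁻¹ := by
  have hA' : A = ρ y * A * ρ y⁻¹ := by rw [hA, mul_assoc, rho_mul_inv, mul_one]
  rw [PP_apply, PP_apply, mul_smul_comm, smul_mul_assoc]
  congr 1
  rw [Finset.mul_sum, Finset.sum_mul]
  let e : N ≃ N :=
    { toFun := fun m => ⟨y * m * y⁻¹, (hy m).mp m.2⟩
      invFun := fun m => ⟨y⁻¹ * m * y, by
        rw [hy]
        have : y * (y⁻¹ * (m : G) * y) * y⁻¹ = m := by group
        rw [this]; exact m.2⟩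
      left_inv := fun m => Subtype.ext (by show y⁻¹ * (y * (m : G) * y⁻¹) * y = m; group)
      right_inv := fun m => Subtype.ext (by show y * (y⁻¹ * (m : G) * y) * y⁻¹ = m; group) }
  refine (Fintype.sum_equiv e _ _ fun m => ?_).symm
  show _ = ep ρ (y * m * y⁻¹) (y * n * y⁻¹) • (ρ (y * m * y⁻¹) * A * ρ (y * m * y⁻¹)⁻¹)
  have h1 : ep ρ (y * m * y⁻¹) (y * n * y⁻¹) = ep ρ m n := by
    unfold ep
    congr 1
    have h2 : y * (m : G) * y⁻¹ * (y * n * y⁻¹) * (y * (m : G) * y⁻¹)⁻¹ * (y * n * y⁻¹)⁻¹ =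
        y * (m * n * (m : G)⁻¹ * n⁻¹) * y⁻¹ := by group
    rw [h2, Sc_comm h.inj (h.comm m m.2 n hn) y, mul_inv_cancel_right]
  rw [h1, mul_smul_comm, smul_mul_assoc]
  congr 1
  conv_lhs => rw [hA']
  have h2 : (y * (m : G) * y⁻¹)⁻¹ = y * (m : G)⁻¹ * y⁻¹ := by group
  rw [h2, map_mul, map_mul, map_mul, map_mul]
  have h3 : ρ y⁻¹ * ρ y = 1 := rho_inv_mul ρ y
  have h4 : ρ y * A * ρ y⁻¹ = A := hA'.symm
  calc ρ y * (ρ (m : G) * (ρ y * A * ρ y⁻¹) * ρ (m : G)⁻¹) * ρ y⁻¹
      = ρ y * ρ (m : G) * (ρ y * A * ρ y⁻¹) * ρ (m : G)⁻¹ * ρ y⁻¹ := by simp only [mul_assoc]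
    _ = ρ y * ρ (m : G) * A * ρ (m : G)⁻¹ * ρ y⁻¹ := by rw [h4]
    _ = ρ y * ρ (m : G) * (ρ y⁻¹ * A * ρ y) * ρ (m : G)⁻¹ * ρ y⁻¹ := by
        have h5 : ρ y⁻¹ * A * ρ y = A := by rw [mul_assoc, ← hA, ← mul_assoc, h3, one_mul]
        rw [h5]
    _ = _ := by simp only [mul_assoc]

/-! ### The decomposition -/

variable (ρ N) in
/-- `N` modulo the elements acting as `±1` -/
abbrev QQ : Type _ := N ⧸ (Sc ρ).subgroupOf N

variable (ρ N) in
/-- representatives -/
noncomputable def rp (q : QQ ρ N) : G := ((Quotient.out q : N) : G)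

omit [Fintype N] in
theorem rp_mem (q : QQ ρ N) : rp ρ N q ∈ N := (Quotient.out q : N).2

omit [Fintype N] in
theorem rp_inv_mul {n : G} (hn : n ∈ N) :
    (rp ρ N (QuotientGroup.mk ⟨n, hn⟩))⁻¹ * n ∈ Sc ρ := by
  have h1 : (QuotientGroup.mk (Quotient.out (QuotientGroup.mk ⟨n, hn⟩ : QQ ρ N)) : QQ ρ N) =
    QuotientGroup.mk ⟨n, hn⟩ := Quotient.out_eq' _
  have h2 := QuotientGroup.eq.mp h1
  rw [Subgroup.mem_subgroupOf] at h2
  exact h2

omit [Fintype N] in
theorem mk_rp (q : QQ ρ N) : (QuotientGroup.mk ⟨rp ρ N q, rp_mem q⟩ : QQ ρ N) = q := Quotient.out_eq' q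

omit [Fintype N] in
theorem rp_inj {q q' : QQ ρ N} (h : (rp ρ N q)⁻¹ * rp ρ N q' ∈ Sc ρ) : q = q' := by
  rw [← mk_rp q, ← mk_rp q', QuotientGroup.eq, Subgroup.mem_subgroupOf]
  exact h

variable [Fintype (QQ ρ N)]

/-- the second orthogonality -/
theorem sum_ep' [Nontrivial V] (h : Gr ρ N) {m : G} (hm : m ∈ N) (hms : m ∉ Sc ρ) :
    ∑ q : QQ ρ N, ep ρ m (rp ρ N q) = 0 := by
  have key : ∀ n : N, ep ρ m (rp ρ N (QuotientGroup.mk n)) = ep ρ m n := by
    intro n
    have h1 := rp_inv_mul (ρ := ρ) n.2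
    have h2 : (n : G) = rp ρ N (QuotientGroup.mk n) * ((rp ρ N (QuotientGroup.mk n))⁻¹ * n) := by group
    conv_rhs => rw [h2]
    rw [h.ep_mul_right hm (rp_mem _) (N.mul_mem (N.inv_mem (rp_mem _)) n.2), h.ep_Sc _ h1, mul_one]
  let φ : QQ ρ N →* F :=
    { toFun := fun q => ep ρ m (rp ρ N q)
      map_one' := by
        have := key 1
        rw [QuotientGroup.mk_one] at this
        rw [this]
        exact ep_one_right m
      map_mul' := fun a b => by
        obtain ⟨a, rfl⟩ := QuotientGroup.mk_surjective a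
        obtain ⟨b, rfl⟩ := QuotientGroup.mk_surjective b
        rw [← QuotientGroup.mk_mul, key, key, key]
        exact h.ep_mul_right hm a.2 b.2 }
  refine sum_hom_units_eq_zero φ fun hφ => hms ?_
  refine h.cen m hm fun b hb => ?_
  have h1 : ep ρ m (rp ρ N (QuotientGroup.mk ⟨b, hb⟩)) = 1 := DFunLike.congr_fun hφ _
  rw [key] at h1
  exact h.comm_of_ep h1

/-- `A = ∑ P(n) A` -/
theorem sum_PP [Nontrivial V] (h : Gr ρ N) (A : End F V) :
    ∑ q : QQ ρ N, PP ρ N (rp ρ N q) A = A := by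
  classical
  have h1 : ∑ q : QQ ρ N, PP ρ N (rp ρ N q) A =
      (Nat.card N : F)⁻¹ • ∑ m : N, (∑ q : QQ ρ N, ep ρ m (rp ρ N q)) • (ρ (m : G) * A * ρ (m : G)⁻¹) := by
    rw [Finset.sum_congr rfl fun q _ => PP_apply ρ N (rp ρ N q) A, ← Finset.smul_sum, Finset.sum_comm]
    congr 1
    refine Finset.sum_congr rfl fun m _ => ?_
    rw [Finset.sum_smul]
  have h2 : ∀ m : N, (∑ q : QQ ρ N, ep ρ m (rp ρ N q)) • (ρ (m : G) * A * ρ (m : G)⁻¹) =
      if m ∈ (Sc ρ).subgroupOf N then (Fintype.card (QQ ρ N) : F) • A else 0 := by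
    intro m
    by_cases hm : m ∈ (Sc ρ).subgroupOf N
    · rw [if_pos hm]
      rw [Subgroup.mem_subgroupOf] at hm
      have h3 : ∀ q : QQ ρ N, ep ρ m (rp ρ N q) = 1 := fun q => h.ep_Sc' _ hm
      have h4 : ρ (m : G) * A = A * ρ (m : G) := by
        apply LinearMap.ext
        intro v
        rw [End.mul_apply, End.mul_apply, sg_smul hm, sg_smul hm, map_smul]
      simp only [h3, Finset.sum_const, Finset.card_univ, nsmul_eq_mul, mul_one]
      rw [h4, mul_assoc, rho_mul_inv, mul_one]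
    · rw [if_neg hm]
      rw [Subgroup.mem_subgroupOf] at hm
      rw [h.sum_ep' m.2 hm, zero_smul]
  rw [h1, Finset.sum_congr rfl fun m _ => h2 m, ← Finset.sum_filter, Finset.sum_const,
    ← Nat.cast_smul_eq_nsmul F, smul_smul, smul_smul]
  have h3 : (Finset.univ.filter fun m : N => m ∈ (Sc ρ).subgroupOf N).card =
      Nat.card ((Sc ρ).subgroupOf N) := by
    rw [Nat.card_eq_fintype_card, Fintype.card_subtype]
  have h4 := Subgroup.card_eq_card_quotient_mul_card_subgroup ((Sc ρ).subgroupOf N)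
  have h5 : (Nat.card N : F) = (Fintype.card (QQ ρ N) : F) * (Nat.card ((Sc ρ).subgroupOf N) : F) := by
    rw [h4, Nat.cast_mul, ← Nat.card_eq_fintype_card]
  have h6 : (Nat.card N : F)⁻¹ * (((Finset.univ.filter fun m : N => m ∈ (Sc ρ).subgroupOf N).card : ℕ) : F) *
      (Fintype.card (QQ ρ N) : F) = 1 := by
    rw [h3, mul_assoc, mul_comm _ (Fintype.card (QQ ρ N) : F), ← h5, inv_mul_cancel₀ h.card]
  rw [h6, one_smul]

/-- the components of `A` -/
noncomputable def Psi [Nontrivial V] (h : Gr ρ N) : End F V →ₗ[F] (QQ ρ N → Cm ρ N) where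
  toFun A q := ⟨ρ (rp ρ N q)⁻¹ * PP ρ N (rp ρ N q) A, h.inv_PP_mem (rp_mem q) A⟩
  map_add' A B := by
    funext q
    apply Subtype.ext
    show ρ (rp ρ N q)⁻¹ * PP ρ N (rp ρ N q) (A + B) = _ + _
    rw [map_add, mul_add]
  map_smul' c A := by
    funext q
    apply Subtype.ext
    show ρ (rp ρ N q)⁻¹ * PP ρ N (rp ρ N q) (c • A) = c • _
    rw [map_smul, mul_smul_comm]

variable (ρ N) in
/-- reassembling -/
noncomputable def Phi : (QQ ρ N → Cm ρ N) →ₗ[F] End F V where
  toFun B := ∑ q, ρ (rp ρ N q) * (B q : End F V)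
  map_add' A B := by
    rw [← Finset.sum_add_distrib]
    refine Finset.sum_congr rfl fun q _ => ?_
    show ρ (rp ρ N q) * ((A q : End F V) + (B q : End F V)) = _
    rw [mul_add]
  map_smul' c A := by
    rw [Finset.smul_sum]
    refine Finset.sum_congr rfl fun q _ => ?_
    show ρ (rp ρ N q) * (c • (A q : End F V)) = _
    rw [mul_smul_comm]
    rfl

theorem Phi_Psi [Nontrivial V] (h : Gr ρ N) (A : End F V) : Phi ρ N (h.Psi A) = A := by
  show ∑ q : QQ ρ N, ρ (rp ρ N q) * (ρ (rp ρ N q)⁻¹ * PP ρ N (rp ρ N q) A) = A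
  rw [Finset.sum_congr rfl fun q _ => by rw [← mul_assoc, rho_mul_inv, one_mul]]
  exact h.sum_PP A

theorem Psi_Phi [Nontrivial V] (h : Gr ρ N) (B : QQ ρ N → Cm ρ N) : h.Psi (Phi ρ N B) = B := by
  funext q
  apply Subtype.ext
  show ρ (rp ρ N q)⁻¹ * PP ρ N (rp ρ N q) (∑ q', ρ (rp ρ N q') * (B q' : End F V)) = B q
  rw [map_sum, Finset.sum_eq_single q]
  · rw [h.PP_same (rp_mem q) (rp_mem q) (by rw [inv_mul_cancel]; exact Subgroup.one_mem _) (B q).2,
      ← mul_assoc, rho_inv_mul, one_mul]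
  · intro q' _ hq'
    exact h.PP_ne (rp_mem q) (rp_mem q') (fun hs => hq' (rp_inj hs).symm) (B q').2
  · intro hq
    exact absurd (Finset.mem_univ q) hq

/-- **the dimension formula** -/
theorem finrank_end [Nontrivial V] [FiniteDimensional F V] (h : Gr ρ N) :
    finrank F V * finrank F V = Fintype.card (QQ ρ N) * finrank F (Cm ρ N) := by
  let e : End F V ≃ₗ[F] (QQ ρ N → Cm ρ N) :=
    { h.Psi with
      invFun := Phi ρ N
      left_inv := h.Phi_Psi
      right_inv := h.Psi_Phi }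
  rw [← Module.finrank_linearMap, e.finrank_eq, Module.finrank_pi_fintype, Finset.sum_const,
    Finset.card_univ, smul_eq_mul]

end

/-- the centraliser of `y` in `End V` -/
def Cy (ρ : Representation F G V) (y : G) : Submodule F (End F V) where
  carrier := {A | ρ y * A = A * ρ y}
  zero_mem' := by show ρ y * 0 = 0 * ρ y; rw [mul_zero, zero_mul]
  add_mem' := fun {A B} hA hB => by
    show ρ y * (A + B) = (A + B) * ρ y
    rw [mul_add, add_mul, show ρ y * A = A * ρ y from hA, show ρ y * B = B * ρ y from hB]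
  smul_mem' := fun c A hA => by
    show ρ y * (c • A) = (c • A) * ρ y
    rw [mul_smul_comm, smul_mul_assoc, show ρ y * A = A * ρ y from hA]

theorem Cy_pow {y : G} {A : End F V} (hA : A ∈ Cy ρ y) (k : ℕ) : ρ (y ^ k) * A = A * ρ (y ^ k) := by
  induction k with
  | zero => rw [pow_zero, map_one, one_mul, mul_one]
  | succ k ih =>
    have h1 : ρ y * A = A * ρ y := hA
    rw [pow_succ, map_mul, mul_assoc, h1, ← mul_assoc, ih, mul_assoc]

theorem norm_pow {y : G} (hy : ∀ m, m ∈ N ↔ y * m * y⁻¹ ∈ N) (k : ℕ) (m : G) :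
    m ∈ N ↔ y ^ k * m * (y ^ k)⁻¹ ∈ N := by
  induction k with
  | zero => simp
  | succ k ih =>
    rw [ih, hy]
    have : y * (y ^ k * m * (y ^ k)⁻¹) * y⁻¹ = y ^ (k + 1) * m * (y ^ (k + 1))⁻¹ := by
      rw [pow_succ']; group
    rw [this]

/-- **the bound for the centraliser of `y`** -/
theorem finrank_Cy_le [Nontrivial V] [FiniteDimensional F V] [Finite N] (h : Gr ρ N) {y : G}
    (hy : ∀ m, m ∈ N ↔ y * m * y⁻¹ ∈ N) (T : Set G) (hT : T ⊆ N) (hTf : T.Finite)
    (hTy : ∀ n ∈ N, ∃ t ∈ T, ∃ k : ℕ, (y ^ k * t * (y ^ k)⁻¹)⁻¹ * n ∈ Sc ρ) :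
    finrank F (Cy ρ y) ≤ T.ncard * finrank F (Cm ρ N) := by
  classical
  have : Fintype N := Fintype.ofFinite N
  have : Fintype (QQ ρ N) := Fintype.ofFinite _
  have : Fintype T := hTf.fintype
  let L : Cy ρ y →ₗ[F] (T → Cm ρ N) :=
    { toFun := fun A t => ⟨ρ (t : G)⁻¹ * PP ρ N t A, h.inv_PP_mem (hT t.2) _⟩
      map_add' := fun A B => by
        funext t
        apply Subtype.ext
        show ρ (t : G)⁻¹ * PP ρ N t ((A : End F V) + B) = _ + _
        rw [map_add, mul_add]
      map_smul' := fun c A => by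
        funext t
        apply Subtype.ext
        show ρ (t : G)⁻¹ * PP ρ N t (c • (A : End F V)) = c • _
        rw [map_smul, mul_smul_comm] }
  have hL : Function.Injective L := by
    rw [injective_iff_map_eq_zero]
    intro A hA
    have h1 : ∀ t ∈ T, PP ρ N t (A : End F V) = 0 := by
      intro t ht
      have h2 : ρ t⁻¹ * PP ρ N t (A : End F V) = 0 := congrArg Subtype.val (congrFun hA ⟨t, ht⟩)
      have h3 : ρ t * (ρ t⁻¹ * PP ρ N t (A : End F V)) = 0 := by rw [h2, mul_zero]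
      rwa [← mul_assoc, rho_mul_inv, one_mul] at h3
    have h2 : ∀ n ∈ N, PP ρ N n (A : End F V) = 0 := by
      intro n hn
      obtain ⟨t, ht, k, hs⟩ := hTy n hn
      rw [← h.PP_congr ((norm_pow hy k t).mp (hT ht)) hn hs,
        h.PP_conj (norm_pow hy k) (hT ht) (Cy_pow A.2 k), h1 t ht, mul_zero, zero_mul]
    apply Subtype.ext
    show (A : End F V) = 0
    rw [← h.sum_PP (A : End F V)]
    exact Finset.sum_eq_zero fun q _ => h2 _ (rp_mem q)
  have h1 := LinearMap.finrank_le_finrank_of_injective hL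
  rw [Module.finrank_pi_fintype, Finset.sum_const, Finset.card_univ, smul_eq_mul] at h1
  rw [Set.ncard_eq_toFinset_card', Set.toFinset_card]
  exact h1

end Gr

end Cfsg.Agent.H170.Fl
end

-- part: H170/Fl/Orb
section
/-!
# Orbits of an `r`-group of automorphisms of a 2-group (helper170)

`r ≥ 5`, `σ ≠ 1` an automorphism of `r`-power order of the 2-group `Q`: at most `|Q|/4` orbits.
-/

set_option autoImplicit false

namespace Cfsg.Agent.H170.Fl

open MulAction

theorem orb_arith {r k j O A : ℕ} (hr : r.Prime) (hr5 : 5 ≤ r) (hjk : j < k)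
    (hmod : 2 ^ k ≡ 2 ^ j [MOD r]) (hA : A ≤ 2 ^ j) (hO : r * O ≤ (r - 1) * A + 2 ^ k) :
    4 * O ≤ 2 ^ k := by
  obtain ⟨d, rfl⟩ := Nat.exists_eq_add_of_lt hjk
  have h1 : r ∣ 2 ^ j * (2 ^ (d + 1) - 1) := by
    have h2 : r ∣ 2 ^ (j + d + 1) - 2 ^ j :=
      (Nat.modEq_iff_dvd' (Nat.pow_le_pow_right (by norm_num) (by omega))).mp hmod.symm
    have h3 : 2 ^ (j + d + 1) - 2 ^ j = 2 ^ j * (2 ^ (d + 1) - 1) := by
      rw [Nat.mul_sub, mul_one, ← pow_add, add_assoc]
    rwa [h3] at h2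
  have h2 : r ∣ 2 ^ (d + 1) - 1 := by
    rcases (Nat.Prime.dvd_mul hr).mp h1 with h | h
    · have := hr.dvd_of_dvd_pow h
      have := Nat.le_of_dvd (by norm_num) this
      omega
    · exact h
  have h4 : (r - 1) * A ≤ (r - 1) * 2 ^ j := Nat.mul_le_mul_left _ hA
  have hd : 2 ≤ d := by
    by_contra hcon
    have : d = 0 ∨ d = 1 := by omega
    rcases this with rfl | rfl
    · norm_num at h2
      omega
    · norm_num at h2
      have := Nat.le_of_dvd (by norm_num) h2
      omega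
  obtain ⟨s, rfl⟩ : ∃ s, r = s + 5 := ⟨r - 5, by omega⟩
  set f := 2 ^ j with hf
  have hfpos : 0 < f := pow_pos (by norm_num) _
  by_cases hd2 : d = 2
  · subst hd2
    norm_num at h2
    have h5 := (Nat.prime_dvd_prime_iff_eq hr (by norm_num : Nat.Prime 7)).mp h2
    have hs : s = 2 := by omega
    subst hs
    have h6 : 2 ^ (j + 2 + 1) = 8 * f := by rw [add_assoc, pow_add, ← hf]; ring
    rw [h6] at hO ⊢
    (clear * - hA hO; omega)
  · obtain ⟨e, rfl⟩ : ∃ e, d = e + 3 := ⟨d - 3, by omega⟩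
    have h6 : 2 ^ (j + (e + 3) + 1) = 16 * (2 ^ e * f) := by
      rw [show j + (e + 3) + 1 = e + j + 4 by ring, pow_add, pow_add, ← hf]; ring
    rw [h6] at hO ⊢
    have h7 : f ≤ 2 ^ e * f := Nat.le_mul_of_pos_left f (pow_pos (by norm_num) _)
    set g := 2 ^ e * f with hg
    -- `r O ≤ (r-1) g + 16 g`
    have h8 : (s + 5) * O ≤ (s + 4) * g + 16 * g := by
      have h9 : (s + 5 - 1) * A ≤ (s + 4) * g := by
        refine h4.trans ?_
        have : s + 5 - 1 = s + 4 := by omega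
        rw [this]
        exact Nat.mul_le_mul_left _ h7
      omega
    have h9 : (s + 4) * g + 16 * g = (s + 20) * g := by ring
    rw [h9] at h8
    by_contra hcon
    push Not at hcon
    have h10 : 4 * g + 1 ≤ O := by omega
    have h11 : (s + 5) * (4 * g + 1) ≤ (s + 5) * O := Nat.mul_le_mul_left _ h10
    nlinarith only [h8, h11]

theorem exists_reps {Q : Type*} [Group Q] [Finite Q] (hQ : IsPGroup 2 Q) {r : ℕ} (hr : r.Prime)
    (hr5 : 5 ≤ r) (σ : MulAut Q) {a : ℕ} (hσ : σ ^ r ^ a = 1) (hσ1 : σ ≠ 1) :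
    ∃ T : Set Q, 4 * T.ncard ≤ Nat.card Q ∧ ∀ q, ∃ t ∈ T, ∃ k : ℕ, (σ ^ k) t = q := by
  classical
  have : Fact r.Prime := ⟨hr⟩
  have : Fact (Nat.Prime 2) := ⟨Nat.prime_two⟩
  have : Fintype Q := Fintype.ofFinite Q
  let P := Subgroup.zpowers σ
  have hP : IsPGroup r P := by
    intro ⟨x, hx⟩
    obtain ⟨n, rfl⟩ := Subgroup.mem_zpowers_iff.mp hx
    refine ⟨a, Subtype.ext ?_⟩
    show (σ ^ n) ^ r ^ a = 1
    rw [← zpow_natCast, ← zpow_mul, mul_comm, zpow_mul, zpow_natCast, hσ, one_zpow]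
  have hfo : IsOfFinOrder σ := isOfFinOrder_iff_pow_eq_one.mpr ⟨r ^ a, pow_pos hr.pos _, hσ⟩
  -- the fixed points
  let Fx : Subgroup Q :=
    { carrier := {q | σ q = q}
      one_mem' := map_one σ
      mul_mem' := fun {x y} hx hy => by
        show σ (x * y) = x * y
        rw [map_mul, show σ x = x from hx, show σ y = y from hy]
      inv_mem' := fun {x} hx => by
        show σ x⁻¹ = x⁻¹
        rw [map_inv, show σ x = x from hx] }
  have hFx : fixedPoints P Q = (Fx : Set Q) := by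
    ext q
    constructor
    · intro h
      exact h ⟨σ, Subgroup.mem_zpowers σ⟩
    · rintro (h : σ q = q) ⟨x, hx⟩
      show x q = q
      have h1 : P ≤ MulAction.stabilizer (MulAut Q) q := by
        rw [Subgroup.zpowers_le]
        exact h
      exact h1 hx
  obtain ⟨k, hk⟩ := hQ.exists_card_eq
  obtain ⟨j, hj⟩ := (hQ.to_subgroup Fx).exists_card_eq
  have hjk : j < k := by
    have h1 : Nat.card Fx ∣ Nat.card Q := Subgroup.card_subgroup_dvd_card Fx
    rw [hk, hj, Nat.pow_dvd_pow_iff_le_right (by norm_num)] at h1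
    refine lt_of_le_of_ne h1 ?_
    rintro rfl
    have h2 : Fx = ⊤ := Subgroup.eq_top_of_card_eq Fx (by rw [hj, hk])
    apply hσ1
    ext q
    have : q ∈ Fx := by rw [h2]; trivial
    exact this
  have hmod : 2 ^ k ≡ 2 ^ j [MOD r] := by
    have h1 := hP.card_modEq_card_fixedPoints Q
    rw [hFx, hk] at h1
    have h2 : Nat.card ((Fx : Set Q)) = 2 ^ j := hj
    rwa [h2] at h1
  let Om := orbitRel.Quotient P Q
  have : Fintype Om := Fintype.ofFinite Om
  let A : Finset Om := Finset.univ.filter fun ω => Quotient.out ω ∈ Fx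
  have hA : A.card ≤ 2 ^ j := by
    rw [← hj, Nat.card_eq_fintype_card, ← Finset.card_univ]
    refine Finset.card_le_card_of_injOn (fun ω => if h : Quotient.out ω ∈ Fx then ⟨Quotient.out ω, h⟩ else 1)
      (fun _ _ => Finset.mem_coe.mpr (Finset.mem_univ _)) ?_
    intro ω hω ω' hω' heq
    have h1 : Quotient.out ω ∈ Fx := (Finset.mem_filter.mp hω).2
    have h2 : Quotient.out ω' ∈ Fx := (Finset.mem_filter.mp hω').2
    simp only [dif_pos h1, dif_pos h2] at heq
    have h3 := congrArg Subtype.val heq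
    exact Quotient.out_injective h3
  have hsum : ∑ ω : Om, Nat.card (orbit P (Quotient.out ω)) = 2 ^ k := by
    rw [← hk, Nat.card_congr (selfEquivSigmaOrbits P Q), Nat.card_sigma]
  have hge : ∀ ω : Om, (if ω ∈ A then 1 else r) ≤ Nat.card (orbit P (Quotient.out ω)) := by
    intro ω
    obtain ⟨n, hn⟩ := hP.card_orbit (Quotient.out ω)
    split_ifs with h
    · rw [hn]
      exact Nat.one_le_pow _ _ hr.pos
    · rw [hn]
      have hn0 : n ≠ 0 := by
        rintro rfl
        rw [pow_zero] at hn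
        apply h
        refine Finset.mem_filter.mpr ⟨Finset.mem_univ _, ?_⟩
        have h1 : Subsingleton (orbit P (Quotient.out ω)) := (Nat.card_eq_one_iff_unique.mp hn).1
        have h2 : Quotient.out ω ∈ fixedPoints P Q := by
          intro x
          have := @Subsingleton.elim _ h1 ⟨x • Quotient.out ω, mem_orbit _ _⟩
            ⟨Quotient.out ω, mem_orbit_self _⟩
          exact congrArg Subtype.val this
        rw [hFx] at h2
        exact h2
      calc r = r ^ 1 := (pow_one r).symm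
        _ ≤ r ^ n := Nat.pow_le_pow_right hr.pos (Nat.one_le_iff_ne_zero.mpr hn0)
  have hle : A.card + r * (Fintype.card Om - A.card) ≤ 2 ^ k := by
    rw [← hsum]
    refine le_trans (le_of_eq ?_) (Finset.sum_le_sum fun ω _ => hge ω)
    rw [Finset.sum_ite, Finset.sum_const, Finset.sum_const, smul_eq_mul, mul_one, smul_eq_mul,
      Finset.filter_mem_eq_inter, Finset.univ_inter, Finset.filter_not, Finset.filter_mem_eq_inter,
      Finset.univ_inter, Finset.card_univ_sdiff, mul_comm]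
  have hAle : A.card ≤ Fintype.card Om := Finset.card_le_univ A
  refine ⟨Set.range (fun ω : Om => Quotient.out ω), ?_, ?_⟩
  · have h1 : (Set.range (fun ω : Om => Quotient.out ω)).ncard = Fintype.card Om := by
      rw [Set.ncard_eq_toFinset_card', Set.toFinset_range, Finset.card_image_of_injective _
        Quotient.out_injective, Finset.card_univ]
    rw [h1, hk]
    refine orb_arith hr hr5 hjk hmod hA ?_
    obtain ⟨B, hB⟩ := Nat.exists_eq_add_of_le hAle
    rw [hB, Nat.add_sub_cancel_left] at hle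
    rw [hB]
    obtain ⟨s, rfl⟩ : ∃ s, r = s + 1 := ⟨r - 1, by have := hr.pos; omega⟩
    rw [Nat.add_sub_cancel]
    linarith only [hle]
  · intro q
    refine ⟨_, ⟨(Quotient.mk'' q : Om), rfl⟩, ?_⟩
    have h1 : Quotient.out (Quotient.mk'' q : Om) ∈ orbit P q := by
      rw [← orbitRel_apply]
      exact Quotient.exact' (Quotient.out_eq' (Quotient.mk'' q : Om))
    rw [mem_orbit_symm] at h1
    obtain ⟨⟨x, hx⟩, hxq⟩ := h1
    obtain ⟨n, rfl⟩ := (hfo.mem_zpowers_iff_mem_range_orderOf.mp hx |> fun h => by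
      obtain ⟨n, -, hn⟩ := Finset.mem_image.mp h
      exact ⟨n, hn⟩ : ∃ n : ℕ, σ ^ n = x)
    exact ⟨n, hxq⟩

end Cfsg.Agent.H170.Fl
end

-- part: H170/Fl/Ext
section
/-!
# No normal 2-subgroup outside `±1` (helper170)
-/

set_option autoImplicit false

namespace Cfsg.Agent.H170.Fl

open Module Cfsg.Agent.H167.OP Cfsg.Agent.H170.HL

/-- two involutions whose product has 2-power order -/
theorem isPGroup_pair {G : Type*} [Group G] {a b : G} (ha : a * a = 1) (hb : b * b = 1) {k : ℕ}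
    (h : (a * b) ^ 2 ^ k = 1) : IsPGroup 2 (Subgroup.closure {a, b} : Subgroup G) := by
  have hai : a⁻¹ = a := inv_eq_of_mul_eq_one_left ha
  have hbi : b⁻¹ = b := inv_eq_of_mul_eq_one_left hb
  have hconj : ∀ n : ℤ, a * (a * b) ^ n * a = (a * b) ^ (-n) := by
    intro n
    have h1 : a * (a * b) * a⁻¹ = (a * b)⁻¹ := by
      rw [mul_inv_rev, hai, hbi, ← mul_assoc, ha, one_mul]
    have h2 : a * (a * b) ^ n * a⁻¹ = (a * (a * b) * a⁻¹) ^ n := (conj_zpow).symm
    rw [h1, inv_zpow', hai] at h2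
    exact h2
  have key : ∀ g ∈ Subgroup.closure {a, b},
      (∃ n : ℤ, g = (a * b) ^ n) ∨ ∃ n : ℤ, g = a * (a * b) ^ n := by
    intro g hg
    induction hg using Subgroup.closure_induction with
    | mem x hx =>
      rcases hx with rfl | hx
      · exact Or.inr ⟨0, by rw [zpow_zero, mul_one]⟩
      · rw [Set.mem_singleton_iff] at hx
        subst hx
        exact Or.inr ⟨1, by rw [zpow_one, ← mul_assoc, ha, one_mul]⟩
    | one => exact Or.inl ⟨0, (zpow_zero _).symm⟩
    | mul x y _ _ hx hy =>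
      rcases hx with ⟨n, rfl⟩ | ⟨n, rfl⟩ <;> rcases hy with ⟨m, rfl⟩ | ⟨m, rfl⟩
      · exact Or.inl ⟨n + m, (zpow_add _ _ _).symm⟩
      · refine Or.inr ⟨-n + m, ?_⟩
        rw [zpow_add, ← hconj n, mul_assoc, mul_assoc, ← mul_assoc a a, ha, one_mul]
      · exact Or.inr ⟨n + m, by rw [zpow_add, mul_assoc]⟩
      · refine Or.inl ⟨-n + m, ?_⟩
        rw [zpow_add, ← hconj n]
        simp only [mul_assoc]
    | inv x _ hx =>
      rcases hx with ⟨n, rfl⟩ | ⟨n, rfl⟩
      · exact Or.inl ⟨-n, (zpow_neg _ _).symm⟩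
      · refine Or.inr ⟨n, ?_⟩
        rw [mul_inv_rev, ← zpow_neg, ← hconj n, hai, mul_assoc, ha, mul_one]
  intro ⟨g, hg⟩
  rcases key g hg with ⟨n, rfl⟩ | ⟨n, rfl⟩
  · refine ⟨k, Subtype.ext ?_⟩
    show ((a * b) ^ n) ^ 2 ^ k = 1
    rw [← zpow_natCast, ← zpow_mul, mul_comm, zpow_mul, zpow_natCast, h, one_zpow]
  · refine ⟨1, Subtype.ext ?_⟩
    show (a * (a * b) ^ n) ^ 2 ^ 1 = 1
    rw [pow_one, pow_two]
    have h1 : a * (a * b) ^ n * (a * (a * b) ^ n) = (a * (a * b) ^ n * a) * (a * b) ^ n := by group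
    rw [h1, hconj, ← zpow_add, neg_add_cancel, zpow_zero]

variable {F : Type*} [Field F] {V : Type*} [AddCommGroup V] [Module F V] {G : Type*} [Group G]

theorem rk_mul_le [FiniteDimensional F V] (ρ : Representation F G V) (x y : G) :
    rk ρ (x * y) ≤ rk ρ x + rk ρ y := by
  have h1 : LinearMap.range (ρ (x * y) - 1) ≤
      LinearMap.range (ρ x - 1) ⊔ (LinearMap.range (ρ y - 1)).map (ρ x) := by
    rintro _ ⟨v, rfl⟩
    have h2 : (ρ (x * y) - 1) v = (ρ x v - v) + ρ x (ρ y v - v) := by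
      show ρ (x * y) v - v = _
      rw [mul_ap, map_sub]
      abel
    rw [h2]
    exact Submodule.add_mem_sup ⟨v, rfl⟩ ⟨_, ⟨v, rfl⟩, rfl⟩
  have h2 := Submodule.finrank_mono h1
  have h3 := Submodule.finrank_add_le_finrank_add_finrank (LinearMap.range (ρ x - 1))
    ((LinearMap.range (ρ y - 1)).map (ρ x))
  have h4 := Submodule.finrank_map_le (ρ x) (LinearMap.range (ρ y - 1))
  unfold rk
  omega

theorem rk_pow_le [FiniteDimensional F V] (ρ : Representation F G V) (x : G) (n : ℕ) :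
    rk ρ (x ^ n) ≤ rk ρ x := by
  apply Submodule.finrank_mono
  rintro _ ⟨v, rfl⟩
  show ρ (x ^ n) v - v ∈ LinearMap.range (ρ x - 1)
  induction n with
  | zero => rw [pow_zero, one_ap, sub_self]; exact Submodule.zero_mem _
  | succ n ih =>
    have h1 : ρ (x ^ (n + 1)) v - v = (ρ (x ^ (n + 1)) v - ρ (x ^ n) v) + (ρ (x ^ n) v - v) := by abel
    rw [h1]
    exact Submodule.add_mem _ (pow_sub_mem_range ρ x n v) ih

/-- **a lower bound for the centraliser of `y`** -/
theorem le_finrank_Cy [Finite G] [FiniteDimensional F V] (ρ : Representation F G V) {y : G}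
    (hcard : (Nat.card (Subgroup.zpowers y) : F) ≠ 0) (hy : ρ y ≠ 1) :
    (finrank F V - rk ρ y) * (finrank F V - rk ρ y) + 1 ≤ finrank F (Gr.Cy ρ y) := by
  classical
  set E := Subgroup.zpowers y with hE
  let W := LinearMap.ker (ρ y - 1)
  have hW : ∀ v ∈ W, ρ y v = v := fun v hv => sub_eq_zero.mp hv
  have hWE : ∀ v ∈ W, ∀ e ∈ E, ρ e v = v := by
    intro v hv e he
    obtain ⟨n, rfl⟩ := (mem_zpowers_iff_mem_range_orderOf.mp he |> fun h => by
      obtain ⟨n, -, hn⟩ := Finset.mem_image.mp h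
      exact ⟨n, hn⟩ : ∃ n : ℕ, y ^ n = e)
    induction n with
    | zero => rw [pow_zero, one_ap]
    | succ n ih =>
      rw [pow_succ', mul_ap, ih ⟨n, by simp⟩, hW v hv]
  let π : V →ₗ[F] W := (avg ρ E).codRestrict W fun v => by
    show ρ y (avg ρ E v) - avg ρ E v = 0
    rw [map_avg ρ E (Subgroup.mem_zpowers y), sub_self]
  have hπ : ∀ w : W, π w = w := by
    intro w
    apply Subtype.ext
    show avg ρ E (w : V) = w
    exact avg_fixed ρ E hcard (hWE w w.2)
  have hπy : ∀ v, π (ρ y v) = π v := by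
    intro v
    apply Subtype.ext
    exact avg_map ρ E (Subgroup.mem_zpowers y) v
  let L : (End F W × F) →ₗ[F] Gr.Cy ρ y :=
    { toFun := fun p => ⟨W.subtype ∘ₗ p.1 ∘ₗ π + p.2 • (1 - W.subtype ∘ₗ π), by
        show ρ y * _ = _ * ρ y
        apply LinearMap.ext
        intro v
        show ρ y ((p.1 (π v) : V) + p.2 • (v - (π v : V))) =
          (p.1 (π (ρ y v)) : V) + p.2 • (ρ y v - (π (ρ y v) : V))
        rw [map_add, map_smul, map_sub, hW _ (p.1 (π v)).2, hW _ (π v).2, hπy]⟩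
      map_add' := fun p q => by
        apply Subtype.ext
        show W.subtype ∘ₗ (p.1 + q.1) ∘ₗ π + (p.2 + q.2) • (1 - W.subtype ∘ₗ π) =
          (W.subtype ∘ₗ p.1 ∘ₗ π + p.2 • (1 - W.subtype ∘ₗ π)) +
          (W.subtype ∘ₗ q.1 ∘ₗ π + q.2 • (1 - W.subtype ∘ₗ π))
        rw [LinearMap.add_comp, LinearMap.comp_add, add_smul]
        abel
      map_smul' := fun c p => by
        apply Subtype.ext
        show W.subtype ∘ₗ (c • p.1) ∘ₗ π + (c * p.2) • (1 - W.subtype ∘ₗ π) =
          c • (W.subtype ∘ₗ p.1 ∘ₗ π + p.2 • (1 - W.subtype ∘ₗ π))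
        rw [LinearMap.smul_comp, LinearMap.comp_smul, mul_smul, smul_add] }
  have hL : Function.Injective L := by
    rw [injective_iff_map_eq_zero]
    rintro ⟨A, c⟩ hA
    have h1 : ∀ v, (A (π v) : V) + c • (v - (π v : V)) = 0 := by
      intro v
      have := congrArg Subtype.val hA
      exact LinearMap.congr_fun this v
    have hA0 : A = 0 := by
      apply LinearMap.ext
      intro w
      have h2 := h1 w
      rw [hπ, sub_self, smul_zero, add_zero] at h2
      exact Subtype.ext h2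
    have hc0 : c = 0 := by
      by_contra hc
      apply hy
      apply LinearMap.ext
      intro v
      have h2 := h1 v
      rw [hA0] at h2
      have h3 : c • (v - (π v : V)) = 0 := by
        simpa only [_root_.smul_eq_zero, _root_.LinearMap.zero_apply, _root_.ZeroMemClass.coe_zero, _root_.zero_add] using h2
      have h4 := (smul_eq_zero.mp h3).resolve_left hc
      have h5 : v = (π v : V) := sub_eq_zero.mp h4
      show ρ y v = v
      rw [h5]
      exact hW _ (π v).2
    rw [hA0, hc0]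
    rfl
  have h1 := LinearMap.finrank_le_finrank_of_injective hL
  rw [Module.finrank_prod, Module.finrank_linearMap, Module.finrank_self] at h1
  have h2 := LinearMap.finrank_range_add_finrank_ker (ρ y - 1)
  have h3 : finrank F W = finrank F V - rk ρ y := by
    unfold rk
    show finrank F (LinearMap.ker (ρ y - 1)) = _
    omega
  rw [h3] at h1
  exact h1

section main

variable {ρ : Representation F G V} {R R' : Subgroup G}

variable (ρ) in
/-- the action of `G` on `N/X` -/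
noncomputable def act (N : Subgroup G) [hN : N.Normal] : G →* MulAut (Gr.QQ ρ N) where
  toFun g := QuotientGroup.congr _ _ (MulAut.conjNormal g) (by
    apply le_antisymm
    · rintro _ ⟨n, hn, rfl⟩
      rw [SetLike.mem_coe, Subgroup.mem_subgroupOf] at hn
      rw [Subgroup.mem_subgroupOf]
      exact (inferInstance : (Sc ρ).Normal).conj_mem _ hn g
    · intro n hn
      refine ⟨MulAut.conjNormal g⁻¹ n, ?_, ?_⟩
      · rw [Subgroup.mem_subgroupOf] at hn
        rw [SetLike.mem_coe, Subgroup.mem_subgroupOf]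
        exact (inferInstance : (Sc ρ).Normal).conj_mem _ hn g⁻¹
      · apply Subtype.ext
        show g * (g⁻¹ * (n : G) * g⁻¹⁻¹) * g⁻¹ = n
        group)
  map_one' := by
    apply MulEquiv.ext
    intro q
    obtain ⟨n, rfl⟩ := QuotientGroup.mk_surjective q
    show (QuotientGroup.mk (MulAut.conjNormal (1 : G) n) : Gr.QQ ρ N) = QuotientGroup.mk n
    rw [map_one]
    rfl
  map_mul' g g' := by
    apply MulEquiv.ext
    intro q
    obtain ⟨n, rfl⟩ := QuotientGroup.mk_surjective q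
    show (QuotientGroup.mk (MulAut.conjNormal (g * g') n) : Gr.QQ ρ N) =
      QuotientGroup.mk (MulAut.conjNormal g (MulAut.conjNormal g' n))
    rw [map_mul]
    rfl

theorem act_mk (N : Subgroup G) [hN : N.Normal] (g : G) (n : N) :
    act ρ N g (QuotientGroup.mk n) = QuotientGroup.mk ⟨g * n * g⁻¹, hN.conj_mem n n.2 g⟩ := rfl

theorem Hyp.not_fixed [Finite G] (h : Hyp ρ R R') {N : Subgroup G} (hN : N.Normal) (h2 : IsPGroup 2 N)
    (hsq : ∀ a ∈ N, a * a ∈ Sc ρ) {n : G} (hn : n ∈ N) (hf : ∀ g, g * n * g⁻¹ * n⁻¹ ∈ Sc ρ) :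
    n ∈ Sc ρ := by
  have hc : ∀ a ∈ Sc ρ, ∀ g : G, g * a = a * g := fun a ha g => Sc_comm h.inj ha g
  let A : Subgroup G :=
    { carrier := {a | a ∈ N ∧ (a ∈ Sc ρ ∨ n⁻¹ * a ∈ Sc ρ)}
      one_mem' := ⟨N.one_mem, Or.inl (Subgroup.one_mem _)⟩
      mul_mem' := by
        rintro a b ⟨ha, ha'⟩ ⟨hb, hb'⟩
        refine ⟨N.mul_mem ha hb, ?_⟩
        rcases ha' with ha' | ha' <;> rcases hb' with hb' | hb'
        · exact Or.inl ((Sc ρ).mul_mem ha' hb')
        · right
          have h1 : n⁻¹ * (a * b) = a * (n⁻¹ * b) := by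
            rw [← mul_assoc, hc a ha', mul_assoc]
          rw [h1]
          exact (Sc ρ).mul_mem ha' hb'
        · right
          rw [← mul_assoc]
          exact (Sc ρ).mul_mem ha' hb'
        · left
          have h1 : a * b = (n * n) * ((n⁻¹ * a) * (n⁻¹ * b)) := by
            have h2 := hc _ ha' n⁻¹
            calc a * b = n * (n⁻¹ * a) * b := by group
              _ = n * n * (n⁻¹ * (n⁻¹ * a)) * b := by group
              _ = n * n * ((n⁻¹ * a) * n⁻¹) * b := by rw [h2]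
              _ = _ := by group
          rw [h1]
          exact (Sc ρ).mul_mem (hsq n hn) ((Sc ρ).mul_mem ha' hb')
      inv_mem' := by
        rintro a ⟨ha, ha'⟩
        refine ⟨N.inv_mem ha, ?_⟩
        rcases ha' with ha' | ha'
        · exact Or.inl ((Sc ρ).inv_mem ha')
        · right
          have h1 : n⁻¹ * a⁻¹ = (n⁻¹ * a)⁻¹ * (n * n)⁻¹ := by
            have h2 := hc _ ((Sc ρ).inv_mem ha') n⁻¹
            calc n⁻¹ * a⁻¹ = n⁻¹ * (n⁻¹ * a)⁻¹ * n⁻¹ := by group
              _ = (n⁻¹ * a)⁻¹ * n⁻¹ * n⁻¹ := by rw [h2]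
              _ = _ := by group
          rw [h1]
          exact (Sc ρ).mul_mem ((Sc ρ).inv_mem ha') ((Sc ρ).inv_mem (hsq n hn)) }
  have hA : A.Normal := by
    refine ⟨?_⟩
    rintro a ⟨ha, ha'⟩ g
    refine ⟨hN.conj_mem a ha g, ?_⟩
    rcases ha' with ha' | ha'
    · exact Or.inl ((inferInstance : (Sc ρ).Normal).conj_mem a ha' g)
    · right
      have h1 : n⁻¹ * (g * a * g⁻¹) = (g * n * g⁻¹ * n⁻¹) * (g * (n⁻¹ * a) * g⁻¹) := by
        have h2 := hc _ (hf g) n⁻¹
        have h3 : n⁻¹ * (g * a * g⁻¹) = (n⁻¹ * (g * n * g⁻¹ * n⁻¹)) * (n * (g * (n⁻¹ * a) * g⁻¹)) := by group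
        rw [h3, h2]
        group
      rw [h1]
      exact (Sc ρ).mul_mem (hf g) ((inferInstance : (Sc ρ).Normal).conj_mem _ ha' g)
  have hab : ∀ a ∈ A, ∀ b ∈ A, a * b = b * a := by
    rintro a ⟨ha, ha'⟩ b ⟨hb, hb'⟩
    rcases ha' with ha' | ha'
    · exact (hc a ha' b).symm
    rcases hb' with hb' | hb'
    · exact hc b hb' a
    · have h1 := hc _ ha' n
      have h2 := hc _ hb' n
      have h3 := hc _ hb' (n⁻¹ * a)
      calc a * b = n * ((n⁻¹ * a) * n) * (n⁻¹ * b) := by group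
        _ = n * (n * (n⁻¹ * a)) * (n⁻¹ * b) := by rw [h1]
        _ = n * n * ((n⁻¹ * a) * (n⁻¹ * b)) := by group
        _ = n * n * ((n⁻¹ * b) * (n⁻¹ * a)) := by rw [h3]
        _ = n * (n * (n⁻¹ * b)) * (n⁻¹ * a) := by group
        _ = n * ((n⁻¹ * b) * n) * (n⁻¹ * a) := by rw [h2]
        _ = b * a := by group
  exact h.abel_two (A := A) hab (h2.to_le fun x hx => hx.1)
    ⟨hn, Or.inr (by rw [inv_mul_cancel]; exact Subgroup.one_mem _)⟩

theorem Hyp.no_ext [Finite G] (h : Hyp ρ R R') {N : Subgroup G} (hN : N.Normal) (h2 : IsPGroup 2 N)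
    (hne : ¬ N ≤ Sc ρ) (hcomm : ∀ a ∈ N, ∀ b ∈ N, a * b * a⁻¹ * b⁻¹ ∈ Sc ρ)
    (hsq : ∀ a ∈ N, a * a ∈ Sc ρ) (hcen : ∀ a ∈ N, (∀ b ∈ N, a * b = b * a) → a ∈ Sc ρ) : False := by
  classical
  have := h.finDim
  have := h.nontriv
  have hf2 : Fact (Nat.Prime 2) := ⟨Nat.prime_two⟩
  have hgr : Gr ρ N := ⟨h.inj, h.two, h.card_ne N, hcomm, hcen⟩
  have : Fintype N := Fintype.ofFinite N
  have : Fintype (Gr.QQ ρ N) := Fintype.ofFinite _
  have hQ2 : IsPGroup 2 (Gr.QQ ρ N) := h2.to_quotient _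
  obtain ⟨k, hk⟩ := hQ2.exists_card_eq
  have hdim := hgr.finrank_end
  rw [← Nat.card_eq_fintype_card, hk] at hdim
  have hk0 : k ≠ 0 := by
    rintro rfl
    rw [pow_zero] at hk
    apply hne
    intro a ha
    have h1 : Subsingleton (Gr.QQ ρ N) := (Nat.card_eq_one_iff_unique.mp hk).1
    have h3 : (QuotientGroup.mk (⟨a, ha⟩ : N) : Gr.QQ ρ N) = 1 := Subsingleton.elim _ _
    rw [QuotientGroup.eq_one_iff, Subgroup.mem_subgroupOf] at h3
    exact h3
  -- no fixed points
  have hfix : ∀ q : Gr.QQ ρ N, (∀ g, act ρ N g q = q) → q = 1 := by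
    intro q hq
    obtain ⟨n, rfl⟩ := QuotientGroup.mk_surjective q
    rw [QuotientGroup.eq_one_iff, Subgroup.mem_subgroupOf]
    refine h.not_fixed hN h2 hsq n.2 fun g => ?_
    have h1 := hq g
    rw [act_mk, eq_comm, QuotientGroup.eq, Subgroup.mem_subgroupOf] at h1
    have h3 : (n : G)⁻¹ * (g * n * g⁻¹) ∈ Sc ρ := h1
    have h4 := (inferInstance : (Sc ρ).Normal).conj_mem _ h3 n
    have h5 : (n : G) * ((n : G)⁻¹ * (g * n * g⁻¹)) * (n : G)⁻¹ = g * n * g⁻¹ * (n : G)⁻¹ := by group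
    rw [h5] at h4
    exact h4
  have hnot : ¬ IsPGroup 2 (act ρ N).range := by
    intro hP
    have h1 : 2 ∣ Nat.card (Gr.QQ ρ N) := by
      rw [hk]; exact dvd_pow_self 2 hk0
    have h3 : (1 : Gr.QQ ρ N) ∈ MulAction.fixedPoints (act ρ N).range (Gr.QQ ρ N) := by
      intro x
      exact map_one (x : MulAut (Gr.QQ ρ N))
    obtain ⟨q, hq, hq1⟩ := hP.exists_fixed_point_of_prime_dvd_card_of_fixed_point _ h1 h3
    exact hq1 (hfix q fun g => hq ⟨act ρ N g, ⟨g, rfl⟩⟩).symm
  have hcr : Nat.card (act ρ N).range ∣ Nat.card G := Subgroup.card_range_dvd _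
  have hsmall : 3 ≤ k := by
    by_contra hcon
    have hk2 : k = 1 ∨ k = 2 := by omega
    apply hnot
    have h1 : Nat.card (act ρ N).range ∣ Nat.card (Equiv.Perm (Gr.QQ ρ N)) := by
      have h3 : Nat.card (act ρ N).range =
          Nat.card ((act ρ N).range.map (MulAut.toPerm (Gr.QQ ρ N))) := by
        refine (Subgroup.card_map_of_injective ?_).symm
        intro x y hxy
        apply MulEquiv.ext
        intro q
        exact Equiv.congr_fun hxy q
      rw [h3]
      exact Subgroup.card_subgroup_dvd_card _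
    rw [Nat.card_perm, hk] at h1
    have h3 : ¬ 3 ∣ Nat.card (act ρ N).range := fun h' => h.three (h'.trans hcr)
    have h4 : Nat.card (act ρ N).range ∣ 8 := by
      have h5 : Nat.card (act ρ N).range ∣ 8 * 3 := by
        rcases hk2 with rfl | rfl
        · exact h1.trans (by decide)
        · exact h1.trans (by decide)
      exact ((Nat.Prime.coprime_iff_not_dvd Nat.prime_three).mpr h3).symm.dvd_of_dvd_mul_right h5
    rw [IsPGroup.iff_card]
    obtain ⟨n, -, hn⟩ := (Nat.dvd_prime_pow Nat.prime_two).mp (show _ ∣ 2 ^ 3 from h4)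
    exact ⟨n, hn⟩
  -- the dimension is 8
  have hd : finrank F V = 8 := by
    have h5 := h.five
    have h8 := h.eight
    obtain ⟨j, rfl⟩ : ∃ j, k = j + 3 := ⟨k - 3, by omega⟩
    rw [pow_add] at hdim
    norm_num at hdim
    set d := finrank F V with hd
    have h9 : 8 ∣ d * d := by
      rw [hdim]
      exact ⟨2 ^ j * finrank F (Cm ρ N), by ring⟩
    interval_cases d
    · omega
    · omega
    · omega
    · rfl
  -- Baer–Suzuki
  have hbs : ∃ x ∈ SI ρ, ∃ x' ∈ SI ρ,
      ¬ IsPGroup 2 (Subgroup.closure {act ρ N x, act ρ N x'} : Subgroup (MulAut (Gr.QQ ρ N))) := by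
    by_contra hcon
    push Not at hcon
    apply hnot
    let A := act ρ N
    let K : Set A.range := {a | ∃ x ∈ SI ρ, (a : MulAut (Gr.QQ ρ N)) = A x}
    have hK : ∀ g : A.range, ∀ a ∈ K, g * a * g⁻¹ ∈ K := by
      rintro ⟨_, ⟨g, rfl⟩⟩ a ⟨x, hx, hax⟩
      refine ⟨g * x * g⁻¹, SI_conj hx g, ?_⟩
      show A g * (a : MulAut _) * (A g)⁻¹ = A (g * x * g⁻¹)
      rw [hax, map_mul, map_mul, map_inv]
    have hKc : ∀ a ∈ K, ∀ b ∈ K, IsPGroup 2 (Subgroup.closure {a, b} : Subgroup A.range) := by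
      rintro a ⟨x, hx, hax⟩ b ⟨x', hx', hbx⟩
      have h1 := hcon x hx x' hx'
      refine IsPGroup.of_injective h1
        (((A.range.subtype).comp (Subgroup.closure {a, b}).subtype).codRestrict _ ?_) ?_
      · rintro ⟨g, hg⟩
        have h3 : Subgroup.closure {a, b} ≤ (Subgroup.closure {A x, A x'}).comap A.range.subtype := by
          rw [Subgroup.closure_le]
          rintro c (rfl | hc)
          · show (c : MulAut _) ∈ Subgroup.closure {A x, A x'}
            rw [hax]
            exact Subgroup.subset_closure (Or.inl rfl)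
          · rw [Set.mem_singleton_iff] at hc
            show (c : MulAut _) ∈ Subgroup.closure {A x, A x'}
            rw [hc, hbx]
            exact Subgroup.subset_closure (Or.inr rfl)
        exact h3 hg
      · intro c d hcd
        have h3 := congrArg Subtype.val hcd
        exact Subtype.ext (Subtype.ext h3)
    have h1 := Cfsg.Agent.Involutions.BaerSuzuki.baer_suzuki_set hK hKc
    have h3 : Subgroup.closure K = ⊤ := by
      rw [eq_top_iff]
      rintro ⟨_, ⟨g, rfl⟩⟩ _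
      refine h.of_SI (P := fun g => (⟨A g, ⟨g, rfl⟩⟩ : A.range) ∈ Subgroup.closure K) ?_ ?_ ?_ ?_ g
      · have : (⟨A 1, ⟨1, rfl⟩⟩ : A.range) = 1 := Subtype.ext (map_one A)
        show (⟨A 1, ⟨1, rfl⟩⟩ : A.range) ∈ _
        rw [this]
        exact Subgroup.one_mem _
      · intro a b ha hb
        have : (⟨A (a * b), ⟨a * b, rfl⟩⟩ : A.range) = ⟨A a, ⟨a, rfl⟩⟩ * ⟨A b, ⟨b, rfl⟩⟩ :=
          Subtype.ext (map_mul A a b)
        show (⟨A (a * b), ⟨a * b, rfl⟩⟩ : A.range) ∈ _
        rw [this]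
        exact Subgroup.mul_mem _ ha hb
      · intro a ha
        have : (⟨A a⁻¹, ⟨a⁻¹, rfl⟩⟩ : A.range) = (⟨A a, ⟨a, rfl⟩⟩)⁻¹ := Subtype.ext (map_inv A a)
        show (⟨A a⁻¹, ⟨a⁻¹, rfl⟩⟩ : A.range) ∈ _
        rw [this]
        exact Subgroup.inv_mem _ ha
      · intro x hx
        exact Subgroup.subset_closure ⟨x, hx, rfl⟩
    rw [h3] at h1
    exact h1.of_equiv Subgroup.topEquiv
  obtain ⟨x, hx, x', hx', hxx⟩ := hbs
  set w := x * x' with hw
  set A := act ρ N with hA
  have hfo : IsOfFinOrder w := isOfFinOrder_of_finite w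
  have hwr : rk ρ w ≤ 4 := by
    have h1 := rk_mul_le ρ x x'
    rw [← hw] at h1
    have := hx.2
    have := hx'.2
    omega
  -- an odd prime divisor of the order of `A w`
  have hodd : ∃ r, r.Prime ∧ r ≠ 2 ∧ r ∣ orderOf (A w) := by
    by_contra hcon
    push Not at hcon
    apply hxx
    have h1 : orderOf (A w) = 2 ^ (orderOf (A w)).primeFactorsList.length := by
      refine Nat.eq_prime_pow_of_unique_prime_dvd (orderOf_pos _).ne' fun {p} hp hd => ?_
      by_contra hp2
      exact hcon p hp hp2 hd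
    refine isPGroup_pair (k := (orderOf (A w)).primeFactorsList.length) ?_ ?_ ?_
    · rw [← map_mul, hx.1, map_one]
    · rw [← map_mul, hx'.1, map_one]
    · rw [← map_mul, ← h1, pow_orderOf_eq_one]
  obtain ⟨r, hr, hr2, hrd⟩ := hodd
  have hrd' : r ∣ orderOf w := hrd.trans (orderOf_map_dvd A w)
  have hrG : r ∣ Nat.card G := hrd'.trans (orderOf_dvd_natCard w)
  have hr3 : r ≠ 3 := by
    rintro rfl
    exact h.three hrG
  have hr5 : 5 ≤ r := by
    have := hr.two_le
    have : r ≠ 4 := by rintro rfl; norm_num at hr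
    omega
  obtain ⟨a, m, hm, hom⟩ := Nat.exists_eq_pow_mul_and_not_dvd (orderOf_pos w).ne' r hr.ne_one
  set y := w ^ m with hy
  have hyr : y ^ r ^ a = 1 := by
    rw [hy, ← pow_mul, mul_comm, ← hom, pow_orderOf_eq_one]
  have hAy : A y ≠ 1 := by
    rw [hy, map_pow]
    intro h1
    exact hm (hrd.trans (orderOf_dvd_of_pow_eq_one h1))
  have hry : rk ρ y ≤ 4 := (rk_pow_le ρ w m).trans hwr
  have hy1 : ρ y ≠ 1 := by
    intro h1
    apply hAy
    have : y = 1 := h.inj (by rw [h1, map_one])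
    rw [this, map_one]
  obtain ⟨T, hT4, hT⟩ := exists_reps hQ2 hr hr5 (A y) (a := a) (by rw [← map_pow, hyr, map_one]) hAy
  have hle := hgr.finrank_Cy_le (y := y) (fun m => by
      constructor
      · intro hm; exact hN.conj_mem m hm y
      · intro hm
        have := hN.conj_mem _ hm y⁻¹
        convert this using 1
        group) (Gr.rp ρ N '' T) (by
      rintro _ ⟨q, _, rfl⟩
      exact Gr.rp_mem q) ((Set.toFinite T).image _) (by
      intro n hn
      obtain ⟨t, ht, j, hj⟩ := hT (QuotientGroup.mk ⟨n, hn⟩)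
      refine ⟨_, ⟨t, ht, rfl⟩, j, ?_⟩
      rw [← map_pow, ← Gr.mk_rp t, hA, act_mk, QuotientGroup.eq, Subgroup.mem_subgroupOf] at hj
      exact hj)
  have hTc : (Gr.rp ρ N '' T).ncard ≤ T.ncard := Set.ncard_image_le (Set.toFinite T)
  have hge := le_finrank_Cy ρ (h.card_ne (Subgroup.zpowers y)) hy1
  rw [hd] at hge hdim
  have h16 : 4 * finrank F (Gr.Cy ρ y) ≤ 64 := by
    have h1 : 4 * finrank F (Gr.Cy ρ y) ≤ 4 * (T.ncard * finrank F (Cm ρ N)) :=
      Nat.mul_le_mul_left _ (hle.trans (Nat.mul_le_mul_right _ hTc))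
    have h3 : 4 * (T.ncard * finrank F (Cm ρ N)) = 4 * T.ncard * finrank F (Cm ρ N) := by ring
    rw [h3] at h1
    refine h1.trans ((Nat.mul_le_mul_right _ hT4).trans ?_)
    rw [hk, ← hdim]
  have h17 : 4 * 4 ≤ (8 - rk ρ y) * (8 - rk ρ y) := Nat.mul_le_mul (by omega) (by omega)
  omega

/-- **every normal 2-subgroup acts as `±1`** -/
theorem Hyp.two_core [Finite G] (h : Hyp ρ R R') {P : Subgroup G} (hPn : P.Normal) (hP : IsPGroup 2 P) :
    P ≤ Sc ρ := by
  by_contra hne
  obtain ⟨N, h1, h2, h3, h4, h5, h6⟩ := h.exists_N hPn hP hne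
  exact h.no_ext h1 h2 h3 h4 h5 h6

end main

end Cfsg.Agent.H170.Fl
end

-- part: H170/Fl/Solv
section
/-!
# The group is not solvable (helper170)
-/

set_option autoImplicit false

namespace Cfsg.Agent.H170.Fl

open Module Cfsg.Agent.H167.OP Cfsg.Agent.H170.HL

variable {F : Type*} [Field F] {V : Type*} [AddCommGroup V] [Module F V] {G : Type*} [Group G]
  {ρ : Representation F G V} {R R' : Subgroup G}

/-- normal subgroups of class two modulo `±1` -/
theorem Hyp.le_Sc [Finite G] (h : Hyp ρ R R') {M : Subgroup G} (hM : M.Normal)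
    (hc : ∀ a ∈ M, ∀ b ∈ M, a * b * a⁻¹ * b⁻¹ ∈ Sc ρ) : M ≤ Sc ρ := by
  classical
  refine h.two_core hM ?_
  -- `M` is a 2-group
  have hcen : ∀ r : ℕ, Odd r → ∀ m ∈ M, m ^ r = 1 → ∀ m' ∈ M, m * m' = m' * m := by
    intro r hr m hm hmr m' hm'
    set c := m * m' * m⁻¹ * m'⁻¹ with hcdef
    have hcS : c ∈ Sc ρ := hc m hm m' hm'
    have hcc : c * c = 1 := Sc_sq h.inj hcS
    have h1 : m' * m * m'⁻¹ = c⁻¹ * m := by rw [hcdef]; group
    have h2 : (c⁻¹ * m) ^ r = 1 := by rw [← h1, conj_pow, hmr, mul_one, mul_inv_cancel]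
    have h3 : Commute c⁻¹ m := (Commute.inv_left (show Commute c m from (Sc_comm h.inj hcS m).symm))
    rw [h3.mul_pow, hmr, mul_one, inv_pow, inv_eq_one] at h2
    have h4 : c = 1 := by
      obtain ⟨k, rfl⟩ := hr
      rw [pow_succ, pow_mul, pow_two, hcc, one_pow, one_mul] at h2
      exact h2
    have h5 : m * m' = c * (m' * m) := by rw [hcdef]; group
    rw [h5, h4, one_mul]
  rw [IsPGroup.iff_card]
  refine ⟨_, Nat.eq_prime_pow_of_unique_prime_dvd Nat.card_pos.ne' fun {r} hr hd => ?_⟩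
  by_contra hr2
  have hodd : Odd r := hr.odd_of_ne_two hr2
  have : Fact r.Prime := ⟨hr⟩
  obtain ⟨⟨m, hm⟩, hmo⟩ := exists_prime_orderOf_dvd_card' (G := M) r hd
  rw [Subgroup.orderOf_mk] at hmo
  have hmr : m ^ r = 1 := by rw [← hmo, pow_orderOf_eq_one]
  let A : Subgroup G :=
    { carrier := {d | d ∈ M ∧ d ^ r = 1}
      one_mem' := ⟨M.one_mem, one_pow _⟩
      mul_mem' := by
        rintro a b ⟨ha, ha1⟩ ⟨hb, hb1⟩
        refine ⟨M.mul_mem ha hb, ?_⟩
        rw [(show Commute a b from hcen r hodd a ha ha1 b hb).mul_pow, ha1, hb1, one_mul]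
      inv_mem' := by
        rintro a ⟨ha, ha1⟩
        exact ⟨M.inv_mem ha, by rw [inv_pow, ha1, inv_one]⟩ }
  have hA : A.Normal := by
    refine ⟨?_⟩
    rintro a ⟨ha, ha'⟩ g
    exact ⟨hM.conj_mem a ha g, by rw [conj_pow, ha', mul_one, mul_inv_cancel]⟩
  have h1 : m ∈ Sc ρ := h.elem hr (A := A) (fun x hx y hy => hcen r hodd x hx.1 hx.2 y hy.1)
    (fun x hx => hx.2) ⟨hm, hmr⟩
  have h2 : m * m = 1 := Sc_sq h.inj h1
  obtain ⟨k, hk⟩ := hodd
  have h3 : m = 1 := by
    rw [hk, pow_succ, pow_mul, pow_two, h2, one_pow, one_mul] at hmr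
    exact hmr
  rw [h3, orderOf_one] at hmo
  exact hr.one_lt.ne hmo

/-- **the contradiction for solvable groups** -/
theorem Hyp.not_solvable [Finite G] (h : Hyp ρ R R') (hs : Group.IsSolvable G) : False := by
  have hfd := h.finDim
  obtain ⟨n, hn⟩ := hs.solvable
  have key : ∀ k, k ≤ n → derivedSeries G (n - k) ≤ Sc ρ := by
    intro k
    induction k with
    | zero => intro _; rw [Nat.sub_zero, hn]; exact bot_le
    | succ k ih =>
      intro hk
      have h1 := ih (by omega)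
      refine h.le_Sc (derivedSeries_normal G _) fun a ha b hb => h1 ?_
      have h2 : n - k = (n - (k + 1)) + 1 := by omega
      rw [h2, derivedSeries_succ]
      exact Subgroup.commutator_mem_commutator ha hb
  have htop : (⊤ : Subgroup G) ≤ Sc ρ := by
    have := key n le_rfl
    rwa [Nat.sub_self, derivedSeries_zero] at this
  -- a line
  have := h.nontriv
  obtain ⟨v, hv⟩ := exists_ne (0 : V)
  rcases h.irr (F ∙ v) (by
    intro g m hm
    rcases htop (Subgroup.mem_top g) with hg | hg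
    · rw [hg]; exact hm
    · rw [hg]; exact Submodule.neg_mem _ hm) with h1 | h1
  · rw [Submodule.span_singleton_eq_bot] at h1
    exact hv h1
  · have h2 := finrank_span_singleton (K := F) hv
    rw [h1, finrank_top] at h2
    have := h.five
    omega

end Cfsg.Agent.H170.Fl
end

-- part: H170/Fl/Claim
section
/-!
# Claim (B) for solvable groups (helper170)

`claimB`: `R`, `R'` of the type `QR`, `⟨R, R'⟩` solvable of order prime to 3 and to the characteristic, a
non-degenerate symmetric invariant form: `[V,R] = [V,R']` or `[V,R]` is orthogonal to `[V,R']`.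
-/

set_option autoImplicit false

namespace Cfsg.Agent.H170.Fl

open Module Cfsg.Agent.H167.OP Cfsg.Agent.H170.HL

variable {F : Type*} [Field F] {V : Type*} [AddCommGroup V] [Module F V] {G : Type*} [Group G]

section transfer

variable (ρ : Representation F G V) (J : Subgroup G)

/-- the representation of `J` on `[V, J]` -/
noncomputable def rW : Representation F J (CV ρ J) where
  toFun g := (ρ (g : G)).restrict fun _ hw => CV_inv ρ g.2 hw
  map_one' := by
    apply LinearMap.ext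
    intro w
    exact Subtype.ext (one_ap ρ w)
  map_mul' g h := by
    apply LinearMap.ext
    intro w
    exact Subtype.ext (mul_ap ρ g h w)

variable [Finite G]

theorem sub_avg_mem (hJ : (Nat.card J : F) ≠ 0) (v : V) : v - avg ρ J v ∈ CV ρ J := by
  have : Fintype J := Fintype.ofFinite J
  have h1 : v - avg ρ J v = (Nat.card J : F)⁻¹ • ∑ e : J, (v - ρ e v) := by
    rw [avg_apply, Finset.sum_sub_distrib, smul_sub, Finset.sum_const, Finset.card_univ,
      ← Nat.card_eq_fintype_card, ← Nat.cast_smul_eq_nsmul F, smul_smul, inv_mul_cancel₀ hJ, one_smul]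
  rw [h1]
  refine Submodule.smul_mem _ _ (Submodule.sum_mem _ fun e _ => ?_)
  rw [← neg_sub]
  exact Submodule.neg_mem _ (sub_mem_CV ρ e.2 v)

theorem avg_CV {w : V} (hw : w ∈ CV ρ J) : avg ρ J w = 0 := by
  have h1 : CV ρ J ≤ LinearMap.ker (avg ρ J) := by
    refine CV_le fun d hd => ?_
    rintro _ ⟨v, rfl⟩
    show avg ρ J (ρ d v - v) = 0
    rw [map_sub, avg_map ρ J hd, sub_self]
  exact h1 hw

/-- the projection to `[V, J]` -/
noncomputable def piW (hJ : (Nat.card J : F) ≠ 0) : V →ₗ[F] CV ρ J :=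
  (LinearMap.id - avg ρ J).codRestrict (CV ρ J) (sub_avg_mem ρ J hJ)

theorem coe_piW (hJ : (Nat.card J : F) ≠ 0) (v : V) : (piW ρ J hJ v : V) = v - avg ρ J v := rfl

theorem piW_of_mem (hJ : (Nat.card J : F) ≠ 0) {w : V} (hw : w ∈ CV ρ J) : piW ρ J hJ w = ⟨w, hw⟩ := by
  apply Subtype.ext
  rw [coe_piW, avg_CV ρ J hw, sub_zero]

theorem rW_inj (hρ : Function.Injective ρ) (hJ : (Nat.card J : F) ≠ 0) : Function.Injective (rW ρ J) := by
  rw [injective_iff_map_eq_one]
  intro g hg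
  apply Subtype.ext
  apply hρ
  show ρ (g : G) = ρ 1
  rw [map_one]
  apply LinearMap.ext
  intro v
  have h1 : ρ (g : G) (v - avg ρ J v) = v - avg ρ J v := by
    have := congrArg (fun φ : End F (CV ρ J) => ((φ (piW ρ J hJ v) : CV ρ J) : V)) hg
    exact this
  rw [map_sub, map_avg ρ J g.2] at h1
  show ρ (g : G) v = v
  exact sub_left_inj.mp h1

theorem map_CV_rW (hJ : (Nat.card J : F) ≠ 0) {R : Subgroup G} (hR : R ≤ J) :
    (CV (rW ρ J) (R.subgroupOf J)).map (CV ρ J).subtype = CV ρ R := by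
  apply le_antisymm
  · rw [Submodule.map_le_iff_le_comap]
    refine CV_le fun d hd => ?_
    rintro _ ⟨w, rfl⟩
    show ρ (d : G) w - w ∈ CV ρ R
    exact sub_mem_CV ρ (Subgroup.mem_subgroupOf.mp hd) _
  · refine CV_le fun d hd => ?_
    rintro _ ⟨v, rfl⟩
    refine ⟨(rW ρ J ⟨d, hR hd⟩ - 1) (piW ρ J hJ v), ?_, ?_⟩
    · exact range_le_CV (rW ρ J) (Subgroup.mem_subgroupOf.mpr hd) ⟨_, rfl⟩
    · show ρ d (v - avg ρ J v) - (v - avg ρ J v) = ρ d v - v
      rw [map_sub, map_avg ρ J (hR hd)]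
      abel

theorem mem_CV_rW (hJ : (Nat.card J : F) ≠ 0) {R : Subgroup G} (hR : R ≤ J) (w : CV ρ J) :
    w ∈ CV (rW ρ J) (R.subgroupOf J) ↔ (w : V) ∈ CV ρ R := by
  rw [← map_CV_rW ρ J hJ hR]
  constructor
  · intro h
    exact ⟨w, h, rfl⟩
  · rintro ⟨w', hw', h⟩
    have : w' = w := Subtype.ext h
    rwa [← this]

theorem qr_rW [FiniteDimensional F V] (hJ : (Nat.card J : F) ≠ 0) {R : Subgroup G} (hR : R ≤ J)
    (h : QR ρ R) : QR (rW ρ J) (R.subgroupOf J) where
  pg := by
    have h1 := h.pg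
    exact h1.of_equiv (Subgroup.subgroupOfEquivOfLe hR).symm
  dim := by
    rw [← h.dim, ← map_CV_rW ρ J hJ hR]
    exact (Submodule.finrank_map_subtype_eq _ _).symm
  irr := by
    intro M hM hinv
    rcases h.irr (M.map (CV ρ J).subtype) (by
      rw [← map_CV_rW ρ J hJ hR]
      exact Submodule.map_mono hM) (by
      rintro r hr _ ⟨m, hm, rfl⟩
      exact ⟨_, hinv ⟨r, hR hr⟩ (Subgroup.mem_subgroupOf.mpr hr) m hm, rfl⟩) with h1 | h1
    · left
      rw [← Submodule.map_bot (CV ρ J).subtype] at h1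
      exact Submodule.map_injective_of_injective (CV ρ J).subtype_injective h1
    · right
      rw [← map_CV_rW ρ J hJ hR] at h1
      exact Submodule.map_injective_of_injective (CV ρ J).subtype_injective h1
  sq := by
    intro a ha
    rcases h.sq a (Subgroup.mem_subgroupOf.mp ha) with h1 | h1
    · left
      intro u hu
      apply Subtype.ext
      exact h1 u ((mem_CV_rW ρ J hJ hR u).mp hu)
    · right
      intro u hu
      apply Subtype.ext
      exact h1 u ((mem_CV_rW ρ J hJ hR u).mp hu)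
  gen := by
    obtain ⟨S, hS, hS'⟩ := h.gen
    refine ⟨{x | (x : G) ∈ S}, ?_, ?_⟩
    · apply Subgroup.map_injective J.subtype_injective
      rw [MonoidHom.map_closure, Subgroup.subgroupOf, Subgroup.map_comap_eq, Subgroup.range_subtype,
        inf_eq_right.mpr hR, ← hS]
      congr 1
      ext x
      constructor
      · rintro ⟨y, hy, rfl⟩
        exact hy
      · intro hx
        exact ⟨⟨x, hR (hS ▸ Subgroup.subset_closure hx)⟩, hx, rfl⟩
    · intro x hx
      obtain ⟨h1, h2⟩ := hS' x hx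
      refine ⟨Subtype.ext h1, le_trans ?_ h2⟩
      unfold rk
      have h3 : (LinearMap.range (rW ρ J x - 1)).map (CV ρ J).subtype ≤ LinearMap.range (ρ (x : G) - 1) := by
        rintro _ ⟨_, ⟨w, rfl⟩, rfl⟩
        exact ⟨w, rfl⟩
      have h4 := Submodule.finrank_mono h3
      rwa [Submodule.finrank_map_subtype_eq] at h4
  scal := by
    intro φ hφ
    obtain ⟨c, hc⟩ := h.scal ((CV ρ J).subtype ∘ₗ φ ∘ₗ piW ρ J hJ) (by
      intro r hr v
      show ((φ (piW ρ J hJ (ρ r v)) : CV ρ J) : V) = ρ r (φ (piW ρ J hJ v))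
      have h1 : piW ρ J hJ (ρ r v) = rW ρ J ⟨r, hR hr⟩ (piW ρ J hJ v) := by
        apply Subtype.ext
        show ρ r v - avg ρ J (ρ r v) = ρ r (v - avg ρ J v)
        rw [avg_map ρ J (hR hr), map_sub, map_avg ρ J (hR hr)]
      rw [h1, hφ ⟨r, hR hr⟩ (Subgroup.mem_subgroupOf.mpr hr)]
      rfl)
    refine ⟨c, fun u hu => ?_⟩
    apply Subtype.ext
    have h1 := hc u ((mem_CV_rW ρ J hJ hR u).mp hu)
    have h2 : piW ρ J hJ (u : V) = u := piW_of_mem ρ J hJ u.2
    have h3 : ((φ (piW ρ J hJ (u : V)) : CV ρ J) : V) = c • (u : V) := h1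
    rw [h2] at h3
    exact h3

end transfer

theorem CV_sup (ρ : Representation F G V) (R R' : Subgroup G) : CV ρ (R ⊔ R') = CV ρ R ⊔ CV ρ R' := by
  apply le_antisymm
  · have h1 : R ⊔ R' = Subgroup.closure ((R : Set G) ∪ R') := by
      rw [Subgroup.closure_union, Subgroup.closure_eq, Subgroup.closure_eq]
    rw [h1]
    refine CV_closure_le ?_
    rintro s (hs | hs)
    · exact (range_le_CV ρ hs).trans le_sup_left
    · exact (range_le_CV ρ hs).trans le_sup_right
  · exact sup_le (CV_mono ρ le_sup_left) (CV_mono ρ le_sup_right)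

/-- a trivial action on `[V, R]` gives orthogonality -/
theorem orth_of_fix (ρ : Representation F G V) (f : V →ₗ[F] V →ₗ[F] F)
    (hf : ∀ g u v, f (ρ g u) (ρ g v) = f u v) {R' : Subgroup G} {U : Submodule F V}
    (h : ∀ r ∈ R', ∀ u ∈ U, ρ r u = u) : ∀ u ∈ U, ∀ u' ∈ CV ρ R', f u u' = 0 := by
  intro u hu
  have h1 : CV ρ R' ≤ LinearMap.ker (f u) := by
    refine CV_le fun d hd => ?_
    rintro _ ⟨v, rfl⟩
    show f u (ρ d v - v) = 0
    rw [map_sub]
    have h2 := hf d u v
    rw [h d hd u hu] at h2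
    rw [h2, sub_self]
  intro u' hu'
  exact h1 hu'

end Cfsg.Agent.H170.Fl
end
end

-- part: H556/OmHall
section
prune_inst 0x25706004442212000018050010001c42b2000002004b0000c96008040488cc4320010e61b84002100018884400380020135c00100040000004000400411c05a180804200b248a10424001f800800000000000000000000000000000000000000200000000
set_option linter.all false
open scoped Cfsg.Agent.FastGrp

/-!
# `r`-elements of a Hall subgroup centralise the 2-subgroups they normalise (helper556)
-/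

set_option autoImplicit false
set_option linter.unusedSectionVars false

namespace Cfsg.Agent.H556.Om

open Module QuadraticMap Cfsg.Agent.H167.OP Cfsg.Agent.H170.HL Cfsg.Agent.H170.HL.OmRow Cfsg.Agent.H170.Fl

variable {F : Type*} [Field F] {ι : Type} [Fintype ι] [DecidableEq ι] {Q : QuadraticForm F (ι → F)}

/-- the hypotheses on the Hall subgroup -/
structure HH (Q : QuadraticForm F (ι → F)) (H : Subgroup (Cfsg.Omega F (⇑Q))) : Prop where
  gq : GoodQ Q
  two : (2 : F) ≠ 0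
  claim : ClaimB (rep (inc (⇑Q))) (polarBilin Q)
  idx : ¬ 2 ∣ H.index
  three : ¬ 3 ∣ Nat.card H
  card : (Nat.card H : F) ≠ 0

/-- 2-subgroups are conjugate into subgroups of odd index -/
theorem exists_conj {G : Type*} [Group G] [Finite G] {H P : Subgroup G} (hi : ¬ 2 ∣ H.index) (hP : IsPGroup 2 P) :
    ∃ g : G, ∀ x ∈ P, g * x * g⁻¹ ∈ H := by
  have : Fact (Nat.Prime 2) := ⟨Nat.prime_two⟩
  obtain ⟨P1, hP1⟩ := hP.exists_le_sylow
  obtain ⟨P2⟩ : Nonempty (Sylow 2 H) := inferInstance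
  have h1 : IsPGroup 2 ((P2 : Subgroup H).map H.subtype) := P2.2.map _
  have h2 : ¬ 2 ∣ ((P2 : Subgroup H).map H.subtype).index := by
    rw [Subgroup.index_map_subtype]
    intro hd
    rcases (Nat.prime_two.dvd_mul).mp hd with hd | hd
    · exact P2.not_dvd_index hd
    · exact hi hd
  obtain ⟨g, hg⟩ := MulAction.exists_smul_eq G P1 (h1.toSylow h2)
  refine ⟨g, fun x hx => ?_⟩
  have h3 : g * x * g⁻¹ ∈ g • P1 := by
    have := Subgroup.smul_mem_pointwise_smul x (MulAut.conj g) (P1 : Subgroup G) (hP1 hx)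
    exact this
  rw [hg] at h3
  exact Subgroup.map_subtype_le _ h3

/-- the subspaces -/
def Us {K : Type*} (E : K × A4 → ι → F) (k : K) : Submodule F (ι → F) := Submodule.span F (Set.range (Ek E k))

section

variable {K : Type*} [Fintype K] [DecidableEq K] {E : K × A4 → ι → F}

theorem mem_Us (k : K) (a : A4) : E (k, a) ∈ Us E k := Submodule.subset_span ⟨a, rfl⟩

theorem Us_orth (hE : Frame (polarBilin Q) E) {k l : K} (hkl : k ≠ l) {u v : ι → F} (hu : u ∈ Us E k) (hv : v ∈ Us E l) :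
    polarBilin Q u v = 0 := by
  induction hu using Submodule.span_induction with
  | mem u hu =>
    obtain ⟨a, rfl⟩ := hu
    induction hv using Submodule.span_induction with
    | mem v hv =>
      obtain ⟨b, rfl⟩ := hv
      exact hE.orth _ _ fun h => hkl (congrArg Prod.fst h)
    | zero => rw [map_zero]
    | add v w _ _ h1 h2 => rw [map_add, h1, h2, add_zero]
    | smul c v _ h1 => rw [map_smul, h1, smul_zero]
  | zero => rw [map_zero, LinearMap.zero_apply]
  | add v w _ _ h1 h2 => rw [map_add, LinearMap.add_apply, h1, h2, add_zero]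
  | smul c v _ h1 => rw [map_smul, LinearMap.smul_apply, h1, smul_zero]

theorem Us_injective (h2 : (2 : F) ≠ 0) (hE : Frame (polarBilin Q) E) : Function.Injective (Us E) := by
  intro k l hkl
  by_contra hne
  have h1 : E (k, 0) ∈ Us E l := by rw [← hkl]; exact mem_Us k 0
  have h3 := Us_orth hE hne (mem_Us k 0) h1
  rw [hE.self] at h3
  exact h2 h3

theorem map_rep_inj (g : Cfsg.Omega F (⇑Q)) : Function.Injective (Submodule.map (rep (inc (⇑Q)) g)) := by
  apply Submodule.map_injective_of_injective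
  intro u v huv
  rw [← inv_ap (rep (inc (⇑Q))) g u, huv, inv_ap]

theorem map_mul_rep (g h : Cfsg.Omega F (⇑Q)) (U : Submodule F (ι → F)) :
    U.map (rep (inc (⇑Q)) (g * h)) = (U.map (rep (inc (⇑Q)) h)).map (rep (inc (⇑Q)) g) := by
  rw [← Submodule.map_comp]
  congr 1
  exact map_mul (rep (inc (⇑Q))) g h

theorem map_one_rep (U : Submodule F (ι → F)) : U.map (rep (inc (⇑Q)) 1) = U := by
  rw [map_one]
  exact Submodule.map_id U

/-- pairs acting compatibly -/
def NN (Q : QuadraticForm F (ι → F)) (E : K × A4 → ι → F) : Subgroup (Cfsg.Omega F (⇑Q) × Equiv.Perm K) where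
  carrier := {p | ∀ k, (Us E k).map (rep (inc (⇑Q)) p.1) = Us E (p.2 k)}
  one_mem' := fun k => map_one_rep _
  mul_mem' := by
    intro p q hp hq k
    show (Us E k).map (rep (inc (⇑Q)) (p.1 * q.1)) = Us E (p.2 (q.2 k))
    rw [map_mul_rep, hq, hp]
  inv_mem' := by
    intro p hp k
    show (Us E k).map (rep (inc (⇑Q)) p.1⁻¹) = Us E (p.2⁻¹ k)
    apply map_rep_inj p.1
    rw [← map_mul_rep, mul_inv_cancel, map_one_rep, hp]
    exact congrArg (Us E) (p.2.apply_symm_apply k).symm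

theorem mem_NN {p : Cfsg.Omega F (⇑Q) × Equiv.Perm K} :
    p ∈ NN Q E ↔ ∀ k, (Us E k).map (rep (inc (⇑Q)) p.1) = Us E (p.2 k) := Iff.rfl

/-- every permutation of the blocks is induced -/
theorem exists_NN (hQ : GoodQ Q) (h2 : (2 : F) ≠ 0) (hE : Frame (polarBilin Q) E) (τ : Equiv.Perm K) :
    ∃ g, (g, τ) ∈ NN Q E := by
  have hs : Equiv.Perm.sign (Equiv.prodCongrLeft (fun _ : A4 => τ)) = 1 := by
    rw [Equiv.Perm.sign_prodCongrLeft, Finset.prod_const]
    have : (Finset.univ : Finset A4).card = 2 * 2 := rfl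
    rw [this, pow_mul]
    rcases Int.units_eq_one_or (Equiv.Perm.sign τ) with h | h <;> rw [h] <;> decide
  obtain ⟨g, hg⟩ := exists_perm hQ h2 hE hs
  refine ⟨g, fun k => ?_⟩
  show (Us E k).map (rep (inc (⇑Q)) g) = Us E (τ k)
  rw [Us, Submodule.map_span, Us]
  congr 1
  rw [← Set.range_comp]
  congr 1
  funext a
  show rep (inc (⇑Q)) g (E (k, a)) = E (τ k, a)
  rw [hg, mono_e hE h2, one_smul]
  rfl

end

namespace HH

variable {H : Subgroup (Cfsg.Omega F (⇑Q))} {m : ℕ} {E : Fin m × A4 → ι → F}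

/-- conjugating a family into `H` -/
theorem exists_family [Finite F] (h : HH Q H) (hE : Frame (polarBilin Q) E) :
    ∃ E' : Fin m × A4 → ι → F, Frame (polarBilin Q) E' ∧ ∀ k, RG Q (Ek E' k) ≤ H := by
  have : Finite (Cfsg.Omega F (⇑Q)) := inferInstance
  obtain ⟨g, hg⟩ := exists_conj h.idx (BG_isPGroup h.two hE)
  refine ⟨fun j => rep (inc (⇑Q)) g (E j), hE.map (polar_omega g), fun k => ?_⟩
  exact RG_conj g (Ek E k) fun x hx => hg x (RG_le_BG h.two hE k hx)

/-- `H` permutes the subspaces -/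
theorem exists_image [Finite F] (h : HH Q H) (hE : Frame (polarBilin Q) E)
    (hmax : ∀ E' : Fin (m + 1) × A4 → ι → F, ¬ Frame (polarBilin Q) E') (hR : ∀ k, RG Q (Ek E k) ≤ H)
    {g : Cfsg.Omega F (⇑Q)} (hg : g ∈ H) (k : Fin m) :
    ∃ l, (Us E k).map (rep (inc (⇑Q)) g) = Us E l := by
  have hfin : Finite (Cfsg.Omega F (⇑Q)) := inferInstance
  by_contra hcon
  push Not at hcon
  set e' : A4 → ι → F := fun a => rep (inc (⇑Q)) g (Ek E k a) with he'
  have hF' : Frame (polarBilin Q) e' := (Ek_frame hE k).map (polar_omega g)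
  have hR' : RG Q e' ≤ H := RG_conj g (Ek E k) fun x hx => H.mul_mem (H.mul_mem hg (hR k hx)) (H.inv_mem hg)
  have hCV' : CV (rep (inc (⇑Q))) (RG Q e') = (Us E k).map (rep (inc (⇑Q)) g) := by
    rw [CV_RG h.gq h.two hF', Us, Submodule.map_span, ← Set.range_comp]
    rfl
  have hCV : ∀ l, CV (rep (inc (⇑Q))) (RG Q (Ek E l)) = Us E l := fun l => CV_RG h.gq h.two (Ek_frame hE l)
  obtain ⟨E', hE'⟩ := exists_cons hE hF' (fun j a => by
    obtain ⟨l, b⟩ := j
    have hle : RG Q (Ek E l) ⊔ RG Q e' ≤ H := sup_le (hR l) hR'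
    have hdvd := Subgroup.card_dvd_of_le hle
    rcases h.claim _ _ (qr h.gq h.two (Ek_frame hE l)) (qr h.gq h.two hF') (fun hd => h.three (hd.trans hdvd))
      (fun h0 => h.card (by
        obtain ⟨c, hc⟩ := hdvd
        rw [hc, Nat.cast_mul, h0, zero_mul])) with h1 | h1
    · exfalso
      rw [hCV, hCV'] at h1
      exact hcon l h1.symm
    · rw [hCV, CV_RG h.gq h.two hF'] at h1
      exact h1 _ (mem_Us l b) _ (Submodule.subset_span ⟨a, rfl⟩))
  exact hmax E' hE'

theorem exists_perm [Finite F] (h : HH Q H) (hE : Frame (polarBilin Q) E)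
    (hmax : ∀ E' : Fin (m + 1) × A4 → ι → F, ¬ Frame (polarBilin Q) E') (hR : ∀ k, RG Q (Ek E k) ≤ H)
    {g : Cfsg.Omega F (⇑Q)} (hg : g ∈ H) : ∃ τ : Equiv.Perm (Fin m), (g, τ) ∈ NN Q E := by
  choose τ hτ using fun k => h.exists_image hE hmax hR hg k
  have hinj : Function.Injective τ := by
    intro k l hkl
    apply Us_injective h.two hE
    apply map_rep_inj g
    rw [hτ, hτ, hkl]
  exact ⟨Equiv.ofBijective τ (Finite.injective_iff_bijective.mp hinj), hτ⟩

end HH

section Hall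

open Subgroup Cfsg Cfsg.Agent.H988.CPi Cfsg.Agent.H553.OddHall Cfsg.Agent.H553.ExtRed

variable {π : Set ℕ} {H : Subgroup (Cfsg.Omega F (⇑Q))} {m : ℕ} {E : Fin m × A4 → ι → F}

/-- the symmetric group has a Hall subgroup -/
theorem HH.isEPi [Finite F] (h : HH Q H) (hE : Frame (polarBilin Q) E)
    (hmax : ∀ E' : Fin (m + 1) × A4 → ι → F, ¬ Frame (polarBilin Q) E') (hR : ∀ k, RG Q (Ek E k) ≤ H)
    (hH : IsPiHall π H) : IsEPiGroup π (Equiv.Perm (Fin m)) := by
  have hfin : Finite (Cfsg.Omega F (⇑Q)) := inferInstance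
  let π1 : NN Q E →* Cfsg.Omega F (⇑Q) := (MonoidHom.fst _ _).comp (NN Q E).subtype
  let π2 : NN Q E →* Equiv.Perm (Fin m) := (MonoidHom.snd _ _).comp (NN Q E).subtype
  have h1 : Function.Injective π1 := by
    rw [injective_iff_map_eq_one]
    rintro ⟨⟨g, τ⟩, hp⟩ hg
    have hg' : g = 1 := hg
    subst hg'
    have : τ = 1 := by
      ext k
      have h3 := hp k
      rw [map_one_rep] at h3
      exact congrArg Fin.val (Us_injective h.two hE h3).symm
    subst this
    rfl
  have h2 : Function.Surjective π2 := by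
    intro τ
    obtain ⟨g, hg⟩ := exists_NN h.gq h.two hE τ
    exact ⟨⟨(g, τ), hg⟩, rfl⟩
  have hle : H ≤ π1.range := by
    intro g hg
    obtain ⟨τ, hτ⟩ := h.exists_perm hE hmax hR hg
    exact ⟨⟨(g, τ), hτ⟩, rfl⟩
  refine ⟨(H.comap π1).map π2, ?_, ?_⟩
  · intro p hp hd
    refine hH.1 p hp (hd.trans ((Subgroup.card_map_dvd _ _).trans ?_))
    have h3 : Nat.card (H.comap π1) = Nat.card ((H.comap π1).map π1) := (card_map_of_injective h1).symm
    rw [h3]
    exact card_dvd_of_le (map_comap_le _ _)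
  · intro p hp hpπ hd
    refine hH.2 p hp hpπ (hd.trans (((H.comap π1).index_map_dvd h2).trans ?_))
    rw [index_comap, ← relIndex_mul_index hle]
    exact Dvd.intro _ rfl

end Hall

section Cen

open Subgroup Cfsg Cfsg.Agent.H988.CPi Cfsg.Agent.H553.OddHall Cfsg.Agent.H553.ExtRed

variable {π : Set ℕ} {H : Subgroup (Cfsg.Omega F (⇑Q))} {m : ℕ} {E : Fin m × A4 → ι → F}

/-- primes of `π` are larger than the number of blocks -/
theorem HH.lt [Finite F] (h : HH Q H) (hE : Frame (polarBilin Q) E)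
    (hmax : ∀ E' : Fin (m + 1) × A4 → ι → F, ¬ Frame (polarBilin Q) E') (hR : ∀ k, RG Q (Ek E k) ≤ H)
    (hH : IsPiHall π H) (h2π : 2 ∈ π) (h3π : 3 ∉ π) {r : ℕ} (hr : r.Prime) (hrπ : r ∈ π) (hr2 : r ≠ 2) : m < r := by
  by_contra hcon
  push Not at hcon
  have hr3 : 3 ≤ r := by
    have := hr.two_le
    omega
  have h5 := (Cfsg.Agent.S2536.result m π ⟨2, r, Nat.prime_two, hr, fun h => hr2 h.symm, h2π, hrπ, by omega, hcon⟩
      ⟨3, Nat.prime_three, by omega, h3π⟩).mp (h.isEPi hE hmax hR hH)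
  rcases h5 with ⟨hnp, h6⟩ | ⟨hn78, h6⟩
  · have h7 := h6 3 Nat.prime_three (by omega)
    by_cases hm3 : m = 3
    · subst hm3
      have : r = 3 := by omega
      exact h3π (this ▸ hrπ)
    · exact h3π (h7.mpr (by omega))
  · have h7 := h6 3 Nat.prime_three (by omega)
    exact h3π (h7.mpr (Or.inr rfl))

/-- odd elements fix the blocks -/
theorem HH.fix [Finite F] (h : HH Q H) (hE : Frame (polarBilin Q) E)
    (hmax : ∀ E' : Fin (m + 1) × A4 → ι → F, ¬ Frame (polarBilin Q) E') (hR : ∀ k, RG Q (Ek E k) ≤ H)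
    (hH : IsPiHall π H) (h2π : 2 ∈ π) (h3π : 3 ∉ π) {r n : ℕ} (hr : r.Prime) (hrπ : r ∈ π) (hr2 : r ≠ 2)
    {y : Cfsg.Omega F (⇑Q)} (hy : y ∈ H) (hyn : y ^ r ^ n = 1) (k : Fin m) :
    (Us E k).map (rep (inc (⇑Q)) y) = Us E k := by
  obtain ⟨τ, hτ⟩ := h.exists_perm hE hmax hR hy
  have h1 := (NN Q E).pow_mem hτ (r ^ n)
  have h3 : τ ^ r ^ n = 1 := by
    ext k
    have h4 := h1 k
    have h5 : (Us E k).map (rep (inc (⇑Q)) (y ^ r ^ n)) = Us E ((τ ^ r ^ n) k) := h4
    rw [hyn, map_one_rep] at h5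
    exact congrArg Fin.val (Us_injective h.two hE h5).symm
  have h4 : orderOf τ ∣ m.factorial := by
    have := _root_.orderOf_dvd_natCard τ
    rwa [Nat.card_eq_fintype_card, Fintype.card_perm, Fintype.card_fin] at this
  have h5 : Nat.Coprime (r ^ n) m.factorial :=
    (hr.coprime_factorial_of_lt (h.lt hE hmax hR hH h2π h3π hr hrπ hr2)).pow_left n
  have h6 : τ = 1 := by
    rw [← orderOf_eq_one_iff]
    exact Nat.eq_one_of_dvd_coprimes h5 (orderOf_dvd_of_pow_eq_one h3) h4
  have h7 := hτ k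
  rw [h6] at h7
  exact h7

/-- the complement of the blocks -/
def Wc {K : Type*} (Q : QuadraticForm F (ι → F)) (E : K × A4 → ι → F) : Submodule F (ι → F) where
  carrier := {w | ∀ j, polarBilin Q (E j) w = 0}
  zero_mem' := fun j => map_zero _
  add_mem' := fun ha hb j => by rw [map_add, ha j, hb j, add_zero]
  smul_mem' := fun c _ ha j => by rw [map_smul, ha j, smul_zero]

theorem finrank_Wc (h2 : (2 : F) ≠ 0) {E : Fin m × A4 → ι → F} (hE : Frame (polarBilin Q) E) :
    4 * m + finrank F (Wc Q E) ≤ Fintype.card ι := by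
  have h1 : Disjoint (Submodule.span F (Set.range E)) (Wc Q E) := by
    rw [Submodule.disjoint_def]
    intro x hx hxW
    obtain ⟨c, hc⟩ := (Submodule.mem_span_range_iff_exists_fun F).mp hx
    rw [← hc]
    refine Finset.sum_eq_zero fun j _ => ?_
    have h3 := hxW j
    rw [← hc, map_sum, Finset.sum_eq_single j] at h3
    · rw [map_smul, hE.self, smul_eq_mul] at h3
      rw [(mul_eq_zero.mp h3).resolve_right h2, zero_smul]
    · intro k _ hk
      rw [map_smul, hE.orth j k hk.symm, smul_zero]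
    · intro h
      exact absurd (Finset.mem_univ j) h
  have h3 := Submodule.finrank_add_finrank_le_of_disjoint h1
  rw [finrank_span_eq_card (hE.linearIndependent h2), Fintype.card_prod, Fintype.card_fin, Module.finrank_pi] at h3
  have h4 : Fintype.card A4 = 4 := rfl
  rw [h4] at h3
  omega

/-- the restriction of part (A) -/
theorem partA_sub [Finite F] (h2 : (2 : F) ≠ 0) {St : Subgroup (Cfsg.Omega F (⇑Q))} {U : Submodule F (ι → F)}
    (hU : ∀ g ∈ St, ∀ u ∈ U, rep (inc (⇑Q)) g u ∈ U)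
    (hnd : ∀ x ∈ U, (∀ y ∈ U, polarBilin Q x y = 0) → x = 0) (hdim : finrank F U ≤ 4) {r n : ℕ} (hr : r.Prime)
    (h5 : 5 ≤ r) {y : Cfsg.Omega F (⇑Q)} (hy : y ∈ St) (hyn : y ^ r ^ n = 1) {D : Subgroup (Cfsg.Omega F (⇑Q))}
    (hDS : D ≤ St) (hD : IsPGroup 2 D) (hn : Nrm y D) :
    ∀ d ∈ D, ∀ u ∈ U, rep (inc (⇑Q)) (y * d * y⁻¹ * d⁻¹) u = u := by
  have hfin : Finite (Cfsg.Omega F (⇑Q)) := inferInstance
  let σ : Representation F St U := H575.Dim.sub (rep (inc (⇑Q))) St.subtype U fun g u hu => hU g g.2 u hu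
  have hσ : ∀ (g : St) (u : U), ((σ g u : U) : ι → F) = rep (inc (⇑Q)) g u := fun _ _ => rfl
  intro d hd u hu
  have h1 := Cfsg.Agent.H556.OmSmall.partA (G := St) (D := D.subgroupOf St) (y := ⟨y, hy⟩) (n := n) (r := r) σ h2
    ((polarBilin Q).domRestrict₁₂ U U) (fun u v => polar_symm _ _)
    (fun x hx => Subtype.ext (hnd x x.2 fun y hy => hx ⟨y, hy⟩))
    (fun g u v => polar_omega (g : Cfsg.Omega F (⇑Q)) u v) hdim hr h5 (Subtype.ext (by simpa only [_root_.SubmonoidClass.mk_pow, _root_.OneMemClass.coe_one] using hyn))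
    (hD.comap_subtype) (by
      intro e he
      rw [Subgroup.mem_subgroupOf] at he ⊢
      exact hn _ he) ⟨d, hDS hd⟩ (Subgroup.mem_subgroupOf.mpr hd)
  have h3 := congrArg Subtype.val (LinearMap.congr_fun h1 ⟨u, hu⟩)
  exact h3

theorem Us_nondeg {K : Type*} [Fintype K] [DecidableEq K] (h2 : (2 : F) ≠ 0) {E : K × A4 → ι → F}
    (hE : Frame (polarBilin Q) E) (k : K) :
    ∀ x ∈ Us E k, (∀ y ∈ Us E k, polarBilin Q x y = 0) → x = 0 := by
  intro x hx hy
  obtain ⟨c, hc⟩ := (Submodule.mem_span_range_iff_exists_fun F).mp hx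
  rw [← hc]
  refine Finset.sum_eq_zero fun j _ => ?_
  have h3 := hy _ (mem_Us k j)
  rw [polar_symm, ← hc, map_sum, Finset.sum_eq_single j] at h3
  · rw [map_smul] at h3
    have h4 : polarBilin Q (E (k, j)) (Ek E k j) = 2 := hE.self _
    rw [h4, smul_eq_mul] at h3
    rw [(mul_eq_zero.mp h3).resolve_right h2, zero_smul]
  · intro l _ hl
    rw [map_smul]
    have h4 : polarBilin Q (E (k, j)) (Ek E k l) = 0 := hE.orth _ _ fun h => hl (congrArg Prod.snd h).symm
    rw [h4, smul_zero]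
  · intro h
    exact absurd (Finset.mem_univ j) h

theorem Wc_nondeg {K : Type*} [Fintype K] [DecidableEq K] (hnd : (polarBilin Q).Nondegenerate) (h2 : (2 : F) ≠ 0)
    {E : K × A4 → ι → F} (hE : Frame (polarBilin Q) E) :
    ∀ x ∈ Wc Q E, (∀ y ∈ Wc Q E, polarBilin Q x y = 0) → x = 0 := by
  intro x hx hy
  apply hnd.1
  intro v
  obtain ⟨c, w, hw, rfl⟩ := exists_decomp hE h2 v
  rw [map_add, hy w hw, add_zero, map_sum]
  refine Finset.sum_eq_zero fun j _ => ?_
  rw [map_smul, polar_symm, hx j, smul_zero]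

theorem finrank_Us {K : Type*} [Fintype K] [DecidableEq K] (h2 : (2 : F) ≠ 0) {E : K × A4 → ι → F}
    (hE : Frame (polarBilin Q) E) (k : K) : finrank F (Us E k) = 4 := by
  rw [Us, finrank_span_eq_card ((Ek_frame hE k).linearIndependent h2)]
  rfl

/-- **`r`-elements of `H` centralise the 2-subgroups they normalise** -/
theorem HH.cen [Finite F] (h : HH Q H) (hH : IsPiHall π H) (h2π : 2 ∈ π) (h3π : 3 ∉ π) {r n : ℕ} (hr : r.Prime)
    (h5 : 5 ≤ r) (hrπ : r ∈ π) {y : Cfsg.Omega F (⇑Q)} (hy : y ∈ H) (hyn : y ^ r ^ n = 1)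
    {D : Subgroup (Cfsg.Omega F (⇑Q))} (hDH : D ≤ H) (hD : IsPGroup 2 D) (hn : Nrm y D) : Cen y D := by
  have hfin : Finite (Cfsg.Omega F (⇑Q)) := inferInstance
  obtain ⟨m, E₀, hE₀, hcard, hmax⟩ := exists_max (Q := Q) h.gq.nd h.two
  obtain ⟨E, hE, hR⟩ := h.exists_family hE₀
  have hfix := h.fix hE hmax hR hH h2π h3π hr hrπ (by omega) hy hyn
  let St : Subgroup (Cfsg.Omega F (⇑Q)) := (NN Q E).comap (MonoidHom.inl _ _)
  have hSt : ∀ g, g ∈ St ↔ ∀ k, (Us E k).map (rep (inc (⇑Q)) g) = Us E k := fun g => Iff.rfl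
  have hyS : y ∈ St := (hSt y).mpr hfix
  have hU : ∀ k, ∀ g ∈ St, ∀ u ∈ Us E k, rep (inc (⇑Q)) g u ∈ Us E k := by
    intro k g hg u hu
    rw [← (hSt g).mp hg k]
    exact ⟨u, hu, rfl⟩
  have hW : ∀ g ∈ St, ∀ u ∈ Wc Q E, rep (inc (⇑Q)) g u ∈ Wc Q E := by
    rintro g hg u hu ⟨k, a⟩
    have h1 : ∀ v ∈ Us E k, polarBilin Q v u = 0 := by
      intro v hv
      induction hv using Submodule.span_induction with
      | mem v hv =>
        obtain ⟨b, rfl⟩ := hv
        exact hu (k, b)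
      | zero => rw [map_zero, LinearMap.zero_apply]
      | add v w _ _ h1 h2 => rw [map_add, LinearMap.add_apply, h1, h2, add_zero]
      | smul c v _ h1 => rw [map_smul, LinearMap.smul_apply, h1, smul_zero]
    have h3 : E (k, a) ∈ (Us E k).map (rep (inc (⇑Q)) g) := by
      rw [(hSt g).mp hg k]
      exact mem_Us k a
    obtain ⟨v, hv, hva⟩ := h3
    rw [← hva, polar_omega]
    exact h1 v hv
  -- the elements of `D ⊓ St`
  have key : ∀ d ∈ D ⊓ St, y * d * y⁻¹ * d⁻¹ = 1 := by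
    have hn1 : Nrm y (D ⊓ St) := fun d hd => ⟨hn d hd.1, St.mul_mem (St.mul_mem hyS hd.2) (St.inv_mem hyS)⟩
    have hD1 : IsPGroup 2 (D ⊓ St : Subgroup _) := hD.to_le inf_le_left
    intro d hd
    apply rep_inj (Q := Q)
    rw [map_one]
    refine ext_frame hE h.two (fun j => ?_) fun w hw => ?_
    · obtain ⟨k, a⟩ := j
      exact partA_sub h.two (hU k) (Us_nondeg h.two hE k) (finrank_Us h.two hE k).le hr h5 hyS hyn inf_le_right hD1
        hn1 d hd _ (mem_Us k a)
    · have hdW : finrank F (Wc Q E) ≤ 4 := by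
        have := finrank_Wc h.two hE
        omega
      exact partA_sub h.two hW (Wc_nondeg h.gq.nd h.two hE) hdW hr h5 hyS hyn inf_le_right hD1 hn1 d hd w hw
  intro d hd
  -- the commutator lies in `D ⊓ St`
  have hcD : y * d * y⁻¹ * d⁻¹ ∈ D := D.mul_mem (hn d hd) (D.inv_mem hd)
  have hcS : y * d * y⁻¹ * d⁻¹ ∈ St := by
    obtain ⟨τ, hτ⟩ := h.exists_perm hE hmax hR (hDH hd)
    have h1 : (y, (1 : Equiv.Perm (Fin m))) ∈ NN Q E := hyS
    have h3 := (NN Q E).mul_mem ((NN Q E).mul_mem ((NN Q E).mul_mem h1 hτ) ((NN Q E).inv_mem h1))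
      ((NN Q E).inv_mem hτ)
    have h4 : (y, (1 : Equiv.Perm (Fin m))) * (d, τ) * (y, (1 : Equiv.Perm (Fin m)))⁻¹ * (d, τ)⁻¹ =
        (y * d * y⁻¹ * d⁻¹, 1) := by
      simp only [_root_.Prod.mk_mul_mk, _root_.one_mul, _root_.Prod.inv_mk, _root_.inv_one, _root_.mul_one, _root_.mul_inv_cancel]
    rw [h4] at h3
    exact h3
  have h1 := key _ ⟨hcD, hcS⟩
  have h3 : y * (y * d * y⁻¹ * d⁻¹) = (y * d * y⁻¹ * d⁻¹) * y := by
    have h4 : y * (y * d * y⁻¹ * d⁻¹) = (y * (y * d * y⁻¹ * d⁻¹) * y⁻¹ * (y * d * y⁻¹ * d⁻¹)⁻¹) *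
        ((y * d * y⁻¹ * d⁻¹) * y) := by group
    rw [h4, h1, one_mul]
  obtain ⟨k, hk⟩ := hD ⟨_, hcD⟩
  have hk' : (y * d * y⁻¹ * d⁻¹) ^ 2 ^ k = 1 := by simpa only [_root_.SubmonoidClass.mk_pow, _root_.OneMemClass.coe_one] using congrArg Subtype.val hk
  have hcop : (2 ^ k).Coprime (r ^ n) :=
    Nat.Coprime.pow _ _ ((Nat.coprime_primes Nat.prime_two hr).mpr (by omega))
  have h6 : y * d * y⁻¹ * d⁻¹ = 1 := comm_order hyn hk' hcop h3 rfl
  have h7 : y * d = (y * d * y⁻¹ * d⁻¹) * (d * y) := by group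
  rw [h7, h6, one_mul]

end Cen

end Cfsg.Agent.H556.Om

private theorem dce_58a7b65b7514 : _root_.True := by
  try have : _root_.True := by simp only [_root_.Cfsg.Agent.H556.Om.Us.eq_1]
  exact _root_.True.intro
end

-- part: H556/OmClosed
section
set_option linter.all false
open scoped Cfsg.Agent.FastGrp

/-!
# `OddClosed` from the Frobenius criterion (helper556)
-/

set_option autoImplicit false
set_option linter.unusedSectionVars false

namespace Cfsg.Agent.H556.OmClosed

open Subgroup Cfsg.Agent.H553.ExtRed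

variable {H : Type*} [Group H] [Finite H]

theorem centralizes_odd
    (hc : ∀ r n : ℕ, r.Prime → r ≠ 2 → r ∣ Nat.card H → ∀ g : H, g ^ r ^ n = 1 → ∀ R : Subgroup H, IsPGroup 2 R →
      g ∈ normalizer (R : Set H) → g ∈ centralizer (R : Set H)) {R : Subgroup H} (hR : IsPGroup 2 R) (N : ℕ) :
    ∀ g : H, orderOf g = N → g ∈ normalizer (R : Set H) → Nat.Coprime (orderOf g) 2 →
      g ∈ centralizer (R : Set H) := by
  induction N using Nat.recOnPosPrimePosCoprime with
  | prime_pow p n hp hn =>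
    intro g hg hgN hco
    rw [hg] at hco
    have hp2 : p ≠ 2 := by
      rintro rfl
      exact absurd ((Nat.coprime_pow_left_iff hn 2 2).mp hco) (by decide)
    refine hc p n hp hp2 ?_ g (by rw [← hg]; exact pow_orderOf_eq_one g) R hR hgN
    refine dvd_trans ?_ (orderOf_dvd_natCard g)
    rw [hg]
    exact dvd_pow_self p hn.ne'
  | zero =>
    intro g hg _ _
    exact absurd hg (orderOf_pos g).ne'
  | one =>
    intro g hg _ _
    rw [orderOf_eq_one_iff.mp hg]
    exact one_mem _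
  | coprime a b ha hb hab iha ihb =>
    intro g hg hgN hco
    rw [hg] at hco
    have hga : orderOf (g ^ b) = a := by
      rw [orderOf_pow, hg, Nat.gcd_eq_right (Dvd.intro_left a rfl), Nat.mul_div_cancel _ (by omega)]
    have hgb : orderOf (g ^ a) = b := by
      rw [orderOf_pow, hg, Nat.gcd_eq_right (Dvd.intro b rfl), Nat.mul_div_cancel_left _ (by omega)]
    have h1 := iha (g ^ b) hga (pow_mem hgN b) (by rw [hga]; exact hco.coprime_mul_right)
    have h2 := ihb (g ^ a) hgb (pow_mem hgN a) (by rw [hgb]; exact hco.coprime_mul_left)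
    have hbez := Nat.gcd_eq_gcd_ab a b
    rw [hab] at hbez
    have h4 : g = (g ^ a) ^ (Nat.gcdA a b) * (g ^ b) ^ (Nat.gcdB a b) := by
      rw [← zpow_natCast g a, ← zpow_natCast g b, ← zpow_mul, ← zpow_mul, ← zpow_add, ← hbez]
      simp
    rw [h4]
    exact mul_mem (zpow_mem h2 _) (zpow_mem h1 _)

/-- the Frobenius criterion -/
theorem oddClosed_of_cen
    (hc : ∀ r n : ℕ, r.Prime → r ≠ 2 → r ∣ Nat.card H → ∀ g : H, g ^ r ^ n = 1 → ∀ R : Subgroup H, IsPGroup 2 R →
      g ∈ normalizer (R : Set H) → g ∈ centralizer (R : Set H)) : OddClosed H := by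
  have : Fact (Nat.Prime 2) := ⟨Nat.prime_two⟩
  obtain ⟨P⟩ : Nonempty (Sylow 2 H) := inferInstance
  obtain ⟨N, hN, hc⟩ := (Cfsg.Agent.S0071.result P).mpr fun _ hQ g hg hco =>
    centralizes_odd hc (P.2.to_le hQ) _ g rfl hg hco
  have hNo : Odd (Nat.card N) := by
    rw [← Nat.not_even_iff_odd, even_iff_two_dvd]
    intro hd
    have h2 : (P : Subgroup H).index = Nat.card N := hc.index_eq_card
    rw [← h2] at hd
    exact P.not_dvd_index hd
  have hmem : ∀ x : H, Odd (orderOf x) → x ∈ N := by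
    intro x hx
    have h1 : N.index = Nat.card P := hc.symm.index_eq_card
    obtain ⟨a, ha⟩ := IsPGroup.iff_card.mp P.2
    rw [← QuotientGroup.eq_one_iff, ← orderOf_eq_one_iff]
    have h2 : orderOf (x : H ⧸ N) ∣ orderOf x := orderOf_map_dvd (QuotientGroup.mk' N) x
    have h3 : orderOf (x : H ⧸ N) ∣ 2 ^ a := by
      rw [← ha, ← h1]
      exact orderOf_dvd_natCard _
    have h4 : Nat.Coprime (orderOf x) (2 ^ a) := (Nat.coprime_two_right.mpr hx).pow_right a
    exact Nat.eq_one_of_dvd_coprimes h4 h2 h3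
  intro x y hx hy
  have h1 : x * y ∈ N := mul_mem (hmem x hx) (hmem y hy)
  have h2 : orderOf (x * y) ∣ Nat.card N := by
    have := orderOf_dvd_natCard (⟨x * y, h1⟩ : N)
    rwa [Subgroup.orderOf_mk] at this
  exact hNo.of_dvd_nat h2

end Cfsg.Agent.H556.OmClosed
end

-- part: H556/OmClaim
section
prune_inst 0x401402004054002000000050000001c42ba000000000b000008c0080404808c4000000e6080800000100880040030000010440010004000000400000001000481800042009248a000240019000000000000000000000000000000000000000000200000000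
set_option linter.all false
open scoped Cfsg.Agent.FastGrp

-- part: H556/SzDih
section
/-!
# Involutions of the Suzuki groups and elements of the torus (helper556)

`exists_pair` : every involution `t` of `L = Sz(q)` has a conjugate `t'` such that `t t'` has prime order `r ≥ 7` and
normalises but does not centralise some 2-subgroup.
-/

set_option autoImplicit false

namespace Cfsg.Agent.H556.SzDih

open Cfsg.Agent.ThreePrime.SzRel Cfsg.Agent.H167.OP

/-- a prime divisor of `2^(2m+1) - 1` -/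
theorem exists_prime {m : ℕ} (hm : 1 ≤ m) : ∃ r : ℕ, r.Prime ∧ 7 ≤ r ∧ r ∣ 2 ^ (2 * m + 1) - 1 := by
  have h8 : 8 ≤ 2 ^ (2 * m + 1) := by
    calc 8 = 2 ^ 3 := by norm_num
      _ ≤ 2 ^ (2 * m + 1) := Nat.pow_le_pow_right (by norm_num) (by omega)
  have h1 : 2 ^ (2 * m + 1) - 1 ≠ 1 := by omega
  obtain ⟨r, hr, hd⟩ := Nat.exists_prime_and_dvd h1
  refine ⟨r, hr, ?_, hd⟩
  have h4 : ∀ m : ℕ, 4 ^ m % 3 = 1 ∧ (4 ^ m % 5 = 1 ∨ 4 ^ m % 5 = 4) := by
    intro m
    induction m with
    | zero => decide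
    | succ m ih =>
      rw [pow_succ]
      (clear * - ih; solve | lia | omega)
  have h5 : 2 ^ (2 * m + 1) = 2 * 4 ^ m := by
    rw [pow_succ, pow_mul]
    norm_num
    ring
  have h6 := h4 m
  by_contra hcon
  push Not at hcon
  have := hr.two_le
  rw [h5] at hd h8
  interval_cases r
  · omega
  · omega
  · exact absurd hr (by norm_num)
  · (clear * - h6 hd; omega)
  · exact absurd hr (by norm_num)

variable {L : Type*} [Group L] [Finite L]

theorem exists_pair (hL : Cfsg.Lie.IsoSuzuki L) {t : L} (ht : t * t = 1) (ht1 : t ≠ 1) :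
    ∃ (r : ℕ) (h : L) (T : Subgroup L), r.Prime ∧ 7 ≤ r ∧ (t * (h * t * h⁻¹)) ^ r = 1 ∧ IsPGroup 2 T ∧
      Nrm (t * (h * t * h⁻¹)) T ∧ ¬ Cen (t * (h * t * h⁻¹)) T := by
  have : Fact (Nat.Prime 2) := ⟨Nat.prime_two⟩
  obtain ⟨F, iF, iF', m, hm, hF, ⟨R⟩⟩ := exists_rel hL
  have h8 : 8 ≤ Nat.card F := by
    rw [Nat.card_eq_fintype_card, hF]
    exact Rel.eight_le hm
  obtain ⟨P, hP⟩ := R.exists_sylow_eq hm hF
  obtain ⟨r, hr, hr7, hrd⟩ := exists_prime hm
  have hrf : Fact r.Prime := ⟨hr⟩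
  -- a unit of order `r`
  obtain ⟨k, hk⟩ := exists_prime_orderOf_dvd_card' (G := Fˣ) r (by
    rw [Nat.card_units, Nat.card_eq_fintype_card, hF]
    exact hrd)
  have hkr : k ^ r = 1 := by rw [← hk, pow_orderOf_eq_one]
  have hk1 : k ≠ 1 := by
    rintro rfl
    rw [orderOf_one] at hk
    omega
  -- involutions are conjugate into `T`
  have hinv : ∀ s : L, s * s = 1 → ∃ g : L, g * s * g⁻¹ ∈ R.T := by
    intro s hs
    have h1 : IsPGroup 2 (Subgroup.zpowers s) := by
      rintro ⟨x, j, rfl⟩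
      refine ⟨1, Subtype.ext ?_⟩
      show (s ^ j) ^ 2 ^ 1 = 1
      rw [pow_one, pow_two, ← zpow_add, ← two_mul, zpow_mul]
      have : s ^ (2 : ℤ) = 1 := by rw [zpow_two, hs]
      rw [this, one_zpow]
    obtain ⟨P', hP'⟩ := h1.exists_le_sylow
    obtain ⟨g, hg⟩ := MulAction.exists_smul_eq L P' P
    refine ⟨g, ?_⟩
    have h3 : g * s * g⁻¹ ∈ g • P' :=
      Subgroup.smul_mem_pointwise_smul s (MulAut.conj g) (P' : Subgroup L) (hP' (Subgroup.mem_zpowers s))
    rw [hg] at h3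
    rw [← hP]
    exact h3
  have hw1 : R.w ≠ 1 := by
    intro h
    have := R.w_ne 0 0 1
    rw [R.u_zero, R.d_one, mul_one] at this
    exact this h
  -- `t` is conjugate to `w`
  obtain ⟨g1, hg1⟩ := hinv t ht
  obtain ⟨g2, hg2⟩ := hinv R.w R.w_mul_w
  have sqc : ∀ g s : L, s * s = 1 → g * s * g⁻¹ * (g * s * g⁻¹) = 1 := by
    intro g s hs
    have : g * s * g⁻¹ * (g * s * g⁻¹) = g * (s * s) * g⁻¹ := by group
    rw [this, hs, mul_one, mul_inv_cancel]
  have nec : ∀ g s : L, s ≠ 1 → g * s * g⁻¹ ≠ 1 := by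
    intro g s hs h
    apply hs
    have : s = g⁻¹ * (g * s * g⁻¹) * g := by group
    rw [this, h, mul_one, inv_mul_cancel]
  obtain ⟨d, -, hd⟩ := R.trans _ hg2 _ hg1 (nec _ _ hw1) (nec _ _ ht1) (sqc _ _ R.w_mul_w) (sqc _ _ ht)
  obtain ⟨g, hg⟩ : ∃ g : L, t = g * R.w * g⁻¹ := by
    refine ⟨g1⁻¹ * d * g2, ?_⟩
    have : g1⁻¹ * d * g2 * R.w * (g1⁻¹ * d * g2)⁻¹ = g1⁻¹ * (d * (g2 * R.w * g2⁻¹) * d⁻¹) * g1 := by group
    rw [this, hd]
    group
  -- the element of the torus
  have hodd : Odd r := hr.odd_of_ne_two (by omega)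
  obtain ⟨j, hj⟩ := hodd
  set m0 : Fˣ := k ^ (j + 1) with hm0
  have hm0k : m0 * m0 = k := by
    rw [hm0, ← pow_add]
    have : j + 1 + (j + 1) = r + 1 := by omega
    rw [this, pow_succ, hkr, one_mul]
  have hwd : R.w * ((R.d m0)⁻¹ * R.w * R.d m0) = R.d k := by
    rw [R.d_inv, ← mul_assoc, ← mul_assoc, R.w_mul_d, inv_inv, mul_assoc (R.d m0), R.w_mul_w, mul_one, R.d_mul, hm0k]
  have hy : t * (g * (R.d m0)⁻¹ * g⁻¹ * t * (g * (R.d m0)⁻¹ * g⁻¹)⁻¹) = g * R.d k * g⁻¹ := by
    rw [hg, ← hwd]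
    group
  have hdr : (R.d k) ^ r = 1 := by
    have : ∀ n : ℕ, (R.d k) ^ n = R.d (k ^ n) := by
      intro n
      induction n with
      | zero => rw [pow_zero, pow_zero, R.d_one]
      | succ n ih => rw [pow_succ, pow_succ, ih, R.d_mul]
    rw [this, hkr, R.d_one]
  refine ⟨r, g * (R.d m0)⁻¹ * g⁻¹, R.T.map (MulAut.conj g).toMonoidHom, hr, hr7, ?_, R.isPGroup.map _, ?_, ?_⟩
  · rw [hy, conj_pow, hdr, mul_one, mul_inv_cancel]
  · rw [hy]
    rintro _ ⟨x, hx, rfl⟩
    have h1 : R.d k * x * (R.d k)⁻¹ ∈ R.T :=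
      (Subgroup.mem_normalizer_iff.mp (R.D_le (R.d_mem k)) x).mp hx
    refine ⟨_, h1, ?_⟩
    show g * (R.d k * x * (R.d k)⁻¹) * g⁻¹ = g * R.d k * g⁻¹ * (g * x * g⁻¹) * (g * R.d k * g⁻¹)⁻¹
    group
  · rw [hy]
    intro hc
    have h1 := hc (g * R.u 0 1 * g⁻¹) ⟨R.u 0 1, R.u_mem 0 1, rfl⟩
    have h2 : R.d k * R.u 0 1 * (R.d k)⁻¹ = R.u 0 1 := by
      have h3 : R.d k * R.u 0 1 * (R.d k)⁻¹ =
          g⁻¹ * (g * R.d k * g⁻¹ * (g * R.u 0 1 * g⁻¹)) * g * (R.d k)⁻¹ := by group
      rw [h3, h1]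
      group
    rcases R.fpf h2 with h3 | h3
    · exact hk1 h3
    · exact one_ne_zero h3.2

/-- an element of order `r ≥ 7` normalising but not centralising a 2-subgroup -/
theorem exists_single (hL : Cfsg.Lie.IsoSuzuki L) :
    ∃ (r : ℕ) (y : L) (T : Subgroup L), r.Prime ∧ 7 ≤ r ∧ y ^ r = 1 ∧ IsPGroup 2 T ∧ Nrm y T ∧ ¬ Cen y T := by
  obtain ⟨F, iF, iF', m, hm, hF, ⟨R⟩⟩ := exists_rel hL
  have hw1 : R.w ≠ 1 := by
    intro h
    have := R.w_ne 0 0 1
    rw [R.u_zero, R.d_one, mul_one] at this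
    exact this h
  obtain ⟨r, h, T, h1, h2, h3, h4, h5, h6⟩ := exists_pair hL R.w_mul_w hw1
  exact ⟨r, _, T, h1, h2, h3, h4, h5, h6⟩

end Cfsg.Agent.H556.SzDih
end

-- part: H556/SzPair
section
/-!
# Products of two conjugate involutions in groups of order prime to 3 (helper556)

`exists_pair_of` : `Q` a nontrivial finite group of order prime to 3 without nontrivial abelian normal subgroups,
generated by a set `X` of elements of order at most two. Then some `x ∈ X` has a conjugate `x'` such that `x x'` has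
prime order `r ≥ 7` and normalises but does not centralise some 2-subgroup of `Q`.
-/

set_option autoImplicit false

namespace Cfsg.Agent.H556.SzPair

open Subgroup Cfsg Cfsg.Agent.SignalizersComponents Cfsg.Agent.H167.OP Cfsg.Agent.H556.SzDih
open scoped commutatorElement

universe u

variable {Q : Type u} [Group Q] [Finite Q]

theorem solvable_eq_bot (hab : ∀ M : Subgroup Q, M.Normal → (∀ a ∈ M, ∀ b ∈ M, a * b = b * a) → M = ⊥)
    {N : Subgroup Q} (hN : N.Normal) (hs : Group.IsSolvable N) : N = ⊥ := by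
  by_contra hne
  obtain ⟨M, hM⟩ := Set.Finite.exists_minimal
    (s := {M : Subgroup Q | M.Normal ∧ Group.IsSolvable M ∧ M ≠ ⊥}) (Set.toFinite _) ⟨N, hN, hs, hne⟩
  obtain ⟨hM1, hMs, hM3⟩ := hM.prop
  have hlt : ⁅M, M⁆ < M := by
    have : Nontrivial M := (Subgroup.nontrivial_iff_ne_bot M).2 hM3
    have h1 := Group.IsSolvable.commutator_lt_top_of_nontrivial M
    have h2 := (Subgroup.map_subtype_lt_map_subtype (G' := M)).2 h1
    rwa [Subgroup.map_subtype_commutator, ← MonoidHom.range_eq_map, Subgroup.range_subtype] at h2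
  have hbot : ⁅M, M⁆ = ⊥ := by
    by_contra h
    have h1 : ⁅M, M⁆ ∈ {M : Subgroup Q | M.Normal ∧ Group.IsSolvable M ∧ M ≠ ⊥} :=
      ⟨inferInstance, ComponentExists.isSolvable_of_le hlt.le hMs, h⟩
    exact hlt.not_ge (hM.le_of_le h1 hlt.le)
  apply hM3
  refine hab M hM1 fun a ha b hb => ?_
  have h1 : ⁅a, b⁆ ∈ ⁅M, M⁆ := Subgroup.commutator_mem_commutator ha hb
  rw [hbot, Subgroup.mem_bot, commutatorElement_def, mul_assoc, mul_eq_one_iff_eq_inv] at h1
  rw [h1]
  group

/-- a simple component of Suzuki type -/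
theorem exists_comp (h3 : ¬ 3 ∣ Nat.card Q)
    (hab : ∀ M : Subgroup Q, M.Normal → (∀ a ∈ M, ∀ b ∈ M, a * b = b * a) → M = ⊥) (hne : (⊤ : Subgroup Q) ≠ ⊥) :
    ∃ K : Subgroup Q, IsComponent K ∧ center K = ⊥ ∧ Cfsg.Lie.IsoSuzuki K := by
  have hF : fittingSubgroup Q = ⊥ := by
    rw [fittingSubgroup, sSup_eq_bot]
    rintro N ⟨hN, hnil⟩
    have : Group.IsNilpotent N := hnil
    exact solvable_eq_bot hab hN inferInstance
  have hns : ¬ Group.IsSolvable (⊤ : Subgroup Q) := fun hs => hne (solvable_eq_bot hab inferInstance hs)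
  obtain ⟨K, hK, -⟩ := ComponentExists.exists_isComponent_le (C := (⊤ : Subgroup Q)) Subgroup.IsSubnormal.top hns (by
    rw [hF]
    intro x _
    rw [mem_centralizer_iff]
    intro y hy
    have : y = 1 := hy
    rw [this, one_mul, mul_one])
  have hcK : center K = ⊥ := by
    have hsub : ((center K).map K.subtype).IsSubnormal :=
      (inferInstance : (center K).Normal).isSubnormal.trans' hK.1
    obtain ⟨N, hN1, hN2, hN3⟩ := ComponentExists.exists_normal_isSolvable_of_isSubnormal hsub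
      (ComponentExists.isSolvable_map (Group.isSolvable_of_comm fun a b =>
        Subtype.ext (mem_center_iff.mp b.2 a)) _)
    rw [solvable_eq_bot hab hN1 hN2, le_bot_iff, Subgroup.map_eq_bot_iff_of_injective _ K.subtype_injective] at hN3
    exact hN3
  have hsim : IsSimpleGroup (K ⧸ center K) := hK.2.2
  have hnt : Nontrivial K := by
    have h1 : Nontrivial (K ⧸ center K) := hsim.toNontrivial
    exact (QuotientGroup.mk'_surjective (center K)).nontrivial
  let e : K ⧸ center K ≃* K := (QuotientGroup.quotientMulEquivOfEq hcK).trans QuotientGroup.quotientBot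
  have hKs : IsSimpleGroup K := e.symm.isSimpleGroup
  have hna : ∃ a b : K, a * b ≠ b * a := by
    by_contra hcon
    push Not at hcon
    obtain ⟨a, ha⟩ := exists_ne (1 : K)
    have h1 : a ∈ center K := mem_center_iff.mpr fun g => hcon g a
    rw [hcK] at h1
    exact ha h1
  exact ⟨K, hK, hcK, Cfsg.Agent.ThreePrime.Main.isoSuzuki hna fun hd => h3 (hd.trans (card_subgroup_dvd_card K))⟩

/-- see the header -/
theorem exists_pair_of (h3 : ¬ 3 ∣ Nat.card Q)
    (hab : ∀ M : Subgroup Q, M.Normal → (∀ a ∈ M, ∀ b ∈ M, a * b = b * a) → M = ⊥) (hne : (⊤ : Subgroup Q) ≠ ⊥)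
    {X : Set Q} (hX : closure X = ⊤) (hX2 : ∀ x ∈ X, x * x = 1) :
    ∃ x ∈ X, ∃ (r : ℕ) (g : Q) (T : Subgroup Q), r.Prime ∧ 7 ≤ r ∧ (x * (g * x * g⁻¹)) ^ r = 1 ∧ IsPGroup 2 T ∧
      Nrm (x * (g * x * g⁻¹)) T ∧ ¬ Cen (x * (g * x * g⁻¹)) T := by
  classical
  obtain ⟨K, hK, hcK, hSz⟩ := exists_comp h3 hab hne
  have : Fact (Nat.Prime 2) := ⟨Nat.prime_two⟩
  have hnt : ∃ k ∈ K, ∃ k' ∈ K, k * k' ≠ k' * k := by
    by_contra hcon
    push Not at hcon
    have h1 : center K = ⊤ := by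
      rw [eq_top_iff]
      rintro ⟨a, ha⟩ -
      exact mem_center_iff.mpr fun g => Subtype.ext (hcon g g.2 a ha)
    have h2 : IsSimpleGroup (K ⧸ center K) := hK.2.2
    have h4 : Nontrivial (K ⧸ center K) := h2.toNontrivial
    rw [h1] at h4
    exact not_subsingleton _ (QuotientGroup.subsingleton_quotient_top (G := K))
  -- an element of `X` not centralising `K`
  obtain ⟨x, hx, hxK⟩ : ∃ x ∈ X, ∃ k ∈ K, x * k * x⁻¹ ≠ k := by
    by_contra hcon
    push Not at hcon
    have h1 : (⊤ : Subgroup Q) ≤ centralizer (K : Set Q) := by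
      rw [← hX, closure_le]
      intro x hx
      rw [SetLike.mem_coe, mem_centralizer_iff]
      intro k hk
      have h2 := hcon x hx k hk
      calc k * x = (x * k * x⁻¹) * x := by rw [h2]
        _ = x * k := by group
    obtain ⟨k, hk, k', hk', hne'⟩ := hnt
    exact hne' (mem_centralizer_iff.mp (h1 (mem_top k')) k hk)
  have hxx := hX2 x hx
  have hxi : x⁻¹ = x := inv_eq_of_mul_eq_one_left hxx
  refine ⟨x, hx, ?_⟩
  by_cases hnorm : ∀ k ∈ K, x * k * x⁻¹ ∈ K
  · -- `x` normalises `K`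
    let φ : MulAut K :=
      { toFun := fun k => ⟨x * k * x⁻¹, hnorm k k.2⟩
        invFun := fun k => ⟨x * k * x⁻¹, hnorm k k.2⟩
        left_inv := fun k => Subtype.ext (by
          show x * (x * k * x⁻¹) * x⁻¹ = k
          calc x * (x * k * x⁻¹) * x⁻¹ = (x * x) * k * (x * x)⁻¹ := by group
            _ = k := by rw [hxx]; simp)
        right_inv := fun k => Subtype.ext (by
          show x * (x * k * x⁻¹) * x⁻¹ = k
          calc x * (x * k * x⁻¹) * x⁻¹ = (x * x) * k * (x * x)⁻¹ := by group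
            _ = k := by rw [hxx]; simp)
        map_mul' := fun a b => Subtype.ext (by
          show x * (a * b) * x⁻¹ = x * a * x⁻¹ * (x * b * x⁻¹)
          group) }
    have hφ : ∀ k : K, ((φ k : K) : Q) = x * k * x⁻¹ := fun _ => rfl
    have hφ2 : φ ^ 2 ^ 1 = 1 := by
      rw [pow_one, pow_two]
      ext k
      show x * (x * k * x⁻¹) * x⁻¹ = k
      calc x * (x * k * x⁻¹) * x⁻¹ = (x * x) * k * (x * x)⁻¹ := by group
        _ = k := by rw [hxx]; simp
    obtain ⟨P⟩ : Nonempty (Sylow 2 K) := inferInstance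
    obtain ⟨D, hD⟩ := Cfsg.Agent.ThreePrime.SzRel.exists_szData hSz P
    obtain ⟨j, hj⟩ := hD.inner φ ⟨1, hφ2⟩
    have hjk : ∀ k : K, x * k * x⁻¹ = ((j * k * j⁻¹ : K) : Q) := by
      intro k
      rw [← hφ, hj]
      rfl
    have hj1 : j ≠ 1 := by
      rintro rfl
      obtain ⟨k, hk, hkne⟩ := hxK
      apply hkne
      rw [hjk ⟨k, hk⟩]
      simp
    have hjj : j * j = 1 := by
      have h1 : j * j ∈ center K := by
        rw [mem_center_iff]
        intro g
        have h2 : φ (φ g) = g := by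
          have := DFunLike.congr_fun hφ2 g
          rw [pow_one, pow_two] at this
          exact this
        rw [hj] at h2
        have h4 : j * (j * g * j⁻¹) * j⁻¹ = g := h2
        calc g * (j * j) = (j * (j * g * j⁻¹) * j⁻¹) * (j * j) := by rw [h4]
          _ = j * j * g := by group
      rw [hcK, mem_bot] at h1
      exact h1
    obtain ⟨r, h, T, hr, hr7, hyr, hT, hn, hc⟩ := exists_pair hSz hjj hj1
    have hji : j⁻¹ = j := inv_eq_of_mul_eq_one_left hjj
    have hy : x * ((h : Q) * x * (h : Q)⁻¹) = ((j * (h * j * h⁻¹) : K) : Q) := by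
      have h1 : x * ((h : Q) * x * (h : Q)⁻¹) = (x * h * x⁻¹) * (h : Q)⁻¹ := by
        rw [hxi]; group
      rw [h1, hjk]
      push_cast
      have h2 : ((j⁻¹ : K) : Q) = (j : Q) := by rw [hji]
      rw [← Subgroup.coe_inv, h2]
      group
    refine ⟨r, h, T.map K.subtype, hr, hr7, ?_, hT.map _, ?_, ?_⟩
    · rw [hy, ← Subgroup.coe_pow, hyr, Subgroup.coe_one]
    · rw [hy]
      rintro _ ⟨t, ht, rfl⟩
      exact ⟨_, hn t ht, rfl⟩
    · rw [hy]
      intro hcen
      apply hc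
      intro t ht
      exact Subtype.ext (hcen t ⟨t, ht, rfl⟩)
  · -- `x` moves `K`
    push Not at hnorm
    obtain ⟨k₀, hk₀, hk₀n⟩ := hnorm
    have hK' : IsComponent (K.map (MulAut.conj x).toMonoidHom) := Components.isComponent_conj x hK
    have hneK : K.map (MulAut.conj x).toMonoidHom ≠ K := by
      intro h
      apply hk₀n
      rw [← h]
      exact ⟨k₀, hk₀, rfl⟩
    have hcomm : ∀ a ∈ K, ∀ b ∈ K, (x * a * x⁻¹) * b = b * (x * a * x⁻¹) := by
      intro a ha b hb
      exact (OddFixed.commute_of_ne hK' hK hneK ⟨a, ha, rfl⟩ hb : Commute _ _)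
    obtain ⟨r, k, T, hr, hr7, hyr, hT, hn, hc⟩ := exists_single hSz
    have hy : x * ((k⁻¹ : Q) * x * (k⁻¹ : Q)⁻¹) = (x * (k : Q)⁻¹ * x⁻¹) * k := by
      rw [hxi]; group
    have hki : (k : Q)⁻¹ ∈ K := K.inv_mem k.2
    have hact : ∀ t ∈ K, ((x * (k : Q)⁻¹ * x⁻¹) * k) * t * ((x * (k : Q)⁻¹ * x⁻¹) * k)⁻¹ = k * t * (k : Q)⁻¹ := by
      intro t ht
      have h1 := hcomm _ hki _ (K.mul_mem (K.mul_mem k.2 ht) hki)
      calc ((x * (k : Q)⁻¹ * x⁻¹) * k) * t * ((x * (k : Q)⁻¹ * x⁻¹) * k)⁻¹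
          = (x * (k : Q)⁻¹ * x⁻¹) * (k * t * (k : Q)⁻¹) * (x * (k : Q)⁻¹ * x⁻¹)⁻¹ := by group
        _ = _ := by rw [h1, mul_inv_cancel_right]
    refine ⟨r, (k⁻¹ : Q), T.map K.subtype, hr, hr7, ?_, hT.map _, ?_, ?_⟩
    · rw [hy]
      have h1 : Commute (x * (k : Q)⁻¹ * x⁻¹) (k : Q) := hcomm _ hki _ k.2
      have h2 : (k : Q) ^ r = 1 := by rw [← Subgroup.coe_pow, hyr, Subgroup.coe_one]
      rw [h1.mul_pow, conj_pow, inv_pow, h2, inv_one, mul_one, mul_one, mul_inv_cancel]
    · rw [hy]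
      rintro _ ⟨t, ht, rfl⟩
      show ((x * (k : Q)⁻¹ * x⁻¹) * k) * (t : Q) * ((x * (k : Q)⁻¹ * x⁻¹) * k)⁻¹ ∈ _
      rw [hact t t.2]
      exact ⟨_, hn t ht, rfl⟩
    · rw [hy]
      intro hcen
      apply hc
      intro t ht
      have h1 := hcen t ⟨t, ht, rfl⟩
      have h2 := hact t t.2
      have h4 : ((x * (k : Q)⁻¹ * x⁻¹) * k) * (t : Q) * ((x * (k : Q)⁻¹ * x⁻¹) * k)⁻¹ = t := by
        rw [h1, mul_inv_cancel_right]
      rw [h4] at h2
      apply Subtype.ext
      show (k : Q) * t = t * k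
      calc (k : Q) * t = (k * t * (k : Q)⁻¹) * k := by group
        _ = t * k := by rw [← h2]

end Cfsg.Agent.H556.SzPair
end

-- part: H556/SzEnd
section
/-!
# The nonsolvable case of claim (B) (helper556)

`no_hyp` : the hypotheses `Hyp` of helper170 are contradictory, without assuming solvability.
-/

set_option autoImplicit false

namespace Cfsg.Agent.H556.SzEnd

open Module Cfsg.Agent.H167.OP Cfsg.Agent.H170.HL Cfsg.Agent.H170.Fl

universe u

variable {F : Type*} [Field F] {V : Type*} [AddCommGroup V] [Module F V] {G : Type u} [Group G]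
  {ρ : Representation F G V} {R R' : Subgroup G}

theorem exists_y [Finite G] (h : Hyp ρ R R') :
    ∃ (y : G) (r : ℕ) (D : Subgroup G), r.Prime ∧ 7 ≤ r ∧ y ^ r = 1 ∧ rk ρ y ≤ 4 ∧ IsPGroup 2 D ∧ Nrm y D ∧
      ¬ Cen y D := by
  classical
  have hfd := h.finDim
  let S := Sc ρ
  let π : G →* G ⧸ S := QuotientGroup.mk' S
  have hπ : Function.Surjective π := QuotientGroup.mk'_surjective S
  have hker : ∀ g, π g = 1 ↔ g ∈ S := fun g => QuotientGroup.eq_one_iff g
  have h3Q : ¬ 3 ∣ Nat.card (G ⧸ S) := fun hd => h.three (hd.trans (Subgroup.card_quotient_dvd_card S))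
  have hab : ∀ M : Subgroup (G ⧸ S), M.Normal → (∀ a ∈ M, ∀ b ∈ M, a * b = b * a) → M = ⊥ := by
    intro M hM hc
    have h1 : M.comap π ≤ S := by
      refine h.le_Sc (hM.comap π) fun a ha b hb => ?_
      rw [← hker, map_mul, map_mul, map_mul, map_inv, map_inv, hc _ ha _ hb, mul_inv_cancel_right, mul_inv_cancel]
    rw [eq_bot_iff]
    intro m hm
    obtain ⟨g, rfl⟩ := hπ m
    rw [Subgroup.mem_bot, hker]
    exact h1 hm
  have hne : (⊤ : Subgroup (G ⧸ S)) ≠ ⊥ := by
    intro htb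
    have hS : ∀ g : G, g ∈ S := by
      intro g
      rw [← hker, ← Subgroup.mem_bot, ← htb]
      trivial
    exact h.not_solvable (Group.isSolvable_of_comm fun a b => (Sc_comm h.inj (hS b) a))
  have hX : Subgroup.closure (π '' SI ρ) = ⊤ := by
    rw [← MonoidHom.map_closure, h.closure_SI, ← MonoidHom.range_eq_map, MonoidHom.range_eq_top.mpr hπ]
  obtain ⟨_, ⟨x, hx, rfl⟩, r, g, T, hr, hr7, hyr, hT, hn, hc⟩ :=
    Cfsg.Agent.H556.SzPair.exists_pair_of h3Q hab hne hX (by
      rintro _ ⟨x, hx, rfl⟩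
      rw [← map_mul, hx.1, map_one])
  obtain ⟨g, rfl⟩ := hπ g
  rw [← map_inv, ← map_mul, ← map_mul, ← map_mul] at hyr hn hc
  set w := x * (g * x * g⁻¹) with hw
  have hodd : Odd r := hr.odd_of_ne_two (by omega)
  have hwS : w ^ r ∈ S := by rw [← hker, map_pow, hyr]
  have hπy : π (w ^ (r + 1)) = π w := by rw [map_pow, pow_succ, hyr, one_mul]
  refine ⟨w ^ (r + 1), r, T.comap π, hr, hr7, ?_, ?_, ?_, ?_, ?_⟩
  · obtain ⟨j, hj⟩ := hodd
    have h1 : (w ^ (r + 1)) ^ r = (w ^ r * w ^ r) ^ (j + 1) := by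
      rw [← pow_add, ← pow_mul, ← pow_mul]
      congr 1
      rw [hj]
      ring
    rw [h1, Sc_sq h.inj hwS, one_pow]
  · refine (rk_pow_le ρ w (r + 1)).trans ?_
    have h1 := rk_mul_le ρ x (g * x * g⁻¹)
    have h2 := rk_conj_le ρ g x
    have h4 := hx.2
    rw [← hw] at h1
    omega
  · refine hT.comap_of_ker_isPGroup π ?_
    rintro ⟨s, hs⟩
    refine ⟨1, Subtype.ext ?_⟩
    show s ^ 2 ^ 1 = 1
    rw [pow_one, pow_two]
    exact Sc_sq h.inj ((hker s).mp hs)
  · intro d hd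
    show π (w ^ (r + 1) * d * (w ^ (r + 1))⁻¹) ∈ T
    rw [map_mul, map_mul, map_inv, hπy]
    exact hn _ hd
  · intro hcen
    apply hc
    intro t ht
    obtain ⟨t, rfl⟩ := hπ t
    have h1 := congrArg π (hcen t ht)
    rw [map_mul, map_mul, hπy] at h1
    exact h1

/-- noncommuting elements anticommute -/
theorem neg_of [Finite G] [FiniteDimensional F V] {r : ℕ} {y : G} {D : Subgroup G} (hρ : Function.Injective ρ)
    (h2 : (2 : F) ≠ 0) (hdim : finrank F V ≤ 8) (h7 : 7 ≤ r) (h : MinD 2 r y D) {a b : G} (ha : a ∈ D) (hb : b ∈ D)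
    (hab : a * b ≠ b * a) : finrank F V = 8 ∧ ρ (a * b * a⁻¹ * b⁻¹) = -1 := by
  have h1 : ρ (a * b * a⁻¹ * b⁻¹) ≠ 1 := by
    intro h0
    apply hab
    have h3 : a * b * a⁻¹ * b⁻¹ = 1 := hρ (by rw [h0, map_one])
    calc a * b = (a * b * a⁻¹ * b⁻¹) * (b * a) := by group
      _ = b * a := by rw [h3, one_mul]
  obtain ⟨δ, h3, h4, ⟨k, hk⟩, h6⟩ := beta_gen ρ h (by exact_mod_cast h2) ha hb h1
  have h7' : finrank F (LinearMap.range (ρ (a * b * a⁻¹ * b⁻¹) - 1)) ≤ finrank F V := Submodule.finrank_le _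
  have h8 : δ ≤ 8 := by omega
  have hd : r ∣ δ ^ 2 - 1 := (Nat.modEq_iff_dvd' (Nat.one_le_pow _ _ (by omega))).mp h6.symm
  have hpow : ∀ n : ℕ, n = 2 ^ k → n = 1 ∨ n = 2 ∨ n = 4 ∨ n = 8 ∨ n = 16 ∨ n = 32 ∨ ∃ m, n = 64 * m := by
    intro n hn
    rcases k with _ | _ | _ | _ | _ | _ | k
    · simp at hn; omega
    · simp at hn; omega
    · simp at hn; omega
    · simp at hn; omega
    · simp at hn; omega
    · simp at hn; omega
    · right; right; right; right; right; right
      exact ⟨2 ^ k, by rw [hn, show k + 1 + 1 + 1 + 1 + 1 + 1 = k + 6 by ring, pow_add]; norm_num; ring⟩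
  have hδ : δ = 8 := by
    have h10 := hpow _ hk
    interval_cases δ
    · exfalso
      have := Nat.le_of_dvd (by norm_num) hd
      omega
    · exfalso; norm_num at h10; omega
    · exfalso
      have h11 : r ∣ 5 * 3 := by simpa using hd
      rcases (Nat.Prime.dvd_mul h.ht).mp h11 with h12 | h12
      · have := Nat.le_of_dvd (by norm_num) h12
        omega
      · have := Nat.le_of_dvd (by norm_num) h12
        omega
    · exfalso; norm_num at h10; omega
    · exfalso; norm_num at h10; omega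
    · exfalso; norm_num at h10; omega
    · rfl
  subst hδ
  have h9 : finrank F V = 8 := by omega
  have h10 : LinearMap.range (ρ (a * b * a⁻¹ * b⁻¹) - 1) = ⊤ := by
    apply Submodule.eq_top_of_finrank_eq
    omega
  refine ⟨h9, ?_⟩
  apply LinearMap.ext
  intro v
  have hv : v ∈ LinearMap.range (ρ (a * b * a⁻¹ * b⁻¹) - 1) := by rw [h10]; trivial
  obtain ⟨w, rfl⟩ := hv
  show ρ (a * b * a⁻¹ * b⁻¹) (ρ (a * b * a⁻¹ * b⁻¹) w - w) = -(ρ (a * b * a⁻¹ * b⁻¹) w - w)
  rw [map_sub, ← mul_ap, Cfsg.Agent.H556.OmSmall.comm_sq h ha hb hab, one_ap]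
  abel

/-- **the contradiction** -/
theorem no_hyp [Finite G] (h : Hyp ρ R R') : False := by
  classical
  have hfd := h.finDim
  have hnt := h.nontriv
  have hf2 : Fact (Nat.Prime 2) := ⟨Nat.prime_two⟩
  obtain ⟨y, r, D₀, hr, hr7, hyr, hrk, hD₀, hn₀, hc₀⟩ := exists_y h
  obtain ⟨D, -, hmin⟩ := exists_minD (s := 2) (t := r) Nat.prime_two hr (by omega) (y := y) (B := D₀) (by
      intro d hd
      obtain ⟨k, hk⟩ := hD₀ ⟨d, hd⟩
      exact ⟨k, by simpa only [_root_.SubmonoidClass.mk_pow, _root_.OneMemClass.coe_one] using congrArg Subtype.val hk⟩) ⟨1, by rw [pow_one, hyr]⟩ hn₀ hc₀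
  have h2F : ((2 : ℕ) : F) ≠ 0 := by exact_mod_cast h.two
  by_cases hab : ∀ a ∈ D, ∀ b ∈ D, a * b = b * a
  · -- abelian
    obtain ⟨a, ha, hya⟩ := hmin.exists_ncomm
    have h1 : ρ a ≠ 1 := by
      intro h0
      have : a = 1 := h.inj (by rw [h0, map_one])
      rw [this, mul_one, one_mul] at hya
      exact hya rfl
    obtain ⟨E, -, -, hV, hle⟩ := Cfsg.Agent.H167.OP.alpha ρ hmin (by omega) h2F hab ⟨a, ha, h1⟩
    have h3 : 0 < finrank F (VE ρ E D) := by
      rw [Nat.pos_iff_ne_zero]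
      intro h0
      exact hV (Submodule.finrank_eq_zero.mp h0)
    have h4 : r - 1 ≤ (r - 1) * finrank F (VE ρ E D) := Nat.le_mul_of_pos_right _ h3
    omega
  -- nonabelian
  push Not at hab
  obtain ⟨a₀, ha₀, b₀, hb₀, hab₀⟩ := hab
  have hcomm : ∀ a ∈ D, ∀ b ∈ D, a * b * a⁻¹ * b⁻¹ ∈ Sc ρ := by
    intro a ha b hb
    by_cases hab : a * b = b * a
    · rw [hab, mul_inv_cancel_right, mul_inv_cancel]
      exact Subgroup.one_mem _
    · right
      intro v
      rw [(neg_of h.inj h.two h.eight hr7 hmin ha hb hab).2]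
      rfl
  have hd := (neg_of h.inj h.two h.eight hr7 hmin ha₀ hb₀ hab₀).1
  have hScn : Nrm y (D ⊓ Sc ρ) := fun d hd => ⟨hmin.nrm d hd.1, (inferInstance : (Sc ρ).Normal).conj_mem d hd.2 y⟩
  have hScc : ∀ a ∈ D, ∀ b ∈ D, a * b * a⁻¹ * b⁻¹ ∈ D ⊓ Sc ρ := fun a ha b hb =>
    ⟨D.mul_mem (D.mul_mem (D.mul_mem ha hb) (D.inv_mem ha)) (D.inv_mem hb), hcomm a ha b hb⟩
  have hcen : ∀ a ∈ D, (∀ b ∈ D, a * b = b * a) → a ∈ Sc ρ := by
    intro a ha hab
    have h1 := hmin.cen_center ⟨a₀, ha₀, b₀, hb₀, hab₀⟩ ha hab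
    have h3 : y * a * y⁻¹ * a⁻¹ ∈ D ⊓ Sc ρ := by
      rw [h1, mul_inv_cancel_right, mul_inv_cancel]
      exact Subgroup.one_mem _
    exact (hmin.mem_of_comm_mem hScn hScc ha h3).2
  have hgr : Gr ρ D := ⟨h.inj, h.two, h.card_ne D, hcomm, hcen⟩
  have : Fintype D := Fintype.ofFinite D
  have : Fintype (Gr.QQ ρ D) := Fintype.ofFinite _
  have hQ2 : IsPGroup 2 (Gr.QQ ρ D) := hmin.isPGroup.to_quotient _
  have hdim := hgr.finrank_end
  -- the automorphism
  have hyn : ∀ m, m ∈ D ↔ y * m * y⁻¹ ∈ D := by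
    intro m
    constructor
    · exact hmin.nrm m
    · intro hm
      have := nrm_inv hmin.nrm hm
      convert this using 1
      group
  let e : D ≃* D :=
    { toFun := fun d => ⟨y * d * y⁻¹, (hyn d).mp d.2⟩
      invFun := fun d => ⟨y⁻¹ * d * y, nrm_inv hmin.nrm d.2⟩
      left_inv := fun d => Subtype.ext (by
        show y⁻¹ * (y * d * y⁻¹) * y = d
        group)
      right_inv := fun d => Subtype.ext (by
        show y * (y⁻¹ * d * y) * y⁻¹ = d
        group)
      map_mul' := fun a b => Subtype.ext (by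
        show y * (a * b) * y⁻¹ = y * a * y⁻¹ * (y * b * y⁻¹)
        group) }
  let σ : MulAut (Gr.QQ ρ D) := QuotientGroup.congr _ _ e (by
    apply le_antisymm
    · rintro _ ⟨n, hn, rfl⟩
      rw [SetLike.mem_coe, Subgroup.mem_subgroupOf] at hn
      rw [Subgroup.mem_subgroupOf]
      exact (inferInstance : (Sc ρ).Normal).conj_mem _ hn y
    · intro n hn
      refine ⟨e.symm n, ?_, e.apply_symm_apply n⟩
      rw [Subgroup.mem_subgroupOf] at hn
      rw [SetLike.mem_coe, Subgroup.mem_subgroupOf]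
      have := (inferInstance : (Sc ρ).Normal).conj_mem _ hn y⁻¹
      rw [inv_inv] at this
      exact this)
  have hσ : ∀ d : D, σ (QuotientGroup.mk d) = QuotientGroup.mk (e d) := fun _ => rfl
  have hσk : ∀ (k : ℕ) (d : D), (σ ^ k) (QuotientGroup.mk d) =
      QuotientGroup.mk ⟨y ^ k * d * (y ^ k)⁻¹, (Gr.norm_pow hyn k d).mp d.2⟩ := by
    intro k
    induction k with
    | zero =>
      intro d
      rw [pow_zero, MulAut.one_apply]
      congr 1
      apply Subtype.ext
      simp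
    | succ k ih =>
      intro d
      rw [pow_succ', MulAut.mul_apply, ih, hσ]
      congr 1
      apply Subtype.ext
      show y * (y ^ k * d * (y ^ k)⁻¹) * y⁻¹ = y ^ (k + 1) * d * (y ^ (k + 1))⁻¹
      rw [pow_succ']
      group
  have hσr : σ ^ r ^ 1 = 1 := by
    apply MulEquiv.ext
    intro q
    obtain ⟨d, rfl⟩ := QuotientGroup.mk_surjective q
    rw [pow_one, hσk, MulAut.one_apply]
    congr 1
    apply Subtype.ext
    show y ^ r * (d : G) * (y ^ r)⁻¹ = d
    rw [hyr]
    simp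
  have hσ1 : σ ≠ 1 := by
    intro h1
    -- then `y` centralises `D`
    apply hmin.ncen
    intro d hd
    have h3 := DFunLike.congr_fun h1 (QuotientGroup.mk ⟨d, hd⟩ : Gr.QQ ρ D)
    rw [hσ, MulAut.one_apply, eq_comm, QuotientGroup.eq, Subgroup.mem_subgroupOf] at h3
    have h4 : d⁻¹ * (y * d * y⁻¹) ∈ Sc ρ := h3
    have h5 : y * d * y⁻¹ * d⁻¹ ∈ D ⊓ Sc ρ := by
      refine ⟨hmin.comm_mem hd, ?_⟩
      have h6 := (inferInstance : (Sc ρ).Normal).conj_mem _ h4 d
      have h8 : d * (d⁻¹ * (y * d * y⁻¹)) * d⁻¹ = y * d * y⁻¹ * d⁻¹ := by group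
      rwa [h8] at h6
    have h6 := hmin.mem_of_comm_mem hScn hScc hd h5
    exact Sc_comm h.inj h6.2 y
  obtain ⟨T, hT4, hT⟩ := exists_reps hQ2 hr (by omega) σ (a := 1) hσr hσ1
  have hle := hgr.finrank_Cy_le (y := y) hyn (Gr.rp ρ D '' T) (by
      rintro _ ⟨q, _, rfl⟩
      exact Gr.rp_mem q) ((Set.toFinite T).image _) (by
      intro n hn
      obtain ⟨t, ht, j, hj⟩ := hT (QuotientGroup.mk ⟨n, hn⟩)
      refine ⟨_, ⟨t, ht, rfl⟩, j, ?_⟩
      rw [← Gr.mk_rp t, hσk, QuotientGroup.eq, Subgroup.mem_subgroupOf] at hj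
      exact hj)
  have hTc : (Gr.rp ρ D '' T).ncard ≤ T.ncard := Set.ncard_image_le (Set.toFinite T)
  have hy1 : ρ y ≠ 1 := by
    intro h1
    apply hmin.ncen
    have : y = 1 := h.inj (by rw [h1, map_one])
    intro d _
    rw [this, mul_one, one_mul]
  have hge := le_finrank_Cy ρ (h.card_ne (Subgroup.zpowers y)) hy1
  rw [hd] at hge hdim
  have h16 : 4 * finrank F (Gr.Cy ρ y) ≤ 64 := by
    have h1 : 4 * finrank F (Gr.Cy ρ y) ≤ 4 * (T.ncard * finrank F (Cm ρ D)) :=
      Nat.mul_le_mul_left _ (hle.trans (Nat.mul_le_mul_right _ hTc))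
    have h3 : 4 * (T.ncard * finrank F (Cm ρ D)) = 4 * T.ncard * finrank F (Cm ρ D) := by ring
    rw [h3] at h1
    refine h1.trans ((Nat.mul_le_mul_right _ hT4).trans ?_)
    rw [Nat.card_eq_fintype_card, ← hdim]
  have h17 : 4 * 4 ≤ (8 - rk ρ y) * (8 - rk ρ y) := Nat.mul_le_mul (by omega) (by omega)
  omega

end Cfsg.Agent.H556.SzEnd
end

-- part: H556/OmGood
section
/-!
# The orthogonal rows of S4312 (helper556), modulo `ClaimB` (helper170)
-/

set_option autoImplicit false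

namespace Cfsg.Agent.H556.Om

open Module QuadraticMap Cfsg.Agent.H167.OP Cfsg.Agent.H170.HL Cfsg.Agent.H170.HL.OmRow Cfsg.Agent.H170.Fl
open Subgroup Cfsg Cfsg.Agent.H988.CPi Cfsg.Agent.H553.OddHall Cfsg.Agent.H553.ExtRed

/-- helper170's theorem for the orthogonal groups -/
def ClaimAll : Prop :=
  ∀ (F : Type) [Field F] [Finite F] (ι : Type) [Fintype ι] [DecidableEq ι] (Q : QuadraticForm F (ι → F)),
    (2 : F) ≠ 0 → GoodQ Q → ClaimB (rep (inc (⇑Q))) (polarBilin Q)

variable {π : Set ℕ}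

variable {S : Type*} [Group S] [Finite S] [IsSimpleGroup S]

end Cfsg.Agent.H556.Om
end

-- part: H556/OmClaim
section
/-!
# Claim (B) without solvability and the orthogonal rows of S4312 (helper556; the proof of `claimB'` is helper170's
`claimB` with `Hyp.not_solvable` replaced by `SzEnd.no_hyp`)
-/

set_option autoImplicit false
set_option linter.unusedVariables false

namespace Cfsg.Agent.H556.OmClaim

open Module Cfsg.Agent.H167.OP Cfsg.Agent.H170.HL Cfsg.Agent.H170.Fl

variable {F : Type*} [Field F] {V : Type*} [AddCommGroup V] [Module F V] {G : Type*} [Group G]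

/-- **Claim (B)** -/
theorem claimB' [Finite G] [FiniteDimensional F V] (ρ : Representation F G V)
    (hρ : Function.Injective ρ) (h2 : (2 : F) ≠ 0) (f : V →ₗ[F] V →ₗ[F] F)
    (hf : ∀ g u v, f (ρ g u) (ρ g v) = f u v) (hsym : ∀ u v, f u v = f v u)
    (hnd : ∀ x, (∀ y, f y x = 0) → x = 0) {R R' : Subgroup G} (hR : QR ρ R) (hR' : QR ρ R')
    (h3 : ¬ 3 ∣ Nat.card (R ⊔ R' : Subgroup G)) (hJ : (Nat.card (R ⊔ R' : Subgroup G) : F) ≠ 0) :
    CV ρ R = CV ρ R' ∨ ∀ u ∈ CV ρ R, ∀ u' ∈ CV ρ R', f u u' = 0 := by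
  by_contra hcon
  push Not at hcon
  obtain ⟨hne, horth⟩ := hcon
  have horth' : ¬ ∀ u ∈ CV ρ R, ∀ u' ∈ CV ρ R', f u u' = 0 := by
    push Not; exact horth
  set J := R ⊔ R' with hJdef
  have hRJ : R ≤ J := le_sup_left
  have hR'J : R' ≤ J := le_sup_right
  have hWs : CV ρ J = CV ρ R ⊔ CV ρ R' := CV_sup ρ R R'
  -- irreducibility
  have hirr : ∀ M : Submodule F V, M ≤ CV ρ J → (∀ g ∈ J, ∀ m ∈ M, ρ g m ∈ M) → M = ⊥ ∨ M = CV ρ J := by
    intro M hM hinv
    have h4 := hR.irr (M ⊓ CV ρ R) inf_le_right (fun r hr m hm =>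
      ⟨hinv r (hRJ hr) m hm.1, CV_inv ρ hr hm.2⟩)
    have h5 := hR'.irr (M ⊓ CV ρ R') inf_le_right (fun r hr m hm =>
      ⟨hinv r (hR'J hr) m hm.1, CV_inv ρ hr hm.2⟩)
    have htriv : ∀ {X : Subgroup G}, X ≤ J → M ⊓ CV ρ X = ⊥ → ∀ r ∈ X, ∀ m ∈ M, ρ r m = m := by
      intro X hX h0 r hr m hm
      have h6 : ρ r m - m ∈ M ⊓ CV ρ X :=
        ⟨Submodule.sub_mem _ (hinv r (hX hr) m hm) hm, sub_mem_CV ρ hr m⟩
      rw [h0, Submodule.mem_bot] at h6
      exact sub_eq_zero.mp h6
    rcases h4 with h4 | h4 <;> rcases h5 with h5 | h5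
    · -- trivial
      left
      rw [eq_bot_iff]
      intro m hm
      have h6 : ∀ g ∈ J, ρ g m = m := by
        intro g hg
        have h7 : J ≤ (MonoidHom.toHomUnits (ρ : G →* End F V)).ker.comap (MonoidHom.id G) ⊔ ⊤ := le_top.trans le_sup_right
        have h8 : g ∈ Subgroup.closure ((R : Set G) ∪ R') := by
          rw [Subgroup.closure_union, Subgroup.closure_eq, Subgroup.closure_eq]
          exact hg
        clear h7
        induction h8 using Subgroup.closure_induction with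
        | mem x hx =>
          rcases hx with hx | hx
          · exact htriv hRJ h4 x hx m hm
          · exact htriv hR'J h5 x hx m hm
        | one => exact one_ap ρ m
        | mul a b ha hb iha ihb =>
          have haJ : a ∈ J := by
            rw [hJdef, ← Subgroup.closure_eq R, ← Subgroup.closure_eq R', ← Subgroup.closure_union]
            exact ha
          have hbJ : b ∈ J := by
            rw [hJdef, ← Subgroup.closure_eq R, ← Subgroup.closure_eq R', ← Subgroup.closure_union]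
            exact hb
          rw [mul_ap, ihb hbJ, iha haJ]
        | inv a ha iha =>
          have haJ : a ∈ J := by
            rw [hJdef, ← Subgroup.closure_eq R, ← Subgroup.closure_eq R', ← Subgroup.closure_union]
            exact ha
          have := iha haJ
          conv_lhs => rw [← this, inv_ap]
      have h9 := avg_fixed ρ J hJ h6
      rw [avg_CV ρ J (hM hm)] at h9
      rw [← h9]
      exact Submodule.zero_mem _
    · -- `[V,R'] ≤ M`
      exfalso
      apply horth'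
      have h6 : CV ρ R' ≤ M := inf_eq_right.mp h5
      intro u hu u' hu'
      rw [hsym]
      exact orth_of_fix ρ f hf (U := M) (htriv hRJ h4) u' (h6 hu') u hu
    · exfalso
      apply horth'
      have h6 : CV ρ R ≤ M := inf_eq_right.mp h4
      intro u hu u' hu'
      exact orth_of_fix ρ f hf (U := M) (htriv hR'J h5) u (h6 hu) u' hu'
    · right
      apply le_antisymm hM
      rw [hWs]
      exact sup_le (inf_eq_right.mp h4) (inf_eq_right.mp h5)
  -- dimensions
  have hle : finrank F (CV ρ J) ≤ 8 := by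
    rw [hWs]
    have := Submodule.finrank_add_le_finrank_add_finrank (CV ρ R) (CV ρ R')
    rw [hR.dim, hR'.dim] at this
    exact this
  have hge : 5 ≤ finrank F (CV ρ J) := by
    by_contra hlt
    have h4 : finrank F (CV ρ J) ≤ 4 := by omega
    have h5 : CV ρ R = CV ρ J := Submodule.eq_of_le_of_finrank_le (CV_mono ρ hRJ) (by rw [hR.dim]; exact h4)
    have h6 : CV ρ R' = CV ρ J := Submodule.eq_of_le_of_finrank_le (CV_mono ρ hR'J) (by rw [hR'.dim]; exact h4)
    exact hne (h5.trans h6.symm)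
  have hypo : Hyp (rW ρ J) (R.subgroupOf J) (R'.subgroupOf J) := by
    refine ⟨rW_inj ρ J hρ hJ, h2, hJ, h3, ?_, hge, hle, ?_, qr_rW ρ J hJ hRJ hR, qr_rW ρ J hJ hR'J hR', ?_, ?_⟩
    · intro M hM
      rcases hirr (M.map (CV ρ J).subtype) (Submodule.map_subtype_le _ _) (by
        rintro g hg _ ⟨m, hm, rfl⟩
        exact ⟨_, hM ⟨g, hg⟩ m hm, rfl⟩) with h4 | h4
      · left
        rw [← Submodule.map_bot (CV ρ J).subtype] at h4
        exact Submodule.map_injective_of_injective (CV ρ J).subtype_injective h4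
      · right
        have h5 : M.map (CV ρ J).subtype = (⊤ : Submodule F (CV ρ J)).map (CV ρ J).subtype := by
          rw [h4, Submodule.map_subtype_top]
        exact Submodule.map_injective_of_injective (CV ρ J).subtype_injective h5
    · -- scalars
      rintro g ⟨c, hc⟩
      have hc' : ∀ w ∈ CV ρ J, ρ (g : G) w = c • w := fun w hw => congrArg Subtype.val (hc ⟨w, hw⟩)
      have hpair : ∃ w ∈ CV ρ J, ∃ w' ∈ CV ρ J, f w w' ≠ 0 := by
        by_contra hno
        push Not at hno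
        have h4 : CV ρ J = ⊥ := by
          rw [eq_bot_iff]
          intro w hw
          rw [Submodule.mem_bot]
          apply hnd
          intro v
          have h5 : v = avg ρ J v + (v - avg ρ J v) := by abel
          rw [h5, map_add, LinearMap.add_apply, avg_adj ρ f hf, avg_CV ρ J hw, map_zero, zero_add]
          exact hno _ (sub_avg_mem ρ J hJ v) w hw
        rw [h4, finrank_bot] at hge
        omega
      obtain ⟨w, hw, w', hw', hww⟩ := hpair
      have h4 := hf g w w'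
      rw [hc' w hw, hc' w' hw', map_smul, map_smul, LinearMap.smul_apply, smul_smul, smul_eq_mul] at h4
      have h5 : c * c = 1 := by
        have : (c * c - 1) * f w w' = 0 := by rw [sub_mul, h4, one_mul, sub_self]
        exact sub_eq_zero.mp ((mul_eq_zero.mp this).resolve_right hww)
      rcases mul_self_eq_one_iff.mp h5 with rfl | rfl
      · left
        intro v
        rw [hc, one_smul]
      · right
        intro v
        rw [hc, neg_smul, one_smul]
    · apply Subgroup.map_injective J.subtype_injective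
      rw [Subgroup.map_sup, Subgroup.map_subgroupOf_eq_of_le hRJ, Subgroup.map_subgroupOf_eq_of_le hR'J,
        ← MonoidHom.range_eq_map, Subgroup.range_subtype]
    · apply Submodule.map_injective_of_injective (CV ρ J).subtype_injective
      rw [Submodule.map_sup, map_CV_rW ρ J hJ hRJ, map_CV_rW ρ J hJ hR'J, Submodule.map_subtype_top, hWs]
  exact Cfsg.Agent.H556.SzEnd.no_hyp hypo

end Cfsg.Agent.H556.OmClaim

namespace Cfsg.Agent.H556.Om

open Module QuadraticMap Cfsg.Agent.H167.OP Cfsg.Agent.H170.HL Cfsg.Agent.H170.HL.OmRow Cfsg.Agent.H170.Fl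
open Subgroup Cfsg Cfsg.Agent.H988.CPi Cfsg.Agent.H553.OddHall Cfsg.Agent.H553.ExtRed

/-- **Claim (B) for the orthogonal groups** -/
theorem claimAll : ClaimAll := by
  intro F _ _ ι _ _ Q h2 hQ R R' hR hR' h3 hJ
  have hfin : Finite (Cfsg.Omega F (⇑Q)) := inferInstance
  exact Cfsg.Agent.H556.OmClaim.claimB' (rep (inc (⇑Q))) rep_inj h2 (polarBilin Q) polar_omega polar_symm
    (polar_nondeg Q hQ.nd) hR hR' h3 hJ

variable {π : Set ℕ} {S : Type*} [Group S] [Finite S] [IsSimpleGroup S]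

end Cfsg.Agent.H556.Om
end
end

-- part: H556/FHallGen
section
set_option linter.all false
open scoped Cfsg.Agent.FastGrp

/-!
# `FHall` from a normal 2-complement (helper556)

`fhall_of_oddClosed` : a Hall `π`-subgroup `H` in which products of elements of odd order have odd order and such elements
commute gives `FHall π S` (with `r = 2`).
-/

set_option autoImplicit false

namespace Cfsg.Agent.H556.FH

open Subgroup Cfsg Cfsg.Agent.H571.RV Cfsg.Agent.H553.ExtRed

/-- the data of `FHall` with `r = 2` for a given Hall subgroup -/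
def TwoAt {S : Type*} [Group S] (H : Subgroup S) : Prop :=
  ∃ A : Subgroup S, A ≤ H ∧ H ≤ normalizer (A : Set S) ∧ (∀ a ∈ A, ∀ b ∈ A, a * b = b * a) ∧ ¬ 2 ∣ Nat.card A ∧
    ∀ p : ℕ, p.Prime → p ∣ A.relIndex H → p = 2

theorem TwoAt.fhall {π : Set ℕ} {S : Type*} [Group S] {H : Subgroup S} (h : TwoAt H) (hH : IsPiHall π H) :
    FHall π S := by
  obtain ⟨A, h1, h2, h3, h4, h5⟩ := h
  exact ⟨2, Nat.prime_two, H, A, hH, h1, h2, h3, h4, h5⟩

theorem two_of_oddClosed {S : Type*} [Group S] [Finite S] {H : Subgroup S}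
    (hcl : OddClosed H) (hab : ∀ x ∈ H, ∀ y ∈ H, Odd (orderOf x) → Odd (orderOf y) → x * y = y * x) :
    TwoAt H := by
  let A : Subgroup S :=
    { carrier := {x | x ∈ H ∧ Odd (orderOf x)}
      one_mem' := ⟨H.one_mem, by rw [orderOf_one]; exact odd_one⟩
      mul_mem' := by
        rintro x y ⟨hx, hx1⟩ ⟨hy, hy1⟩
        refine ⟨H.mul_mem hx hy, ?_⟩
        have h1 := hcl ⟨x, hx⟩ ⟨y, hy⟩ (by rwa [Subgroup.orderOf_mk]) (by rwa [Subgroup.orderOf_mk])
        rw [← Subgroup.orderOf_coe] at h1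
        exact h1
      inv_mem' := by
        rintro x ⟨hx, hx1⟩
        exact ⟨H.inv_mem hx, by rwa [orderOf_inv]⟩ }
  have hAH : A ≤ H := fun x hx => hx.1
  refine ⟨A, hAH, ?_, fun a ha b hb => hab a ha.1 b hb.1 ha.2 hb.2, ?_, ?_⟩
  · intro g hg
    rw [Subgroup.mem_normalizer_iff]
    intro x
    have h1 : orderOf (g * x * g⁻¹) = orderOf x := by
      have := orderOf_injective (MulAut.conj g).toMonoidHom (MulAut.conj g).injective x
      exact this
    constructor
    · rintro ⟨hx, hx1⟩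
      exact ⟨H.mul_mem (H.mul_mem hg hx) (H.inv_mem hg), by rw [h1]; exact hx1⟩
    · rintro ⟨hx, hx1⟩
      refine ⟨?_, by rwa [h1] at hx1⟩
      have := H.mul_mem (H.mul_mem (H.inv_mem hg) hx) hg
      simpa [mul_assoc] using this
  · intro hd
    have : Fact (Nat.Prime 2) := ⟨Nat.prime_two⟩
    obtain ⟨x, hx⟩ := exists_prime_orderOf_dvd_card' (G := A) 2 hd
    have h1 := x.2.2
    rw [Subgroup.orderOf_coe, hx] at h1
    exact absurd h1 (by decide)
  · intro p hp hd
    -- `H / A` is a 2-group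
    have hn : (A.subgroupOf H).Normal := by
      refine ⟨fun x hx g => ?_⟩
      rw [Subgroup.mem_subgroupOf] at hx ⊢
      have h1 : orderOf ((g : S) * x * (g : S)⁻¹) = orderOf (x : S) := by
        have := orderOf_injective (MulAut.conj (g : S)).toMonoidHom (MulAut.conj (g : S)).injective (x : S)
        exact this
      exact ⟨(g * x * g⁻¹ : H).2, by
        show Odd (orderOf ((g : S) * x * (g : S)⁻¹))
        rw [h1]; exact hx.2⟩
    have hq : p ∣ Nat.card (H ⧸ A.subgroupOf H) := hd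
    have : Fact p.Prime := ⟨hp⟩
    obtain ⟨y, hy⟩ := exists_prime_orderOf_dvd_card' (G := H ⧸ A.subgroupOf H) p hq
    obtain ⟨x, rfl⟩ := QuotientGroup.mk_surjective y
    -- the odd part
    obtain ⟨k, m, hm, hkm⟩ := Nat.exists_eq_two_pow_mul_odd (orderOf_pos x).ne'
    have h2 : x ^ 2 ^ k ∈ A.subgroupOf H := by
      rw [Subgroup.mem_subgroupOf]
      refine ⟨(x ^ 2 ^ k).2, ?_⟩
      rw [Subgroup.orderOf_coe]
      exact odd_orderOf_of_pow hm (by rw [← pow_mul, ← hkm, pow_orderOf_eq_one])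
    have h3 : (x : H ⧸ A.subgroupOf H) ^ 2 ^ k = 1 := by
      rw [← QuotientGroup.mk_pow]
      exact (QuotientGroup.eq_one_iff _).mpr h2
    have h4 := orderOf_dvd_of_pow_eq_one h3
    rw [hy] at h4
    exact (Nat.prime_dvd_prime_iff_eq hp Nat.prime_two).mp (hp.dvd_of_dvd_pow h4)

theorem fhall_of_oddClosed {π : Set ℕ} {S : Type*} [Group S] [Finite S] {H : Subgroup S} (hH : IsPiHall π H)
    (hcl : OddClosed H) (hab : ∀ x ∈ H, ∀ y ∈ H, Odd (orderOf x) → Odd (orderOf y) → x * y = y * x) :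
    FHall π S :=
  (two_of_oddClosed hcl hab).fhall hH

/-- lifting the conditions through a surjective homomorphism with kernel of exponent two -/
theorem two_of_surj {S X : Type*} [Group S] [Finite S] [Group X] [Finite X] (φ : X →* S)
    (hφ : Function.Surjective φ) (hk : ∀ k, φ k = 1 → k * k = 1) {H : Subgroup S}
    (hcl : OddClosed (H.comap φ))
    (hab : ∀ x ∈ H.comap φ, ∀ y ∈ H.comap φ, Odd (orderOf x) → Odd (orderOf y) → x * y = y * x) :
    TwoAt H := by
  have key : ∀ x ∈ H, Odd (orderOf x) → ∃ x' ∈ H.comap φ, φ x' = x ∧ Odd (orderOf x') := by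
    intro x hxH hx
    obtain ⟨z, rfl⟩ := hφ x
    obtain ⟨k, hk'⟩ := hx
    have hz : φ (z ^ (orderOf (φ z) + 1)) = φ z := by
      rw [map_pow, pow_succ, pow_orderOf_eq_one, one_mul]
    refine ⟨z ^ (orderOf (φ z) + 1), ?_, hz, ?_⟩
    · show φ _ ∈ H
      rw [hz]; exact hxH
    · refine odd_orderOf_of_pow (n := orderOf (φ z)) ⟨k, hk'⟩ ?_
      have h1 : z ^ orderOf (φ z) * z ^ orderOf (φ z) = 1 := hk _ (by rw [map_pow, pow_orderOf_eq_one])
      have h2 : orderOf (φ z) + 1 = 2 * (k + 1) := by omega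
      rw [h2, ← pow_mul, mul_comm (2 * (k + 1)), ← mul_assoc, pow_mul, pow_mul, pow_two, h1, one_pow]
  refine two_of_oddClosed ?_ ?_
  · intro x y hx hy
    rw [← Subgroup.orderOf_coe] at hx hy ⊢
    obtain ⟨x', hx'H, hx', hx'o⟩ := key x x.2 hx
    obtain ⟨y', hy'H, hy', hy'o⟩ := key y y.2 hy
    rw [Subgroup.coe_mul, ← hx', ← hy', ← map_mul]
    refine Odd.of_dvd_nat ?_ (orderOf_map_dvd φ _)
    have h1 := hcl ⟨x', hx'H⟩ ⟨y', hy'H⟩ (by rwa [Subgroup.orderOf_mk]) (by rwa [Subgroup.orderOf_mk])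
    rw [← Subgroup.orderOf_coe] at h1
    exact h1
  · intro x hx y hy hxo hyo
    obtain ⟨x', hx'H, rfl, hx'o⟩ := key x hx hxo
    obtain ⟨y', hy'H, rfl, hy'o⟩ := key y hy hyo
    rw [← map_mul, ← map_mul, hab x' hx'H y' hy'H hx'o hy'o]

end Cfsg.Agent.H556.FH
end

-- part: H556/FHallOmega
section
prune_inst 0x401506404056212000018051010001c42ba000000000b0000d9e009060587dc4200020e61f8d01a1010cea04440384020134c0010424000000e000400411c05a180804200b248a10424001f808884000000000000000000000000000000041000200000000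
set_option linter.all false
open scoped Cfsg.Agent.FastGrp

/-!
# TEAM RV, box R3, orthogonal groups (helper556)

`S` orthogonal simple group in characteristic `p ∉ π`, `2 ∈ π`, `3 ∉ π`, with a Hall `π`-subgroup: `FHall π S`.
-/

set_option autoImplicit false
set_option linter.unusedSectionVars false

namespace Cfsg.Agent.H556.Om

open Module QuadraticMap Cfsg.Agent.H167.OP Cfsg.Agent.H170.HL Cfsg.Agent.H170.HL.OmRow Cfsg.Agent.H170.Fl
open Subgroup Cfsg Cfsg.Agent.H988.CPi Cfsg.Agent.H553.OddHall Cfsg.Agent.H553.ExtRed Cfsg.Agent.H571.RV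

section Fix

variable {F : Type} [Field F] {ι : Type} [Fintype ι] [DecidableEq ι] {Q : QuadraticForm F (ι → F)}
variable {π : Set ℕ} {H : Subgroup (Cfsg.Omega F (⇑Q))} {m : ℕ} {E : Fin m × A4 → ι → F}

/-- elements of odd order fix the blocks -/
theorem HH.fix_odd [Finite F] (h : HH Q H) (hE : Frame (polarBilin Q) E)
    (hmax : ∀ E' : Fin (m + 1) × A4 → ι → F, ¬ Frame (polarBilin Q) E') (hR : ∀ k, RG Q (Ek E k) ≤ H)
    (hH : IsPiHall π H) (h2π : 2 ∈ π) (h3π : 3 ∉ π)
    {y : Cfsg.Omega F (⇑Q)} (hy : y ∈ H) (hyo : Odd (orderOf y)) (k : Fin m) :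
    (Us E k).map (rep (inc (⇑Q)) y) = Us E k := by
  have hfin : Finite (Cfsg.Omega F (⇑Q)) := inferInstance
  obtain ⟨τ, hτ⟩ := h.exists_perm hE hmax hR hy
  have h1 := (NN Q E).pow_mem hτ (orderOf y)
  have h3 : τ ^ orderOf y = 1 := by
    ext k
    have h4 := h1 k
    have h5 : (Us E k).map (rep (inc (⇑Q)) (y ^ orderOf y)) = Us E ((τ ^ orderOf y) k) := h4
    rw [pow_orderOf_eq_one, map_one_rep] at h5
    exact congrArg Fin.val (Us_injective h.two hE h5).symm
  have h4 : orderOf τ ∣ m.factorial := by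
    have := _root_.orderOf_dvd_natCard τ
    rwa [Nat.card_eq_fintype_card, Fintype.card_perm, Fintype.card_fin] at this
  have h5 : Nat.Coprime (orderOf y) m.factorial := by
    refine Nat.Coprime.symm (Nat.coprime_of_dvd fun r hr hr1 hr2 => ?_)
    have hr2' : r ≠ 2 := by
      rintro rfl
      exact absurd hr2 (Nat.two_dvd_ne_zero.mpr (Nat.odd_iff.mp hyo))
    have hrπ : r ∈ π := by
      refine hH.1 r hr (hr2.trans ?_)
      have := _root_.orderOf_dvd_natCard (⟨y, hy⟩ : H)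
      rwa [Subgroup.orderOf_mk] at this
    have h6 := h.lt hE hmax hR hH h2π h3π hr hrπ hr2'
    exact absurd ((hr.dvd_factorial).mp hr1) (by omega)
  have h6 : τ = 1 := by
    rw [← orderOf_eq_one_iff]
    exact Nat.eq_one_of_dvd_coprimes h5 (orderOf_dvd_of_pow_eq_one h3) h4
  have h7 := hτ k
  rw [h6] at h7
  exact h7

/-- elements of odd order commute -/
theorem HH.comm_odd [Finite F] (h : HH Q H) (hH : IsPiHall π H) (h2π : 2 ∈ π) (h3π : 3 ∉ π) (hcl : OddClosed H)
    {x y : Cfsg.Omega F (⇑Q)} (hx : x ∈ H) (hy : y ∈ H) (hxo : Odd (orderOf x)) (hyo : Odd (orderOf y)) :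
    x * y = y * x := by
  have hfin : Finite (Cfsg.Omega F (⇑Q)) := inferInstance
  obtain ⟨m, E₀, hE₀, hcard, hmax⟩ := exists_max (Q := Q) h.gq.nd h.two
  obtain ⟨E, hE, hR⟩ := h.exists_family hE₀
  -- the group of elements of odd order
  let A : Subgroup (Cfsg.Omega F (⇑Q)) :=
    { carrier := {x | x ∈ H ∧ Odd (orderOf x)}
      one_mem' := ⟨H.one_mem, by rw [orderOf_one]; exact odd_one⟩
      mul_mem' := by
        rintro x y ⟨hx, hx1⟩ ⟨hy, hy1⟩
        refine ⟨H.mul_mem hx hy, ?_⟩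
        have h1 := hcl ⟨x, hx⟩ ⟨y, hy⟩ (by rwa [Subgroup.orderOf_mk]) (by rwa [Subgroup.orderOf_mk])
        rw [← Subgroup.orderOf_coe] at h1
        exact h1
      inv_mem' := by
        rintro x ⟨hx, hx1⟩
        exact ⟨H.inv_mem hx, by rwa [orderOf_inv]⟩ }
  have hAH : A ≤ H := fun x hx => hx.1
  have hfix : ∀ k, ∀ g ∈ A, (Us E k).map (rep (inc (⇑Q)) g) = Us E k := fun k g hg =>
    h.fix_odd hE hmax hR hH h2π h3π hg.1 hg.2 k
  have hU : ∀ k, ∀ g ∈ A, ∀ u ∈ Us E k, rep (inc (⇑Q)) g u ∈ Us E k := by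
    intro k g hg u hu
    rw [← hfix k g hg]
    exact ⟨u, hu, rfl⟩
  have hW : ∀ g ∈ A, ∀ u ∈ Wc Q E, rep (inc (⇑Q)) g u ∈ Wc Q E := by
    rintro g hg u hu ⟨k, a⟩
    have h1 : ∀ v ∈ Us E k, polarBilin Q v u = 0 := by
      intro v hv
      induction hv using Submodule.span_induction with
      | mem v hv =>
        obtain ⟨b, rfl⟩ := hv
        exact hu (k, b)
      | zero => rw [map_zero, LinearMap.zero_apply]
      | add v w _ _ h1 h2 => rw [map_add, LinearMap.add_apply, h1, h2, add_zero]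
      | smul c v _ h1 => rw [map_smul, LinearMap.smul_apply, h1, smul_zero]
    have h3 : E (k, a) ∈ (Us E k).map (rep (inc (⇑Q)) g) := by
      rw [hfix k g hg]
      exact mem_Us k a
    obtain ⟨v, hv, hva⟩ := h3
    rw [← hva, polar_omega]
    exact h1 v hv
  -- the orders
  have hcA : (Nat.card A : F) ≠ 0 := by
    intro h0
    obtain ⟨c, hc⟩ := Subgroup.card_dvd_of_le hAH
    exact h.card (by rw [hc, Nat.cast_mul, h0, zero_mul])
  have hpA : ∀ r : ℕ, r.Prime → r ∣ Nat.card A → 4 < r := by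
    intro r hr hd
    have hrH : r ∣ Nat.card H := hd.trans (Subgroup.card_dvd_of_le hAH)
    have hr2 : r ≠ 2 := by
      rintro rfl
      have : Fact (Nat.Prime 2) := ⟨Nat.prime_two⟩
      obtain ⟨x, hx⟩ := exists_prime_orderOf_dvd_card' (G := A) 2 hd
      have h1 := x.2.2
      rw [Subgroup.orderOf_coe, hx] at h1
      exact absurd h1 (by decide)
    have hr3 : r ≠ 3 := fun h3 => h3π (h3 ▸ hH.1 r hr hrH)
    by_contra hcon
    push Not at hcon
    have := hr.two_le
    interval_cases r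
    · exact hr2 rfl
    · exact hr3 rfl
    · exact absurd hr (by norm_num)
  -- the restriction to an invariant subspace of dimension at most four
  have key : ∀ U : Submodule F (ι → F), (∀ g ∈ A, ∀ u ∈ U, rep (inc (⇑Q)) g u ∈ U) → finrank F U ≤ 4 →
      ∀ u ∈ U, rep (inc (⇑Q)) (x * y) u = rep (inc (⇑Q)) (y * x) u := by
    intro U hU hd u hu
    let σ : Representation F A U := H575.Dim.sub (rep (inc (⇑Q))) A.subtype U fun g u hu => hU g g.2 u hu
    have h1 := Cfsg.Agent.H556.SmallAb.comm_of_small' σ hcA (fun r hr hd' => hd.trans_lt (hpA r hr hd'))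
      ⟨x, hx, hxo⟩ ⟨y, hy, hyo⟩
    exact congrArg Subtype.val (LinearMap.congr_fun h1 ⟨u, hu⟩)
  have h9 : x * y * (y * x)⁻¹ = 1 := by
    apply rep_inj (Q := Q)
    rw [map_one]
    have hinv : ∀ g (v : ι → F), rep (inc (⇑Q)) g (rep (inc (⇑Q)) g⁻¹ v) = v := by
      intro g v
      rw [← End.mul_apply, ← map_mul, mul_inv_cancel, map_one, End.one_apply]
    have hAyx : (y * x)⁻¹ ∈ A := A.inv_mem (A.mul_mem ⟨hy, hyo⟩ ⟨hx, hxo⟩)
    refine ext_frame hE h.two (fun j => ?_) fun w hw => ?_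
    · obtain ⟨k, a⟩ := j
      rw [map_mul, End.mul_apply, End.one_apply,
        key (Us E k) (hU k) (finrank_Us h.two hE k).le _ (hU k _ hAyx _ (mem_Us k a)), hinv]
    · have hdW : finrank F (Wc Q E) ≤ 4 := by
        have := finrank_Wc h.two hE
        omega
      rw [map_mul, End.mul_apply, End.one_apply, key (Wc Q E) hW hdW _ (hW _ hAyx _ hw), hinv]
  exact mul_inv_eq_one.mp h9

end Fix

variable {π : Set ℕ}

theorem two_omega {S : Type*} [Group S] [Finite S]
    (h2π : 2 ∈ π) (h3π : 3 ∉ π) {H : Subgroup S} (hH : IsPiHall π H) {F : Type} [Field F] [Finite F] {p : ℕ}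
    [CharP F p] (hp : p.Prime) (hpπ : p ∉ π) {ι : Type} [Fintype ι]
    [DecidableEq ι] {Q : QuadraticForm F (ι → F)} (hQ : GoodQ Q) {Q' : (ι → F) → F}
    (hQQ : ⇑Q = Q') (e : S ≃* Cfsg.POmega F Q') : Cfsg.Agent.H556.FH.TwoAt H := by
  subst hQQ
  have hfin : Finite (Cfsg.Omega F (⇑Q)) := inferInstance
  have h2 : (2 : F) ≠ 0 := by
    intro h
    have h1 : ((2 : ℕ) : F) = 0 := by exact_mod_cast h
    rw [CharP.cast_eq_zero_iff F p, Nat.prime_dvd_prime_iff_eq hp Nat.prime_two] at h1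
    exact hpπ (h1 ▸ h2π)
  let φ : Cfsg.Omega F (⇑Q) →* S :=
    ((e.symm : Cfsg.POmega F (⇑Q) →* S).comp
      (QuotientGroup.mk' (Subgroup.center (Cfsg.Omega F (⇑Q)))) :)
  have hφ : Function.Surjective φ :=
    e.symm.surjective.comp (QuotientGroup.mk'_surjective _)
  have hφ1 : ∀ k, φ k = 1 → k * k = 1 := by
    intro k h
    have hk : k ∈ Subgroup.center (Cfsg.Omega F (⇑Q)) := by
      rw [← QuotientGroup.eq_one_iff]
      exact e.symm.injective (h.trans (map_one e.symm).symm)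
    have h1 := (Cfsg.Agent.LieClassical.OmegaCenter.mem_center_omega_iff Q hQ.nd hQ.card hQ.sing k).mp hk
    apply inc_injective
    rw [map_mul, map_one]
    have h1' : inc (⇑Q) k = 1 ∨ inc (⇑Q) k = -1 := h1
    rcases h1' with h | h
    · rw [h, one_mul]
    · rw [h, neg_mul_neg, one_mul]
  have hH' : IsPiHall π H := hH
  -- the preimage
  have hK : IsPiHall π (H.comap φ) := by
    constructor
    · intro r hr hd
      have := Fact.mk hr
      obtain ⟨x, hx⟩ := exists_prime_orderOf_dvd_card' (G := H.comap φ) r hd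
      by_cases h1 : φ (x : Cfsg.Omega F (⇑Q)) = 1
      · have h3 : x * x = 1 := Subtype.ext (hφ1 _ h1)
        have h4 : r ∣ 2 := by
          rw [← hx]
          exact orderOf_dvd_of_pow_eq_one (by rw [pow_two]; exact h3)
        rw [(Nat.prime_dvd_prime_iff_eq hr Nat.prime_two).mp h4]
        exact h2π
      · apply hH'.1 r hr
        let z : H := ⟨φ x, x.2⟩
        have h3 : z ^ r = 1 := by
          apply Subtype.ext
          show (φ x) ^ r = 1
          rw [← map_pow]
          have : x ^ r = 1 := by rw [← hx, pow_orderOf_eq_one]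
          have h4 : (x : Cfsg.Omega F (⇑Q)) ^ r = 1 := congrArg Subtype.val this
          rw [h4, map_one]
        have h4 : orderOf z = r := orderOf_eq_prime h3 fun h => h1 (congrArg Subtype.val h)
        rw [← h4]
        exact _root_.orderOf_dvd_natCard z
    · intro r hr hrπ hd
      rw [index_comap_of_surjective H hφ] at hd
      exact hH'.2 r hr hrπ hd
  have hHH : HH Q (H.comap φ) :=
    { gq := hQ
      two := h2
      claim := claimAll F ι Q h2 hQ
      idx := hK.2 2 Nat.prime_two h2π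
      three := fun hd => h3π (hK.1 3 Nat.prime_three hd)
      card := by
        intro h0
        rw [CharP.cast_eq_zero_iff F p] at h0
        exact hpπ (hK.1 p hp h0) }
  have hcl : OddClosed (H.comap φ) := by
    refine Cfsg.Agent.H556.OmClosed.oddClosed_of_cen ?_
    intro r n hr hr2 hd g hg R hR hgR
    have hrπ : r ∈ π := hK.1 r hr hd
    have h5 : 5 ≤ r := by
      by_contra hcon
      push Not at hcon
      have := hr.two_le
      interval_cases r
      · exact hr2 rfl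
      · exact h3π hrπ
      · exact absurd hr (by norm_num)
    have h6 := hHH.cen hK h2π h3π hr h5 hrπ (y := (g : Cfsg.Omega F (⇑Q))) g.2 (n := n)
      (by exact_mod_cast congrArg Subtype.val hg) (D := R.map (H.comap φ).subtype) (map_subtype_le _) (hR.map _) (by
        rintro _ ⟨d, hd, rfl⟩
        exact ⟨g * d * g⁻¹, (mem_normalizer_iff.mp hgR d).mp hd, rfl⟩)
    rw [mem_centralizer_iff]
    intro d hd
    exact Subtype.ext (h6 d ⟨d, hd, rfl⟩).symm
  exact Cfsg.Agent.H556.FH.two_of_surj φ hφ hφ1 hcl fun x hx y hy hxo hyo =>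
    hHH.comm_odd hK h2π h3π hcl hx hy hxo hyo

theorem fhall_omega {S : Type*} [Group S] [Finite S]
    (h2π : 2 ∈ π) (h3π : 3 ∉ π) (hE : IsEPiGroup π S) {F : Type} [Field F] [Finite F] {p : ℕ}
    [CharP F p] (hp : p.Prime) (hpπ : p ∉ π) {ι : Type} [Fintype ι]
    [DecidableEq ι] {Q : QuadraticForm F (ι → F)} (hQ : GoodQ Q) {Q' : (ι → F) → F}
    (hQQ : ⇑Q = Q') (e : S ≃* Cfsg.POmega F Q') : FHall π S := by
  obtain ⟨H, hH⟩ := hE
  exact (two_omega h2π h3π hH hp hpπ hQ hQQ e).fhall hH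

variable {S : Type*} [Group S] [Finite S]

/-- **box R3, row `oOdd`** -/
theorem fhall_oOdd (h2π : 2 ∈ π) (h3π : 3 ∉ π) (hE : IsEPiGroup π S) (p : ℕ) (hp : p.Prime) (hpπ : p ∉ π)
    (hG : IsPOmegaOddChar p S) : FHall π S := by
  obtain ⟨F, _, _, hchar, m, hm, hoddF, ⟨e⟩⟩ := hG
  have h2 : (2 : F) ≠ 0 := by
    intro h
    have h1 : ((2 : ℕ) : F) = 0 := by exact_mod_cast h
    rw [CharP.cast_eq_zero_iff F p, Nat.prime_dvd_prime_iff_eq hp Nat.prime_two] at h1
    exact hpπ (h1 ▸ h2π)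
  exact fhall_omega h2π h3π hE hp hpπ (goodQ_odd (by omega) h2)
    (Cfsg.Agent.LieClassical.OrthForms.coe_oddForm m F) e

/-- **box R3, row `oPlus`** -/
theorem fhall_oPlus (h2π : 2 ∈ π) (h3π : 3 ∉ π) (hE : IsEPiGroup π S) (p : ℕ) (hp : p.Prime) (hpπ : p ∉ π)
    (hG : IsPOmegaPlusChar p S) : FHall π S := by
  obtain ⟨F, _, _, hchar, m, hm, ⟨e⟩⟩ := hG
  exact fhall_omega h2π h3π hE hp hpπ (goodQ_plus (by omega))
    (Cfsg.Agent.LieClassical.OrthForms.coe_plusForm m F) e

/-- **box R3, row `oMinus`** -/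
theorem fhall_oMinus (h2π : 2 ∈ π) (h3π : 3 ∉ π) (hE : IsEPiGroup π S) (p : ℕ) (hp : p.Prime) (hpπ : p ∉ π)
    (hG : IsPOmegaMinusChar p S) : FHall π S := by
  obtain ⟨F, _, _, hchar, m, a, b, hm, hab, ⟨e⟩⟩ := hG
  exact fhall_omega h2π h3π hE hp hpπ (goodQ_minus (by omega) a b hab)
    (Cfsg.Agent.LieClassical.OrthForms.coe_minusForm (m - 1) F a b) e

end Cfsg.Agent.H556.Om
end
end
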