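import Mathlib
import Cfsg.Prelude.Def_Classical
import Cfsg.Agent.S0265
import Cfsg.Agent.S0277
import Cfsg.Agent.S0278
import Cfsg.Agent.ClassicalGeometry.HermOrtho
import Cfsg.Agent.H565.TwF4Rank
import Cfsg.Agent.H994.KE.Base_m3
import Cfsg.Agent.H795.Tw
import Cfsg.Agent.OddRank.SzTits
import Cfsg.Agent.H42.Tw.SzRee
import Cfsg.Agent.H794.DefRank_m3
import Cfsg.Agent.H248.DichRGD
import Cfsg.Agent.H567.DichLie
import Cfsg.Agent.H463.LieOdd_m3
import Cfsg.Agent.H400.LieSimple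
import Cfsg.Agent.H164.HallGen
import Cfsg.Agent.S0004
import Cfsg.Agent.H795.ExcRow
import Cfsg.Agent.H630.ExcCent
import Cfsg.Agent.PRankPar.Inst
import Cfsg.Agent.S1457
import Cfsg.Agent.Dichotomy.Constraint
import Cfsg.Agent.Lib.ProductSet
import Cfsg.Agent.H553.OddHall_m3
import Cfsg.Agent.S1062
import Cfsg.Agent.S1063
import Cfsg.Agent.S1064
import Cfsg.Agent.S1065
import Cfsg.Agent.S1066
import Cfsg.Agent.H566.WeylST
import Cfsg.Agent.S1092
import Cfsg.Agent.S1093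
import Cfsg.Agent.H170.HL.OmRows_m3
import Cfsg.Agent.H568.LinP
import Cfsg.Agent.LieClassical.SUBasic
import Cfsg.Agent.H555.Hall.ZStar_m3
import Cfsg.Agent.Cit.FamFb_m3
import Cfsg.Agent.H129.ChainFast
import Cfsg.Agent.FastGrp
import Cfsg.Agent.Prune
set_option linter.all false

section
prune_inst 0x7fb0e8f82bb821dfffff7e7faed8dffc19909fffe6dff9437fe061ff0b9f030009c5fb8d09e010fe0e96421410387813f9ffceffe86bdc7ffffd5ff41ffbee0fe5f63508119080240f300fff83f0778a7f3fffffffffffffffffffffffffffbeffbfffffffff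

-- part: H556/HallLB
section
prune_inst 0x4f0107d047d6200000018000242001e62f2000000004b880008a008040589ec20a0422e61be1001161a82104c5034002003100020420000000a003400011f01a09882020461c1a000c60001000000400000000000000000000000000000000000000000000
set_option linter.all false
open scoped Cfsg.Agent.FastGrp

-- part: H556/HallEmb
section
/-!
# Block embeddings `SL_e → SL_(e+k)` and `SU_e → SU_(e+k)`; elements with small commutator space
-/

set_option autoImplicit false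

namespace Cfsg.Agent.H556.HallEmb

open Matrix

variable {F : Type*} [Field F]

/-- `diag(M, 1)` -/
def E (e k : ℕ) (M : Matrix (Fin e) (Fin e) F) : Matrix (Fin (e + k)) (Fin (e + k)) F :=
  Matrix.reindex finSumFinEquiv finSumFinEquiv (fromBlocks M 0 0 (1 : Matrix (Fin k) (Fin k) F))

theorem E_one (e k : ℕ) : E e k (1 : Matrix (Fin e) (Fin e) F) = 1 := by
  rw [E, fromBlocks_one, reindex_apply, submatrix_one_equiv]

theorem E_mul (e k : ℕ) (M N : Matrix (Fin e) (Fin e) F) : E e k (M * N) = E e k M * E e k N := by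
  rw [E, E, E, reindex_apply, reindex_apply, reindex_apply, submatrix_mul_equiv, fromBlocks_multiply]
  simp only [_root_.Matrix.mul_zero, _root_.add_zero, _root_.Matrix.mul_one, _root_.Matrix.zero_mul, _root_.mul_one, _root_.zero_add]

theorem det_E (e k : ℕ) (M : Matrix (Fin e) (Fin e) F) : (E e k M).det = M.det := by
  rw [E, det_reindex_self, det_fromBlocks_zero₂₁, det_one, mul_one]

theorem E_inj {e k : ℕ} {M N : Matrix (Fin e) (Fin e) F} (h : E e k M = E e k N) : M = N := by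
  have h1 := (Matrix.reindex finSumFinEquiv finSumFinEquiv).injective h
  exact (fromBlocks_inj.1 h1).1

/-- coordinates of `E M v` -/
theorem E_castAdd (e k : ℕ) (M : Matrix (Fin e) (Fin e) F) (v : Fin (e + k) → F) (i : Fin e) :
    (E e k M *ᵥ v) (Fin.castAdd k i) = (M *ᵥ fun j => v (Fin.castAdd k j)) i := by
  rw [E, reindex_apply, mulVec, dotProduct, Fin.sum_univ_add]
  simp only [submatrix_apply, finSumFinEquiv_symm_apply_castAdd, finSumFinEquiv_symm_apply_natAdd,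
    fromBlocks_apply₁₁, fromBlocks_apply₁₂, Matrix.zero_apply, zero_mul, Finset.sum_const_zero, add_zero]
  rfl

theorem E_natAdd (e k : ℕ) (M : Matrix (Fin e) (Fin e) F) (v : Fin (e + k) → F) (i : Fin k) :
    (E e k M *ᵥ v) (Fin.natAdd e i) = v (Fin.natAdd e i) := by
  rw [E, reindex_apply, mulVec, dotProduct, Fin.sum_univ_add]
  simp only [submatrix_apply, finSumFinEquiv_symm_apply_castAdd, finSumFinEquiv_symm_apply_natAdd,
    fromBlocks_apply₂₁, fromBlocks_apply₂₂, Matrix.zero_apply, zero_mul, Finset.sum_const_zero, zero_add]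
  simp only [Matrix.one_apply, _root_.ite_mul, _root_.one_mul, _root_.MulZeroClass.zero_mul, _root_.Finset.sum_ite_eq, _root_.Finset.mem_univ, ↓ _root_.reduceIte]

/-- the commutator space of `diag(M, 1)` has dimension at most `e` -/
theorem finrank_range_E_sub (e k : ℕ) (M : Matrix (Fin e) (Fin e) F) :
    Module.finrank F (LinearMap.range ((E e k M).mulVecLin - 1)) ≤ e := by
  have h : LinearMap.range ((E e k M).mulVecLin - 1) ≤
      LinearMap.ker (LinearMap.funLeft F F (Fin.natAdd e : Fin k → Fin (e + k))) := by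
    rintro _ ⟨v, rfl⟩
    rw [LinearMap.mem_ker]
    funext i
    simp only [LinearMap.funLeft_apply, LinearMap.sub_apply, Matrix.mulVecLin_apply, Module.End.one_apply,
      Pi.sub_apply, E_natAdd, sub_self, Pi.zero_apply]
  refine (Submodule.finrank_mono h).trans ?_
  have h1 := LinearMap.finrank_range_add_finrank_ker
    (LinearMap.funLeft F F (Fin.natAdd e : Fin k → Fin (e + k)))
  have h2 : LinearMap.range (LinearMap.funLeft F F (Fin.natAdd e : Fin k → Fin (e + k))) = ⊤ := by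
    rw [LinearMap.range_eq_top]
    exact LinearMap.funLeft_surjective_of_injective F F _ (Fin.natAdd_injective k e)
  rw [h2, finrank_top, Module.finrank_fintype_fun_eq_card, Module.finrank_fintype_fun_eq_card,
    Fintype.card_fin, Fintype.card_fin] at h1
  omega

/-- `SL_e → SL_(e+k)` -/
def embSL (e k : ℕ) : _root_.Matrix.SpecialLinearGroup (Fin e) F →* _root_.Matrix.SpecialLinearGroup (Fin (e + k)) F where
  toFun M := ⟨E e k M.1, by rw [det_E]; exact M.2⟩
  map_one' := Subtype.ext (by simpa using E_one e k)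
  map_mul' M N := Subtype.ext (E_mul e k M.1 N.1)

theorem embSL_injective (e k : ℕ) : Function.Injective (embSL (F := F) e k) := by
  intro M N h
  exact Subtype.ext (E_inj (congrArg Subtype.val h))

theorem embSL_val (e k : ℕ) (M : _root_.Matrix.SpecialLinearGroup (Fin e) F) : (embSL e k M).1 = E e k M.1 := rfl

theorem embSL_mem_SU (e k q : ℕ) {M : _root_.Matrix.SpecialLinearGroup (Fin e) F} (hM : M ∈ SU e F q) :
    embSL e k M ∈ SU (e + k) F q := by
  intro u v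
  change hermForm (e + k) F q (E e k M.1 *ᵥ u) (E e k M.1 *ᵥ v) = hermForm (e + k) F q u v
  have h := hM (fun j => u (Fin.castAdd k j)) (fun j => v (Fin.castAdd k j))
  change hermForm e F q (M.1 *ᵥ _) (M.1 *ᵥ _) = hermForm e F q _ _ at h
  rw [hermForm, hermForm] at h ⊢
  rw [Fin.sum_univ_add, Fin.sum_univ_add]
  simp only [E_castAdd, E_natAdd]
  rw [h]

end Cfsg.Agent.H556.HallEmb
end

-- part: H556/HallOrd
section
/-!
# Elements of prime order `t` with small commutator space in `SL_n(q)` and `SU_n(q)`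
-/

set_option autoImplicit false

namespace Cfsg.Agent.H556.HallOrd

open Matrix Cfsg.Agent.H556.HallEmb

variable {F : Type*} [Field F] [Fintype F]

/-! ### orders -/

theorem card_GL_prod (n : ℕ) : Nat.card (GL (Fin n) F) =
    ∏ i ∈ Finset.range n, (Fintype.card F ^ n - Fintype.card F ^ i) := by
  rw [Matrix.card_GL_field, Finset.prod_range]

/-- a prime dividing `|GL_n(q)|` and not `q` divides some `q ^ j - 1` with `1 ≤ j ≤ n` -/
theorem exists_dvd_GL {n t : ℕ} (ht : t.Prime) (htq : ¬ t ∣ Fintype.card F)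
    (h1 : t ∣ Nat.card (GL (Fin n) F)) :
    ∃ j, 1 ≤ j ∧ j ≤ n ∧ t ∣ Fintype.card F ^ j - 1 := by
  rw [card_GL_prod, ht.prime.dvd_finsetProd_iff] at h1
  obtain ⟨i, hi, h2⟩ := h1
  rw [Finset.mem_range] at hi
  refine ⟨n - i, by omega, Nat.sub_le _ _, ?_⟩
  have h3 : Fintype.card F ^ n - Fintype.card F ^ i = Fintype.card F ^ i * (Fintype.card F ^ (n - i) - 1) := by
    rw [Nat.mul_sub, ← pow_add, mul_one, Nat.add_sub_cancel' hi.le]
  rw [h3, ht.dvd_mul] at h2
  rcases h2 with h2 | h2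
  · exact absurd (ht.dvd_of_dvd_pow h2) htq
  · exact h2

/-- a prime dividing `|SL_n(q)|` and not `q` divides some `q ^ j - 1` with `1 ≤ j ≤ n` -/
theorem exists_dvd_SL {n t : ℕ} (hn : n ≠ 0) (ht : t.Prime) (htq : ¬ t ∣ Fintype.card F)
    (h : t ∣ Nat.card (_root_.Matrix.SpecialLinearGroup (Fin n) F)) :
    ∃ j, 1 ≤ j ∧ j ≤ n ∧ t ∣ Fintype.card F ^ j - 1 := by
  apply exists_dvd_GL ht htq
  rw [S0265.card_GL_eq_SL hn]
  exact h.mul_left _

/-- `q ^ m - 1` divides `|SL_m(q)|` for `m ≥ 2` -/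
theorem dvd_card_SL {m : ℕ} (hm : 2 ≤ m) :
    Fintype.card F ^ m - 1 ∣ Nat.card (_root_.Matrix.SpecialLinearGroup (Fin m) F) := by
  have hq : 1 < Fintype.card F := Fintype.one_lt_card
  have h := S0265.card_GL_eq_SL (F := F) (n := m) (by omega)
  rw [card_GL_prod] at h
  obtain ⟨k, rfl⟩ : ∃ k, m = k + 2 := ⟨m - 2, by omega⟩
  rw [Finset.prod_range_succ, Finset.prod_range_succ', pow_zero] at h
  have h1 : Nat.card Fˣ = Fintype.card F - 1 := by
    rw [Nat.card_units, Nat.card_eq_fintype_card]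
  have h2 : Fintype.card F ^ (k + 2) - Fintype.card F ^ (k + 1) = Fintype.card F ^ (k + 1) * (Fintype.card F - 1) := by
    rw [Nat.mul_sub, mul_one, ← pow_succ]
  rw [h1, h2] at h
  have h3 : (Fintype.card F - 1) * Nat.card (_root_.Matrix.SpecialLinearGroup (Fin (k + 2)) F) =
      (Fintype.card F - 1) * ((∏ i ∈ Finset.range k, (Fintype.card F ^ (k + 2) - Fintype.card F ^ (i + 1))) *
        (Fintype.card F ^ (k + 2) - 1) * Fintype.card F ^ (k + 1)) := by
    rw [← h]; ring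
  have h4 := Nat.eq_of_mul_eq_mul_left (show 0 < Fintype.card F - 1 by omega) h3
  rw [h4]
  exact (Dvd.intro_left _ rfl).mul_right _

/-- a prime dividing `|GU_n(q)|` and not `q` divides some `q ^ j - (-1) ^ j` with `1 ≤ j ≤ n` -/
theorem exists_dvd_GU {n t q : ℕ} (hF : Fintype.card F = q ^ 2) (ht : t.Prime) (htq : ¬ t ∣ q)
    (h1 : t ∣ Nat.card (GU n F q)) :
    ∃ j, 1 ≤ j ∧ j ≤ n ∧ t ∣ (if Even j then q ^ j - 1 else q ^ j + 1) := by
  rw [S0277.result hF n, ht.dvd_mul] at h1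
  rcases h1 with h1 | h1
  · exact absurd (ht.dvd_of_dvd_pow h1) htq
  rw [ht.prime.dvd_finsetProd_iff] at h1
  obtain ⟨i, hi, h2⟩ := h1
  rw [Finset.mem_range] at hi
  refine ⟨i + 1, by omega, by omega, ?_⟩
  by_cases h3 : Even i
  · rw [if_pos h3] at h2
    rw [if_neg (by rw [Nat.even_add_one]; exact not_not.2 h3)]
    exact h2
  · rw [if_neg h3] at h2
    rw [if_pos (by rw [Nat.even_add_one]; exact h3)]
    exact h2

/-- a prime dividing `|SU_n(q)|` and not `q` divides some `q ^ j - (-1) ^ j` with `1 ≤ j ≤ n` -/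
theorem exists_dvd_SU {n t q : ℕ} (hF : Fintype.card F = q ^ 2) (hn : n ≠ 0) (ht : t.Prime) (htq : ¬ t ∣ q)
    (h : t ∣ Nat.card (SU n F q)) :
    ∃ j, 1 ≤ j ∧ j ≤ n ∧ t ∣ (if Even j then q ^ j - 1 else q ^ j + 1) := by
  have h1 : t ∣ (q + 1) * Nat.card (SU n F q) := h.mul_left _
  rw [S0278.result hF n (by omega), ← S0277.result hF n] at h1
  exact exists_dvd_GU hF ht htq h1

/-- `q ^ m - (-1) ^ m` divides `|SU_m(q)|` for `m ≥ 2` -/
theorem dvd_card_SU {m q : ℕ} (hF : Fintype.card F = q ^ 2) (hm : 2 ≤ m) :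
    (if Even m then q ^ m - 1 else q ^ m + 1) ∣ Nat.card (SU m F q) := by
  have h := S0278.result hF m (by omega)
  obtain ⟨k, rfl⟩ : ∃ k, m = k + 2 := ⟨m - 2, by omega⟩
  rw [Finset.prod_range_succ, Finset.prod_range_succ'] at h
  simp only [Even.zero, if_true, zero_add, pow_one] at h
  have h2 : (if Even (k + 1) then q ^ (k + 1 + 1) + 1 else q ^ (k + 1 + 1) - 1) =
      (if Even (k + 2) then q ^ (k + 2) - 1 else q ^ (k + 2) + 1) := by
    by_cases h3 : Even (k + 1)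
    · rw [if_pos h3, if_neg (by rw [show k + 2 = (k + 1) + 1 by rfl, Nat.even_add_one]; exact not_not.2 h3)]
    · rw [if_neg h3, if_pos (by rw [show k + 2 = (k + 1) + 1 by rfl, Nat.even_add_one]; exact h3)]
  rw [h2] at h
  have h4 : (q + 1) * Nat.card (SU (k + 2) F q) =
      (q + 1) * ((q ^ ((k + 2) * (k + 2 - 1) / 2) *
        ∏ i ∈ Finset.range k, (if Even (i + 1) then q ^ (i + 1 + 1) + 1 else q ^ (i + 1 + 1) - 1)) *
        (if Even (k + 2) then q ^ (k + 2) - 1 else q ^ (k + 2) + 1)) := by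
    rw [h]; ring
  have h5 := Nat.eq_of_mul_eq_mul_left (show 0 < q + 1 by omega) h4
  rw [h5]
  exact Dvd.intro_left _ rfl

/-! ### small elements -/

/-- If `t` divides `|SL_m(q)|` then `SL_n(q)`, `n ≥ m`, has an element of order `t` whose commutator space has dimension
at most `m`. -/
theorem exists_small_SL {n m t : ℕ} (ht : t.Prime) (hmn : m ≤ n)
    (h : t ∣ Nat.card (_root_.Matrix.SpecialLinearGroup (Fin m) F)) :
    ∃ z : _root_.Matrix.SpecialLinearGroup (Fin n) F, z ^ t = 1 ∧ z ≠ 1 ∧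
      Module.finrank F (LinearMap.range (z.1.mulVecLin - 1)) ≤ m := by
  obtain ⟨k, rfl⟩ := Nat.exists_eq_add_of_le hmn
  have := Fact.mk ht
  obtain ⟨y, hy⟩ := exists_prime_orderOf_dvd_card' t h
  refine ⟨embSL m k y, ?_, ?_, ?_⟩
  · rw [← map_pow, ← hy, pow_orderOf_eq_one, map_one]
  · intro h1
    rw [← map_one (embSL m k)] at h1
    have h2 := embSL_injective m k h1
    rw [h2, orderOf_one] at hy
    exact ht.one_lt.ne hy
  · rw [embSL_val]
    exact finrank_range_E_sub m k y.1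

/-- The same for `SU_n(q)`. -/
theorem exists_small_SU {n m t q : ℕ} (ht : t.Prime) (hmn : m ≤ n) (h : t ∣ Nat.card (SU m F q)) :
    ∃ z : SU n F q, z ^ t = 1 ∧ z ≠ 1 ∧
      Module.finrank F (LinearMap.range (z.1.1.mulVecLin - 1)) ≤ m := by
  obtain ⟨k, rfl⟩ := Nat.exists_eq_add_of_le hmn
  have := Fact.mk ht
  obtain ⟨y, hy⟩ := exists_prime_orderOf_dvd_card' t h
  have hyt : y.1 ^ t = 1 := by
    have := pow_orderOf_eq_one y
    rw [hy] at this
    exact congrArg Subtype.val this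
  refine ⟨⟨embSL m k y.1, embSL_mem_SU m k q y.2⟩, ?_, ?_, ?_⟩
  · apply Subtype.ext
    change embSL m k y.1 ^ t = 1
    rw [← map_pow, hyt, map_one]
  · intro h1
    have h1' : embSL m k y.1 = 1 := congrArg Subtype.val h1
    rw [← map_one (embSL m k)] at h1'
    have h2 := embSL_injective m k h1'
    have h3 : y = 1 := Subtype.ext h2
    rw [h3, orderOf_one] at hy
    exact ht.one_lt.ne hy
  · change Module.finrank F (LinearMap.range ((embSL m k y.1).1.mulVecLin - 1)) ≤ m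
    rw [embSL_val]
    exact finrank_range_E_sub m k y.1.1

/-! ### the order of `q` and `-q` modulo `t` -/

theorem dvd_iff_plus {t q j : ℕ} (hq : 1 ≤ q) : t ∣ q ^ j - 1 ↔ ((q : ZMod t)) ^ j = 1 := by
  rw [← ZMod.natCast_eq_zero_iff, Nat.cast_sub (Nat.one_le_pow _ _ hq), Nat.cast_pow, Nat.cast_one, sub_eq_zero]

theorem dvd_iff_minus {t q j : ℕ} (hq : 1 ≤ q) :
    t ∣ (if Even j then q ^ j - 1 else q ^ j + 1) ↔ (-(q : ZMod t)) ^ j = 1 := by
  by_cases h : Even j
  · rw [if_pos h, dvd_iff_plus hq, h.neg_pow]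
  · rw [if_neg h, ← ZMod.natCast_eq_zero_iff, Nat.cast_add, Nat.cast_pow, Nat.cast_one,
      (Nat.not_even_iff_odd.1 h).neg_pow, neg_eq_iff_add_eq_zero, add_comm]

theorem order_dvd {t : ℕ} (ht : t.Prime) {c : ZMod t} (hc : c ≠ 0) : orderOf c ∣ t - 1 := by
  have := Fact.mk ht
  exact ZMod.orderOf_dvd_card_sub_one hc

theorem order_pos {t : ℕ} (ht : t.Prime) {c : ZMod t} (hc : c ≠ 0) : 0 < orderOf c := by
  have h := order_dvd ht hc
  have := ht.two_le
  exact Nat.pos_of_dvd_of_pos h (by omega)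

/-- the dimension of a smallest element -/
noncomputable def mm {t : ℕ} (c : ZMod t) : ℕ := max 2 (orderOf c)

theorem mm_le {t : ℕ} (ht : t.Prime) (h2 : t ≠ 2) {c : ZMod t} (hc : c ≠ 0) : mm c ≤ t - 1 := by
  have h1 := order_dvd ht hc
  have h3 := ht.two_le
  have h4 := Nat.le_of_dvd (by omega) h1
  rw [mm]
  omega

theorem pow_mm {t : ℕ} (ht : t.Prime) {c : ZMod t} (hc : c ≠ 0) : c ^ mm c = 1 := by
  have h0 := order_pos ht hc
  rw [mm]
  by_cases h1 : orderOf c = 1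
  · rw [orderOf_eq_one_iff] at h1
    rw [h1, one_pow]
  · rw [max_eq_right (by omega), pow_orderOf_eq_one]

theorem mm_le_of_pow {t n j : ℕ} {c : ZMod t} (hn : 2 ≤ n) (hj : 1 ≤ j) (hjn : j ≤ n)
    (h : c ^ j = 1) : mm c ≤ n := by
  have h1 := Nat.le_of_dvd (by omega) (orderOf_dvd_of_pow_eq_one h)
  rw [mm]
  omega

/-- `SL_n(q)` has an element of order `t` with commutator space of dimension at most `mm q` -/
theorem small_SL {n t : ℕ} (hn : 2 ≤ n) (ht : t.Prime) (htq : ¬ t ∣ Fintype.card F)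
    (h : t ∣ Nat.card (_root_.Matrix.SpecialLinearGroup (Fin n) F)) :
    ∃ z : _root_.Matrix.SpecialLinearGroup (Fin n) F, z ^ t = 1 ∧ z ≠ 1 ∧
      Module.finrank F (LinearMap.range (z.1.mulVecLin - 1)) ≤ mm (Fintype.card F : ZMod t) := by
  have hq : 1 ≤ Fintype.card F := Fintype.card_pos
  have hc : (Fintype.card F : ZMod t) ≠ 0 := by
    rw [Ne, ZMod.natCast_eq_zero_iff]; exact htq
  obtain ⟨j, hj, hjn, hd⟩ := exists_dvd_SL (by omega) ht htq h
  rw [dvd_iff_plus hq] at hd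
  refine exists_small_SL ht (mm_le_of_pow hn hj hjn hd) ?_
  refine dvd_trans ?_ (dvd_card_SL (le_max_left _ _))
  rw [dvd_iff_plus hq]
  exact pow_mm ht hc

/-- `SU_n(q)` has an element of order `t` with commutator space of dimension at most `mm (-q)` -/
theorem small_SU {n t q : ℕ} (hF : Fintype.card F = q ^ 2) (hn : 2 ≤ n) (ht : t.Prime) (htq : ¬ t ∣ q)
    (h : t ∣ Nat.card (SU n F q)) :
    ∃ z : SU n F q, z ^ t = 1 ∧ z ≠ 1 ∧
      Module.finrank F (LinearMap.range (z.1.1.mulVecLin - 1)) ≤ mm (-(q : ZMod t)) := by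
  have hq : 1 ≤ q := by
    rcases Nat.eq_zero_or_pos q with h0 | h0
    · rw [h0] at hF
      exact absurd hF (by rw [zero_pow two_ne_zero]; exact Fintype.card_ne_zero)
    · exact h0
  have hc : (-(q : ZMod t)) ≠ 0 := by
    rw [Ne, neg_eq_zero, ZMod.natCast_eq_zero_iff]; exact htq
  obtain ⟨j, hj, hjn, hd⟩ := exists_dvd_SU hF (by omega) ht htq h
  rw [dvd_iff_minus hq] at hd
  refine exists_small_SU ht (mm_le_of_pow hn hj hjn hd) ?_
  refine dvd_trans ?_ (dvd_card_SU hF (le_max_left _ _))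
  rw [dvd_iff_minus hq]
  exact pow_mm ht hc

end Cfsg.Agent.H556.HallOrd
end

-- part: H556/HallLB
section
/-!
# Lower bounds for the dimension of the commutator space of an element of prime order
-/

set_option autoImplicit false

namespace Cfsg.Agent.H556.HallLB

open Matrix Module Cfsg.Agent.H556.HallOrd
open Cfsg.Agent.LieClassical.HermBasic Cfsg.Agent.ClassicalGeometry

variable {F : Type*} [Field F]

section Lin
variable {V : Type*} [AddCommGroup V] [Module F V]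

theorem pow_apply_add {A : V →ₗ[F] V} {v w : V} (hw : A w = w) (hv : A v = v + w) (i : ℕ) :
    (A ^ i) v = v + (i : F) • w := by
  induction i with
  | zero => simp only [_root_.pow_zero, _root_.Module.End.one_apply, _root_.Nat.cast_zero, _root_.zero_smul, _root_.add_zero]
  | succ i ih =>
    rw [pow_succ', Module.End.mul_apply, ih, map_add, map_smul, hw, hv, Nat.cast_succ, add_smul, one_smul]
    abel

theorem eq_zero_of_fixed {A : V →ₗ[F] V} {s : ℕ} (hA : A ^ s = 1) (hs : (s : F) ≠ 0) {w : V}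
    (h : w ∈ LinearMap.range (A - 1)) (hw : A w = w) : w = 0 := by
  obtain ⟨v, rfl⟩ := h
  have h1 : A v = v + (A - 1) v := by
    rw [LinearMap.sub_apply, Module.End.one_apply]; abel
  have h2 := pow_apply_add hw h1 s
  rw [hA, Module.End.one_apply, left_eq_add, smul_eq_zero] at h2
  exact h2.resolve_left hs

theorem map_range {A : V →ₗ[F] V} {w : V} (h : w ∈ LinearMap.range (A - 1)) :
    A w ∈ LinearMap.range (A - 1) := by
  obtain ⟨v, rfl⟩ := h
  refine ⟨A v, ?_⟩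
  simp only [LinearMap.sub_apply, Module.End.one_apply, map_sub]

/-- the matrix of `A` on its commutator space in a basis -/
theorem exists_matrix {A : V →ₗ[F] V} {s k : ℕ} (hA : A ^ s = 1) (hs : (s : F) ≠ 0) (hA1 : A ≠ 1)
    (φ : (Fin k → F) ≃ₗ[F] LinearMap.range (A - 1)) :
    ∃ M : Matrix (Fin k) (Fin k) F, M ^ s = 1 ∧ M ≠ 1 ∧ ∀ u, (φ (M *ᵥ u) : V) = A (φ u) := by
  let B : LinearMap.range (A - 1) →ₗ[F] LinearMap.range (A - 1) := A.restrict fun w hw => map_range hw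
  let C : (Fin k → F) →ₗ[F] (Fin k → F) := φ.symm.toLinearMap ∘ₗ B ∘ₗ φ.toLinearMap
  have hC : ∀ u, (φ (C u) : V) = A (φ u) := by
    intro u
    simp only [C, LinearMap.comp_apply, LinearEquiv.coe_coe, LinearEquiv.apply_symm_apply]
    rfl
  have hCi : ∀ (i : ℕ) u, (φ ((C ^ i) u) : V) = (A ^ i) (φ u) := by
    intro i
    induction i with
    | zero => intro u; simp
    | succ i ih =>
      intro u
      rw [pow_succ', Module.End.mul_apply, hC, ih, pow_succ', Module.End.mul_apply]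
  refine ⟨LinearMap.toMatrix' C, ?_, ?_, ?_⟩
  · have h1 : C ^ s = 1 := by
      apply LinearMap.ext
      intro v
      apply φ.injective
      apply Subtype.ext
      rw [hCi s, hA]
      rfl
    have h2 : ∀ i : ℕ, LinearMap.toMatrix' C ^ i = LinearMap.toMatrix' (C ^ i) := by
      intro i
      induction i with
      | zero => rw [pow_zero, pow_zero, LinearMap.toMatrix'_one]
      | succ i ih => rw [pow_succ, pow_succ, ih, LinearMap.toMatrix'_mul]
    rw [h2, h1, LinearMap.toMatrix'_one]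
  · intro h
    have h1 : C = 1 := by
      apply LinearMap.toMatrix'.injective
      rw [h]
      exact (LinearMap.toMatrix'_one).symm
    apply hA1
    have h2 : ∀ w ∈ LinearMap.range (A - 1), w = 0 := by
      intro w hw
      apply eq_zero_of_fixed hA hs hw
      have h3 := hC (φ.symm ⟨w, hw⟩)
      rw [h1, Module.End.one_apply, LinearEquiv.apply_symm_apply] at h3
      exact h3.symm
    rw [← sub_eq_zero]
    ext1 v
    exact h2 _ ⟨v, rfl⟩
  · intro u
    rw [← hC, LinearMap.toMatrix'_mulVec]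

end Lin

theorem dvd_card_GL_of {k s : ℕ} (hs : s.Prime) {M : Matrix (Fin k) (Fin k) F} (hM : M ^ s = 1) (h1 : M ≠ 1)
    (S : Subgroup (GL (Fin k) F)) (hS : ∀ g : GL (Fin k) F, (g : Matrix (Fin k) (Fin k) F) = M → g ∈ S) :
    s ∣ Nat.card S := by
  have hs1 : s = s - 1 + 1 := by have := hs.two_le; omega
  let g : GL (Fin k) F := ⟨M, M ^ (s - 1), by rw [← pow_succ', ← hs1, hM], by rw [← pow_succ, ← hs1, hM]⟩
  have hg : g ^ s = 1 := Units.ext (by rw [Units.val_pow_eq_pow_val]; exact hM)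
  have hg1 : g ≠ 1 := fun h => h1 (congrArg Units.val h)
  let g' : S := ⟨g, hS g rfl⟩
  have := Fact.mk hs
  have ho : orderOf g' = s := orderOf_eq_prime (Subtype.ext hg) (fun h => hg1 (congrArg Subtype.val h))
  rw [← ho]
  exact orderOf_dvd_natCard g'

variable [Fintype F]

theorem ne_zero_of_not_dvd {s : ℕ} (hs : s.Prime) (h : ¬ s ∣ Fintype.card F) : (s : F) ≠ 0 := by
  intro h0
  obtain ⟨p, hp⟩ := CharP.exists F
  have h1 : p ∣ s := (CharP.cast_eq_zero_iff F p s).mp h0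
  have hp' : p.Prime := (CharP.char_is_prime_or_zero F p).resolve_right (CharP.char_ne_zero_of_finite F p)
  have h2 : p = s := (Nat.prime_dvd_prime_iff_eq hp' hs).1 h1
  rw [← h2] at h
  apply h
  rw [← CharP.cast_eq_zero_iff F p, FiniteField.cast_card_eq_zero]

/-- An element of prime order `s` of `GL_n(q)` has commutator space of dimension at least the order of `q`
modulo `s`. -/
theorem lb_lin {V : Type*} [AddCommGroup V] [Module F V] [FiniteDimensional F V] {A : V →ₗ[F] V} {s : ℕ}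
    (hs : s.Prime) (hsq : ¬ s ∣ Fintype.card F) (hA : A ^ s = 1) (hA1 : A ≠ 1) :
    orderOf (Fintype.card F : ZMod s) ≤ finrank F (LinearMap.range (A - 1)) := by
  obtain ⟨M, hM, hM1, -⟩ := exists_matrix hA (ne_zero_of_not_dvd hs hsq) hA1
    (LinearEquiv.ofFinrankEq (Fin (finrank F (LinearMap.range (A - 1))) → F) _ (by simp only [_root_.Module.finrank_fintype_fun_eq_card, _root_.Fintype.card_fin]))
  have h1 := dvd_card_GL_of hs hM hM1 ⊤ (fun _ _ => Subgroup.mem_top _)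
  rw [Subgroup.card_top] at h1
  obtain ⟨j, hj, hjk, hd⟩ := exists_dvd_GL hs hsq h1
  rw [dvd_iff_plus Fintype.card_pos] at hd
  exact (Nat.le_of_dvd (by omega) (orderOf_dvd_of_pow_eq_one hd)).trans hjk

/-- The commutator space of an isometry of order prime to the characteristic is nondegenerate. -/
theorem range_nondeg {n q s : ℕ} (hF : Fintype.card F = q ^ 2) {A : (Fin n → F) →ₗ[F] (Fin n → F)}
    (hA : A ^ s = 1) (hs0 : s ≠ 0) (hs : (s : F) ≠ 0)
    (hiso : ∀ u v, hermForm n F q (A u) (A v) = hermForm n F q u v) :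
    ∀ u ∈ LinearMap.range (A - 1), (∀ v ∈ LinearMap.range (A - 1), hermForm n F q u v = 0) → u = 0 := by
  intro u hu h
  apply eq_zero_of_fixed hA hs hu
  rw [← sub_eq_zero]
  refine herm_nondeg hF fun x => ?_
  -- `h(A u - u, x) = h(u, A⁻¹ x - x)`
  obtain ⟨y, rfl⟩ : ∃ y, A y = x := by
    refine ⟨(A ^ (s - 1)) x, ?_⟩
    rw [← Module.End.mul_apply, ← pow_succ', Nat.sub_add_cancel (Nat.one_le_iff_ne_zero.2 hs0), hA,
      Module.End.one_apply]
  rw [herm_sub_left, hiso]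
  have h1 := h ((A - 1) y) ⟨y, rfl⟩
  rw [LinearMap.sub_apply, Module.End.one_apply, herm_sub_right hF, sub_eq_zero] at h1
  rw [h1, sub_self]

theorem lb_unit {n q s : ℕ} (hF : Fintype.card F = q ^ 2) {A : (Fin n → F) →ₗ[F] (Fin n → F)}
    (hs : s.Prime) (hsq : ¬ s ∣ q) (hA : A ^ s = 1) (hA1 : A ≠ 1)
    (hiso : ∀ u v, hermForm n F q (A u) (A v) = hermForm n F q u v) :
    orderOf (-(q : ZMod s)) ≤ finrank F (LinearMap.range (A - 1)) := by
  have hsF : ¬ s ∣ Fintype.card F := by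
    rw [hF]; exact fun h => hsq (hs.dvd_of_dvd_pow h)
  have hs0 := ne_zero_of_not_dvd hs hsF
  have hnd := range_nondeg hF hA hs.ne_zero hs0 hiso
  obtain ⟨b, hbW, hb⟩ := HermOrtho.exists_orthonormal hF _ hnd rfl
  have hk : finrank F (LinearMap.range (A - 1)) = Fintype.card (Fin (finrank F (LinearMap.range (A - 1)))) := by
    simp only [_root_.Fintype.card_fin]
  have hli := HermOrtho.linearIndependent_of_orthonormal hb
  let b' : Fin (finrank F (LinearMap.range (A - 1))) → LinearMap.range (A - 1) := fun i => ⟨b i, hbW i⟩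
  have hli' : LinearIndependent F b' := by
    apply LinearIndependent.of_comp (LinearMap.range (A - 1)).subtype
    exact hli
  let B : Basis (Fin (finrank F (LinearMap.range (A - 1)))) F (LinearMap.range (A - 1)) :=
    basisOfLinearIndependentOfCardEqFinrank' b' hli' (Fintype.card_fin _)
  have hB : ∀ i, B i = b' i := fun i => by
    rw [show B = basisOfLinearIndependentOfCardEqFinrank' b' hli' (Fintype.card_fin _) from rfl,
      coe_basisOfLinearIndependentOfCardEqFinrank']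
  have hφ : ∀ u, ((B.equivFun.symm u : LinearMap.range (A - 1)) : Fin n → F) = ∑ i, u i • b i := by
    intro u
    rw [Basis.equivFun_symm_apply]
    push_cast
    refine Finset.sum_congr rfl fun i _ => ?_
    rw [hB]
  obtain ⟨M, hM, hM1, hMφ⟩ := exists_matrix hA hs0 hA1 B.equivFun.symm
  have hform : ∀ u v, hermForm n F q (B.equivFun.symm u : LinearMap.range (A - 1))
      (B.equivFun.symm v : LinearMap.range (A - 1)) = hermForm _ F q u v := by
    intro u v
    rw [hφ, hφ, herm_sum_right hF, herm_def]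
    refine Finset.sum_congr rfl fun j _ => ?_
    rw [herm_smul_right, HermOrtho.herm_sum_smul_left hb, mul_comm]
  have h1 : s ∣ Nat.card (GU (finrank F (LinearMap.range (A - 1))) F q) := by
    apply dvd_card_GL_of hs hM hM1
    intro g hg u v
    rw [Units.coeHom_apply, hg, ← hform, hMφ, hMφ, hiso, hform]
  obtain ⟨j, hj, hjk, hd⟩ := exists_dvd_GU hF hs hsq h1
  have hq : 1 ≤ q := q_pos hF
  rw [dvd_iff_minus hq] at hd
  exact (Nat.le_of_dvd (by omega) (orderOf_dvd_of_pow_eq_one hd)).trans hjk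

end Cfsg.Agent.H556.HallLB
end

private theorem dce_14627d4d8736 : _root_.True := by
  try have : _root_.True := by simp only [_root_.Cfsg.hermForm.eq_1]
  try have : _root_.True := by simp only [_root_.Cfsg.Agent.H556.HallOrd.mm.eq_1]
  try have : _root_.True := by simp only [_root_.Cfsg.Agent.H556.HallEmb.E.eq_1]
  exact _root_.True.intro
end

-- part: H565/NoMinExc
section
set_option linter.all false
open scoped Cfsg.Agent.FastGrp

-- part: H565/NoMinTor
section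
/-!
# `t`-elements acting on toral `s`-subgroups of groups of exceptional Lie type

`f : G →* D.group k` injective, `k` algebraically closed, locally finite of characteristic `r`, `G` finite.

* `comm_of_toral` : if `t ∤ |W|`, a `t`-element normalising a toral subgroup centralises it;
* `noMin_of_not_dvd` : `s ∤ |W|`, `t ∤ |W|`, `s ≠ r` imply `NoMin s t G`;
* `not_comm_of_minD` : `s ^ 2 ∤ |W|`, `Tors`, `t ∤ |W|`, `s ≠ r`: a `MinD s t y D` is nonabelian.
-/

set_option autoImplicit false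
set_option linter.unusedSectionVars false

namespace Cfsg.Agent.H565.NM

open CoxeterSystem Cfsg Cfsg.Lie Cfsg.Lie.ChevalleyDatum
open Cfsg.Agent.ChevalleyStructure Cfsg.Agent.ChevalleyStructure.Elts Cfsg.Agent.ChevalleyStructure.CoxeterGeom
  Cfsg.Agent.ChevalleyStructure.CoxeterGeomTypes Cfsg.Agent.ChevalleyStructure.NPerm
open Cfsg.Agent.Tits.Roots Cfsg.Agent.Tits.Core Cfsg.Agent.Nodes Cfsg.Agent.Nodes.Reps Cfsg.Agent.Nodes.BNOf
  Cfsg.Agent.Nodes.RGDChev Cfsg.Agent.Nodes.Bruhat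
open Cfsg.Agent.KFacts.RgdField Cfsg.Agent.KFacts.RgdChevCoord Cfsg.Agent.BpExc.TorCent Cfsg.Agent.BpExc.TorChev
open Cfsg.Agent.GpExc.Field Cfsg.Agent.BpExc.Tow Cfsg.Agent.BpExc.TowChev Cfsg.Agent.BpExc.Fr
  Cfsg.Agent.BpExc.LangFr Cfsg.Agent.H795.SetCent Cfsg.Agent.H795.SetTor Cfsg.Agent.H167.OP

universe u

variable {D : ChevalleyDatum} {l : ℕ} {M : CoxeterMatrix (Fin l)} (hp : IsType D l M)
  (r : ℕ) [Fact r.Prime] {k : Type u} [Field k] [CharP k r]

theorem rp_pow {J : Type*} [Preorder J] {I W Y : Type*} [Fintype I] [DecidableEq I] [Group W] [Group Y]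
    {M : CoxeterMatrix I} {cs : CoxeterSystem M W} {T : Subgroup Y} {n : I → Y} {hN : NSys M T n} {w : W} {g : Y}
    (h : Rp cs hN w g) (m : ℕ) : Rp cs hN (w ^ m) (g ^ m) := by
  induction m with
  | zero => rw [pow_zero, pow_zero]; exact rp_one
  | succ m ih => rw [pow_succ, pow_succ]; exact ih.mul h

include hp r in
/-- **A `t`-element normalising a toral subgroup centralises it.** -/
theorem comm_of_toral (hk : LocFin k) {G : Type*} [Group G] [Finite G] {f : G →* ↥(D.group k)}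
    (hf : Function.Injective f) {t : ℕ} (ht : t.Prime) (hW : ¬ t ∣ Nat.card M.Group) {y : G} {B : Subgroup G}
    (hy : ∃ j : ℕ, y ^ t ^ j = 1) (hn : Nrm y B) {g : ↥(D.group k)} (hg : ∀ x ∈ B, g * f x * g⁻¹ ∈ TT D k) :
    Cen y B := by
  classical
  have hWf := finite_W hp (M.toCoxeterSystem)
  have H := tow hp M.toCoxeterSystem hk r
  have C : Coords M.toCoxeterSystem hp.isCartan (TL (Tj hp (k := k))) (nc hp k) (XL (Xj hp)) (xc hp) (ch hp) := by
    rw [TL_eq hp hk, XL_eq hp hk]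
    exact coordsL hp M.toCoxeterSystem hk r
  have hGt := GG_eq_top hp M.toCoxeterSystem hk
  set c := g * f y * g⁻¹ with hc
  obtain ⟨m, -, w, n, hn', hnk, -⟩ := exists_formZ H C (ι := B) (s := fun b => g * f b * g⁻¹)
    (t := fun b => g * f (y * b * y⁻¹) * g⁻¹) (c := c) (fun b => by
      rw [TL_eq hp hk]
      exact hg _ b.2) (fun b => by
      rw [TL_eq hp hk]
      exact hg _ (hn _ b.2)) (by rw [hGt]; exact Subgroup.mem_top c) (fun b => by
      rw [hc, map_mul, map_mul, map_inv]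
      group)
  -- powers of `n`
  have hpow : ∀ j : ℕ, ∀ b ∈ B, n ^ j * (g * f b * g⁻¹) = (g * f (y ^ j * b * (y ^ j)⁻¹) * g⁻¹) * n ^ j := by
    intro j
    induction j with
    | zero => intro b hb; simp
    | succ j ih =>
      intro b hb
      have h1 : y ^ j * b * (y ^ j)⁻¹ ∈ B := nrm_pow' hn j b hb
      have h2 := hnk ⟨_, h1⟩
      have e : y ^ (j + 1) * b * (y ^ (j + 1))⁻¹ = y * (y ^ j * b * (y ^ j)⁻¹) * y⁻¹ := by
        rw [pow_succ']; group
      have h3 : n * (g * f (y ^ j * b * (y ^ j)⁻¹) * g⁻¹) =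
        (g * f (y * (y ^ j * b * (y ^ j)⁻¹) * y⁻¹) * g⁻¹) * n := h2
      calc n ^ (j + 1) * (g * f b * g⁻¹) = n * (n ^ j * (g * f b * g⁻¹)) := by rw [pow_succ', mul_assoc]
        _ = (n * (g * f (y ^ j * b * (y ^ j)⁻¹) * g⁻¹)) * n ^ j := by rw [ih b hb, mul_assoc n]
        _ = (g * f (y * (y ^ j * b * (y ^ j)⁻¹) * y⁻¹) * g⁻¹) * (n * n ^ j) := by
          rw [h3, mul_assoc _ n]
        _ = _ := by rw [e, ← pow_succ']
  intro b hb
  obtain ⟨j, hj⟩ := hy
  -- `n ^ |W|` lies in the torus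
  have h1 : n ^ Nat.card M.Group ∈ TT D k := by
    have h2 := rp_pow (J := Subfield k) hn' (Nat.card M.Group)
    rw [pow_card_eq_one'] at h2
    have h3 := h2.mem_of_one
    rwa [TL_eq hp hk] at h3
  have h2 := hpow (Nat.card M.Group) b hb
  have h3 := TT_comm hp _ h1 _ (hg b hb)
  rw [h3] at h2
  have h4 := mul_right_cancel h2
  have h5 : f b = f (y ^ Nat.card M.Group * b * (y ^ Nat.card M.Group)⁻¹) :=
    mul_left_cancel (mul_right_cancel h4)
  have h6 := hf h5
  have h7 : y ^ Nat.card M.Group ∈ Subgroup.centralizer ({b} : Set G) := by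
    rw [Subgroup.mem_centralizer_singleton_iff]
    conv_rhs => rw [h6]
    group
  have h8 : y ^ t ^ j ∈ Subgroup.centralizer ({b} : Set G) := by
    rw [hj]; exact one_mem _
  have h9 := mem_of_pow_mem_coprime h7 h8
    (Nat.Coprime.pow_right j (((Nat.Prime.coprime_iff_not_dvd ht).2 hW).symm))
  exact Subgroup.mem_centralizer_singleton_iff.1 h9

variable [IsAlgClosed k]

include hp in
theorem exists_g_of_not_dvd (hk : LocFin k) {G : Type*} [Group G] [Finite G] (f : G →* ↥(D.group k)) {s : ℕ}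
    (hs : s.Prime) (hsr : s ≠ r) (hW : ¬ s ∣ Nat.card M.Group) {B : Subgroup G} (hB : IsPGroup s B) :
    ∃ g : ↥(D.group k), ∀ x ∈ B, g * f x * g⁻¹ ∈ TT D k := by
  have hfin : Finite ↥(B.map f) :=
    Finite.of_surjective (fun u : B => (⟨f u, ⟨u, u.2, rfl⟩⟩ : ↥(B.map f))) (by
      rintro ⟨_, ⟨u, hu, rfl⟩⟩
      exact ⟨⟨u, hu⟩, rfl⟩)
  obtain ⟨g, hg⟩ := H795.TorSub.exists_toral_of_not_dvd hp r hk hs hsr hW (Q := B.map f) (hB.map f)
  exact ⟨g, fun x hx => hg _ ⟨x, hx, rfl⟩⟩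

include hp in
theorem exists_g_of_abelian (hk : LocFin k) {G : Type*} [Group G] [Finite G] (f : G →* ↥(D.group k)) {s : ℕ}
    (hs : s.Prime) (hsr : s ≠ r) (hW : ¬ s ^ 2 ∣ Nat.card M.Group) (hT : Tors M.toCoxeterSystem hp.isCartan s)
    {B : Subgroup G} (hB : IsPGroup s B) (hab : ∀ a ∈ B, ∀ b ∈ B, a * b = b * a) :
    ∃ g : ↥(D.group k), ∀ x ∈ B, g * f x * g⁻¹ ∈ TT D k := by
  have hfin : Finite ↥(B.map f) :=
    Finite.of_surjective (fun u : B => (⟨f u, ⟨u, u.2, rfl⟩⟩ : ↥(B.map f))) (by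
      rintro ⟨_, ⟨u, hu, rfl⟩⟩
      exact ⟨⟨u, hu⟩, rfl⟩)
  obtain ⟨g, hg⟩ := H795.TorSub.exists_toral_abelian hp r hk hs hsr hW hT (S := B.map f) (hB.map f) (by
      rintro _ ⟨a, ha, rfl⟩ _ ⟨b, hb, rfl⟩
      rw [← map_mul, ← map_mul, hab a ha b hb])
  exact ⟨g, fun x hx => hg _ ⟨x, hx, rfl⟩⟩

include hp in
/-- **`s` and `t` do not divide `|W|`.** -/
theorem noMin_of_not_dvd (hk : LocFin k) {G : Type*} [Group G] [Finite G] {f : G →* ↥(D.group k)}
    (hf : Function.Injective f) {s t : ℕ} (hsr : s ≠ r) (hs : ¬ s ∣ Nat.card M.Group) (ht : ¬ t ∣ Nat.card M.Group) :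
    NoMin s t G := by
  intro y B h
  have : Fact s.Prime := ⟨h.hs⟩
  obtain ⟨g, hg⟩ := exists_g_of_not_dvd hp r hk f h.hs hsr hs h.isPGroup
  exact h.ncen (comm_of_toral hp r hk hf h.ht ht h.hy h.nrm hg)

include hp in
/-- **`s ^ 2` and `t` do not divide `|W|`.** -/
theorem not_comm_of_minD (hk : LocFin k) {G : Type*} [Group G] [Finite G] {f : G →* ↥(D.group k)}
    (hf : Function.Injective f) {s t : ℕ} (hsr : s ≠ r) (hs : ¬ s ^ 2 ∣ Nat.card M.Group)
    (hT : Tors M.toCoxeterSystem hp.isCartan s) (ht : ¬ t ∣ Nat.card M.Group) {y : G} {B : Subgroup G}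
    (h : MinD s t y B) : ¬ ∀ a ∈ B, ∀ b ∈ B, a * b = b * a := by
  intro hab
  have : Fact s.Prime := ⟨h.hs⟩
  obtain ⟨g, hg⟩ := exists_g_of_abelian hp r hk f h.hs hsr hs hT h.isPGroup hab
  exact h.ncen (comm_of_toral hp r hk hf h.ht ht h.hy h.nrm hg)

end Cfsg.Agent.H565.NM
end

-- part: H565/TorIdx
section
/-!
# `q`-subgroups of groups of Lie type have toral subgroups of small index

`k` algebraically closed of characteristic `r`, locally finite, `q ≠ r` a prime, `q ^ (e + 1) ∤ |W|`: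

* `exists_toral_index` : every finite `q`-subgroup `Q` of `D.group k` has a subgroup `B`, `|Q : B| ∣ q ^ e`, conjugate
  into the torus;
* `minD_no_index` : a nonabelian `MinD s t y D`, `2 < s < t`, has no abelian subgroup of index dividing `s`;
* `noMin_of_sq_not_dvd` : `s ^ 2 ∤ |W|`, `Tors`, `t ∤ |W|`, `s ≠ r`, `2 < s < t` imply `NoMin s t G`.
-/

set_option autoImplicit false
set_option linter.unusedSectionVars false

namespace Cfsg.Agent.H565.NM

open Subgroup CoxeterSystem Cfsg Cfsg.Lie Cfsg.Lie.ChevalleyDatum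
open Cfsg.Agent.ChevalleyStructure Cfsg.Agent.ChevalleyStructure.Elts Cfsg.Agent.ChevalleyStructure.CoxeterGeom
  Cfsg.Agent.ChevalleyStructure.CoxeterGeomTypes Cfsg.Agent.ChevalleyStructure.NPerm
open Cfsg.Agent.Tits.Roots Cfsg.Agent.Tits.Core Cfsg.Agent.Nodes Cfsg.Agent.Nodes.Reps Cfsg.Agent.Nodes.BNOf
  Cfsg.Agent.Nodes.RGDChev Cfsg.Agent.Nodes.Bruhat Cfsg.Agent.Nodes.OppDec
open Cfsg.Agent.KFacts.RgdField Cfsg.Agent.KFacts.RgdChevCoord Cfsg.Agent.BpExc.TorCent Cfsg.Agent.BpExc.TorChev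
open Cfsg.Agent.CpAut.RgdFix Cfsg.Agent.CpAut.RgdSub Cfsg.Agent.KFacts.RgdDiag
open Cfsg.Agent.GpExc.Field Cfsg.Agent.BpExc.Tow Cfsg.Agent.BpExc.TowChev Cfsg.Agent.BpExc.TorAll
  Cfsg.Agent.BpExc.FamUntw Cfsg.Agent.BpExc.FamInst Cfsg.Agent.BpExc.LangFr
open Cfsg.Agent.CpAut.RgdUntw
open Cfsg.Agent.H795.SetCent Cfsg.Agent.H795.SetTor Cfsg.Agent.H795.TorCnt Cfsg.Agent.H795.TorSub
open Cfsg.Agent.H167.OP
open scoped commutatorElement Pointwise

universe u

/-- a `q`-group acting on a finite set of size not divisible by `q ^ (e + 1)` -/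
theorem exists_index_stabilizer {q e : ℕ} (hq : q.Prime) {Q X : Type*} [Group Q] [Finite Q] [Finite X] [MulAction Q X]
    (hQ : IsPGroup q Q) (hX : ¬ q ^ (e + 1) ∣ Nat.card X) : ∃ x : X, (MulAction.stabilizer Q x).index ∣ q ^ e := by
  classical
  have hfq : Fact q.Prime := ⟨hq⟩
  by_contra hcon
  push Not at hcon
  apply hX
  have : Fintype X := Fintype.ofFinite X
  have : Fintype (MulAction.orbitRel.Quotient Q X) := Fintype.ofFinite _
  rw [Nat.card_congr (MulAction.selfEquivSigmaOrbits Q X), Nat.card_sigma]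
  refine Finset.dvd_sum fun ω _ => ?_
  have h1 : Nat.card ↥(MulAction.orbit Q (Quotient.out ω)) = (MulAction.stabilizer Q (Quotient.out ω)).index :=
    (MulAction.index_stabilizer Q (Quotient.out ω)).symm
  rw [h1]
  obtain ⟨n, hn⟩ := hQ.index (MulAction.stabilizer Q (Quotient.out ω))
  have h2 := hcon (Quotient.out ω)
  rw [hn] at h2 ⊢
  apply pow_dvd_pow
  by_contra h3
  exact h2 (pow_dvd_pow q (by omega))

variable {D : ChevalleyDatum} {l : ℕ} {M : CoxeterMatrix (Fin l)} (hp : IsType D l M)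
  (r : ℕ) [Fact r.Prime] {k : Type u} [Field k] [CharP k r] [IsAlgClosed k]

include hp in
/-- **Toral subgroups of small index.** -/
theorem exists_toral_index (hk : LocFin k) {q e : ℕ} (hq : q.Prime) (hqr : q ≠ r)
    (hW : ¬ q ^ (e + 1) ∣ Nat.card M.Group) {Q : Subgroup ↥(D.group k)} [Finite ↥Q] (hQ : IsPGroup q ↥Q) :
    ∃ B ≤ Q, B.relIndex Q ∣ q ^ e ∧ ∃ g : ↥(D.group k), ∀ x ∈ B, g * x * g⁻¹ ∈ TT D k := by
  classical
  have hr : r.Prime := Fact.out
  have hfq : Fact q.Prime := ⟨hq⟩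
  have hWf := finite_W hp (M.toCoxeterSystem)
  obtain ⟨N, hN, hdN, hS, -⟩ := exists_level_EE hp r hk (Set.toFinite (Q : Set ↥(D.group k)))
    Set.finite_empty (Set.empty_subset _) (Nat.totient_pos.2 (pow_pos hq.pos (e + 1)))
  have hcop : r.Coprime (q ^ (e + 1)) := Nat.Coprime.pow_right _ ((Nat.coprime_primes hr hq).2 (Ne.symm hqr))
  have hN1 : r ^ N ≡ 1 [MOD q ^ (e + 1)] := by
    obtain ⟨d, rfl⟩ := hdN
    rw [pow_mul]
    have := (Nat.ModEq.pow_totient hcop).pow d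
    rwa [one_pow] at this
  have hfinN : Finite ↥(EE r N : Subfield k) := finite_EE r hN
  have : CharP ↥(EE r N : Subfield k) r := charP_fixF r _
  have hGfin : Finite ↥(D.group ↥(EE r N : Subfield k)) := finite_group
  have R := rgd (K := ↥(EE r N : Subfield k)) hp M.toCoxeterSystem r
  have hG := GG_top (K := ↥(EE r N : Subfield k)) hp M.toCoxeterSystem
  set f := emb hp.inList (EE r N : Subfield k).subtype with hf
  have hinj : Function.Injective f := emb_injective hp.inList _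
  have hQ' : IsPGroup q ↥(Q.comap f) := hQ.comap_of_injective f hinj
  -- the chambers
  have h1 := card_sylowZ_modEq R hG (B := ∅) (fun β hβ => absurd hβ (Set.notMem_empty β)) (k := q ^ (e + 1)) (fun a ha => by
    have h2 : (FB (∅ : Set (MulAut ↥(D.group ↥(EE r N : Subfield k))))) = ⊤ := by
      rw [eq_top_iff]
      intro y _ β hβ
      exact absurd hβ (Set.notMem_empty β)
    rw [h2, inf_top_eq, card_XX hp r M.toCoxeterSystem ha, card_EE r hN]
    exact hN1)
  have h2 : Nat.card {S : Sylow r ↥(D.group ↥(EE r N : Subfield k)) // ∀ β ∈ (∅ : Set (MulAut ↥(D.group ↥(EE r N : Subfield k)))), β • S = S} =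
      Nat.card (Sylow r ↥(D.group ↥(EE r N : Subfield k))) :=
    Nat.card_congr ⟨fun S => S.1, fun S => ⟨S, fun β hβ => absurd hβ (Set.notMem_empty β)⟩, fun _ => rfl, fun _ => rfl⟩
  rw [h2] at h1
  have h3 : ¬ q ^ (e + 1) ∣ Nat.card (Sylow r ↥(D.group ↥(EE r N : Subfield k))) := by
    intro hd
    exact hW (Nat.modEq_zero_iff_dvd.1 (h1.symm.trans (Nat.modEq_zero_iff_dvd.2 hd)))
  obtain ⟨S, hSf⟩ := exists_index_stabilizer hq (X := Sylow r ↥(D.group ↥(EE r N : Subfield k))) hQ' h3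
  set B' : Subgroup ↥(D.group ↥(EE r N : Subfield k)) := (MulAction.stabilizer ↥(Q.comap f) S).map (Q.comap f).subtype
    with hB'
  have hB'Q : B' ≤ Q.comap f := Subgroup.map_subtype_le _
  obtain ⟨g, hg⟩ := exists_conj_le_T R hG hq hqr (hQ'.to_le hB'Q) (S := S) (fun x hx => by
    obtain ⟨y, hy, rfl⟩ := hx
    exact hy)
  have hQr : (Q.comap f).map f = Q := by
    rw [Subgroup.map_comap_eq_self]
    exact fun x hx => hS hx
  refine ⟨B'.map f, ?_, ?_, f g, ?_⟩
  · rw [← hQr]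
    exact Subgroup.map_mono hB'Q
  · have h4 : B'.relIndex (Q.comap f) = (MulAction.stabilizer ↥(Q.comap f) S).index := by
      rw [hB', Subgroup.relIndex, Subgroup.subgroupOf, Subgroup.comap_map_eq_self_of_injective (Subgroup.subtype_injective _)]
    have h5 : (B'.map f).relIndex Q = B'.relIndex (Q.comap f) := by
      conv_lhs => rw [← hQr]
      rw [Subgroup.relIndex_map_map, (MonoidHom.ker_eq_bot_iff f).2 hinj, sup_bot_eq, sup_bot_eq]
    rw [h5, h4]
    exact hSf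
  · rintro _ ⟨y, hy, rfl⟩
    rw [← map_mul, ← map_inv, ← map_mul]
    exact emb_T hp _ ⟨_, hg y hy, rfl⟩

section NoIndex

variable {G : Type*} [Group G] {s t : ℕ} {y : G} {D : Subgroup G}

/-- **A nonabelian minimal noncentralised invariant subgroup has no abelian subgroup of index `s`.** -/
theorem minD_no_index [Finite G] (hs2 : 2 < s) (hst : s < t) (h : MinD s t y D)
    (hna : ¬ ∀ a ∈ D, ∀ b ∈ D, a * b = b * a) {B : Subgroup G} (hB : B ≤ D)
    (hab : ∀ a ∈ B, ∀ b ∈ B, a * b = b * a) : ¬ B.relIndex D ∣ s := by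
  classical
  intro hBs
  have hs := h.hs
  have ht := h.ht
  have hfs : Fact s.Prime := ⟨h.hs⟩
  have hP := h.isPGroup
  obtain ⟨K, hKD, hcy, hp, hcm, hK⟩ := exists_frat h
  set Z : Subgroup G := D ⊓ centralizer (D : Set G) with hZ
  have hZD : Z ≤ D := inf_le_left
  have hZc : ∀ z ∈ Z, ∀ d ∈ D, z * d = d * z := fun z hz d hd => (mem_centralizer_iff.1 hz.2 d hd).symm
  have hKZ : K ≤ Z := fun k hk => ⟨hKD.le hk, mem_centralizer_iff.2 fun d hd => (hK k hk d hd).symm⟩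
  have hcmZ : ∀ a ∈ D, ∀ b ∈ D, a * b * a⁻¹ * b⁻¹ ∈ Z := fun a ha b hb => hKZ (hcm a ha b hb)
  have hZn : Nrm y Z := by
    intro z hz
    refine ⟨h.nrm z hz.1, mem_centralizer_iff.2 fun d hd => ?_⟩
    have h1 : y⁻¹ * d * y⁻¹⁻¹ ∈ D := by
      have := (mem_normalizer_iff.1 (inv_mem (mem_normalizer_of_nrm h.nrm)) d).1 hd
      exact this
    have h2 := hZc z hz _ h1
    have h3 : y * (z * (y⁻¹ * d * y⁻¹⁻¹)) * y⁻¹ = y * ((y⁻¹ * d * y⁻¹⁻¹) * z) * y⁻¹ := by rw [h2]
    have e1 : y * (z * (y⁻¹ * d * y⁻¹⁻¹)) * y⁻¹ = (y * z * y⁻¹) * d := by group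
    have e2 : y * ((y⁻¹ * d * y⁻¹⁻¹) * z) * y⁻¹ = d * (y * z * y⁻¹) := by group
    rw [e1, e2] at h3
    exact h3.symm
  -- enlarge `B`
  set C : Subgroup G := B ⊔ Z with hC
  have hCD : C ≤ D := sup_le hB hZD
  have hCab : ∀ a ∈ C, ∀ b ∈ C, a * b = b * a := by
    have h1 : B ≤ centralizer (C : Set G) := by
      rw [le_centralizer_iff]
      exact sup_le (fun b hb => mem_centralizer_iff.2 fun c hc => hab c hc b hb) fun z hz =>
        mem_centralizer_iff.2 fun c hc => (hZc z hz c (hB hc)).symm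
    have h2 : C ≤ centralizer (C : Set G) := by
      refine sup_le h1 fun z hz => mem_centralizer_iff.2 fun c hc => (hZc z hz c (hCD hc)).symm
    intro a ha b hb
    exact (mem_centralizer_iff.1 (h2 ha) b hb).symm
  have hCs : C.relIndex D ∣ s := (relIndex_dvd_of_le_left D le_sup_left).trans hBs
  have hCne : ¬ D ≤ C := fun h1 => hna fun a ha b hb => hCab a (h1 ha) b (h1 hb)
  have hCi : C.relIndex D = s := by
    rcases (Nat.dvd_prime hs).1 hCs with h1 | h1
    · exact absurd (relIndex_eq_one.1 h1) hCne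
    · exact h1
  have hCnD : ∀ d ∈ D, ∀ n ∈ C, d * n * d⁻¹ ∈ C := by
    intro d hd n hn
    have h1 : d * n * d⁻¹ = (d * n * d⁻¹ * n⁻¹) * n := by group
    rw [h1]
    exact C.mul_mem (Subgroup.mem_sup_right (hcmZ d hd n (hCD hn))) hn
  -- the index of the center
  have hidx : Z.relIndex D ≤ s ^ 2 := by
    by_cases hn : Nrm y C
    · -- `C` is central
      have h1 : C ≤ Z := by
        intro c hc
        exact ⟨hCD hc, mem_centralizer_iff.2 fun d hd =>
          (h.central hCD (fun e => hCne e.ge) hn hCnD hc hd).symm⟩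
      have h2 : Z.relIndex D ≤ C.relIndex D :=
        Nat.le_of_dvd (by rw [hCi]; exact hs.pos) (relIndex_dvd_of_le_left D h1)
      rw [hCi] at h2
      exact h2.trans (Nat.le_self_pow (by norm_num) s)
    · set C' : Subgroup G := C.map (MulAut.conj y).toMonoidHom with hC'
      have hC'D : C' ≤ D := by
        rintro _ ⟨c, hc, rfl⟩
        exact h.nrm c (hCD hc)
      have hDD : D.map (MulAut.conj y).toMonoidHom = D := by
        apply Subgroup.eq_of_le_of_card_ge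
        · rintro _ ⟨c, hc, rfl⟩
          exact h.nrm c hc
        · rw [Subgroup.card_map_of_injective (MulAut.conj y).injective]
      have hC'i : C'.relIndex D = s := by
        rw [← hCi]
        conv_lhs => rw [← hDD]
        rw [hC', Subgroup.relIndex_map_map, (MonoidHom.ker_eq_bot_iff (MulAut.conj y).toMonoidHom).2
          (MulAut.conj y).injective, sup_bot_eq, sup_bot_eq]
      have hC'ab : ∀ a ∈ C', ∀ b ∈ C', a * b = b * a := by
        rintro _ ⟨a, ha, rfl⟩ _ ⟨b, hb, rfl⟩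
        rw [← map_mul, ← map_mul, hCab a ha b hb]
      have hsup : D ≤ C ⊔ C' := by
        have h1 : C.relIndex (C ⊔ C') * (C ⊔ C').relIndex D = s := by
          rw [Subgroup.relIndex_mul_relIndex _ _ _ le_sup_left (sup_le hCD hC'D), hCi]
        rcases (Nat.dvd_prime hs).1 (Dvd.intro _ h1) with h2 | h2
        · exfalso
          apply hn
          have h3 : C' ≤ C := le_sup_right.trans (relIndex_eq_one.1 h2)
          intro c hc
          exact h3 ⟨c, hc, rfl⟩
        · rw [h2] at h1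
          exact relIndex_eq_one.1 (Nat.eq_of_mul_eq_mul_left hs.pos (h1.trans (mul_one s).symm))
      have hle : C ⊓ C' ≤ Z := by
        rintro c ⟨hc, hc'⟩
        refine ⟨hCD hc, ?_⟩
        have h1 : C ⊔ C' ≤ centralizer {c} := sup_le
          (fun a ha => mem_centralizer_singleton_iff.2 (hCab a ha c hc))
          (fun a ha => mem_centralizer_singleton_iff.2 (hC'ab a ha c hc'))
        exact mem_centralizer_iff.2 fun d hd => mem_centralizer_singleton_iff.1 (h1 (hsup hd))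
      have h2 : Z.relIndex D ≤ (C ⊓ C').relIndex D := by
        refine Nat.le_of_dvd (Nat.pos_of_ne_zero ?_) (relIndex_dvd_of_le_left D hle)
        exact Subgroup.index_ne_zero_of_finite
      refine h2.trans ((Subgroup.relIndex_inf_le).trans ?_)
      rw [hCi, hC'i, pow_two]
  -- the conclusion
  have h1 := h.relIndex_modEq (X := Z) hZn hcmZ
  obtain ⟨n, hn⟩ := hP.index (Z.subgroupOf D)
  change Z.relIndex D = s ^ n at hn
  have h0 : n ≠ 0 := by
    rintro rfl
    rw [pow_zero, relIndex_eq_one] at hn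
    exact hna fun a ha b hb => hZc a (hn ha) b hb
  rw [hn] at hidx h1
  have h2 : n ≤ 2 := (Nat.pow_le_pow_iff_right hs.one_lt).1 hidx
  refine not_modEq_one hs2 hst ht hs (n := s ^ n) ?_ h1
  have h3 : n = 1 ∨ n = 2 := by omega
  rcases h3 with rfl | rfl
  · left; rw [pow_one]
  · right; rfl

end NoIndex

include hp in
/-- **`s ^ 2` and `t` do not divide `|W|`, `2 < s < t`.** -/
theorem noMin_of_sq_not_dvd (hk : LocFin k) {G : Type*} [Group G] [Finite G] {f : G →* ↥(D.group k)}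
    (hf : Function.Injective f) {s t : ℕ} (hs2 : 2 < s) (hst : s < t) (hsr : s ≠ r)
    (hs : ¬ s ^ 2 ∣ Nat.card M.Group)
    (hT : Tors M.toCoxeterSystem hp.isCartan s) (ht : ¬ t ∣ Nat.card M.Group) : NoMin s t G := by
  intro y B h
  have : Fact s.Prime := ⟨h.hs⟩
  have hna := not_comm_of_minD hp r hk hf hsr hs hT ht h
  have hfin : Finite ↥(B.map f) :=
    Finite.of_surjective (fun u : B => (⟨f u, ⟨u, u.2, rfl⟩⟩ : ↥(B.map f))) (by
      rintro ⟨_, ⟨u, hu, rfl⟩⟩
      exact ⟨⟨u, hu⟩, rfl⟩)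
  obtain ⟨A, hA, hAi, g, hg⟩ := exists_toral_index hp r hk (e := 1) h.hs hsr hs (Q := B.map f) (h.isPGroup.map f)
  have hAB : A.comap f ≤ B := by
    intro x hx
    obtain ⟨z, hz, e⟩ := hA hx
    rwa [← hf e]
  refine minD_no_index hs2 hst h hna (B := A.comap f) hAB (fun a ha b hb => ?_) ?_
  · have h1 := TT_comm hp _ (hg _ ha) _ (hg _ hb)
    have h2 : g * (f a * f b) * g⁻¹ = g * (f b * f a) * g⁻¹ := by
      calc g * (f a * f b) * g⁻¹ = (g * f a * g⁻¹) * (g * f b * g⁻¹) := by group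
        _ = (g * f b * g⁻¹) * (g * f a * g⁻¹) := h1
        _ = _ := by group
    have h3 := mul_left_cancel (mul_right_cancel h2)
    rw [← map_mul, ← map_mul] at h3
    exact hf h3
  · have hAr : (A.comap f).map f = A := by
      rw [Subgroup.map_comap_eq_self]
      exact hA.trans (Subgroup.map_le_range f B)
    have h5 : A.relIndex (B.map f) = (A.comap f).relIndex B := by
      conv_lhs => rw [← hAr]
      rw [Subgroup.relIndex_map_map, (MonoidHom.ker_eq_bot_iff f).2 hf, sup_bot_eq, sup_bot_eq]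
    rw [← h5, ← pow_one s]
    exact hAi

end Cfsg.Agent.H565.NM
end

-- part: H565/NoMinExc
section
/-!
# `NoMin s t` for exceptional groups of Lie type, `s` not the characteristic, `2 < s < t`

* `noMin_isoG2`, `noMin_iso3D4`, `noMin_iso2F4`, `noMin_isoTits`, `noMin_isoSuzuki`, `noMin_isoRee` : all `s`;
* `noMin_isoF4`, `noMin_isoE6`, `noMin_iso2E6` (`5 ≤ s`), `noMin_isoE7` (`5 ≤ s`, `11 ≤ t`), `noMin_isoE8` (`7 ≤ s`).
-/

set_option autoImplicit false
set_option linter.unusedSectionVars false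

namespace Cfsg.Agent.H565.NM

open Subgroup CoxeterSystem Cfsg Cfsg.Lie Cfsg.Lie.ChevalleyDatum
open Cfsg.Agent.Nodes.RGDChev Cfsg.Agent.H795.SetTor Cfsg.Agent.H795.RowsA Cfsg.Agent.H565.T3
  Cfsg.Agent.BpExc.RowsUntw Cfsg.Agent.H129.TorusChar Cfsg.Agent.GpExc.Field Cfsg.Agent.H720.TwFr Cfsg.Agent.BpExc

universe u

theorem noMin_intro {G : Type*} [Group G] {s t : ℕ} (h : s.Prime → t.Prime → NoMin s t G) : NoMin s t G :=
  fun y D hD => h hD.hs hD.ht y D hD

/-- cyclic `s`-subgroups -/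
theorem noMin_of_cyclic {G : Type*} [Group G] [Finite G] {s t : ℕ} (hs2 : 2 < s) (hst : s < t)
    (h : ∀ P : Subgroup G, IsPGroup s P → IsCyclic P) : NoMin s t G := by
  classical
  refine noMin_intro fun hs _ => noMin_of_rank hs2 hst ?_
  intro A _ hA
  have hAp : IsPGroup s A := fun e => ⟨1, by rw [pow_one]; exact Subtype.ext (hA e e.2)⟩
  have hc := h A hAp
  have := Fintype.ofFinite A
  have h1 := IsCyclic.card_pow_eq_one_le (α := A) (n := s) hs.pos
  have h2 : (Finset.univ.filter fun a : A => a ^ s = 1) = Finset.univ :=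
    Finset.filter_true_of_mem fun a _ => Subtype.ext (hA a a.2)
  rw [h2, Finset.card_univ, ← Nat.card_eq_fintype_card] at h1
  exact h1.trans (Nat.le_self_pow (by norm_num) s)

section Untw

variable {D : ChevalleyDatum} {l : ℕ} {M : CoxeterMatrix (Fin l)} (hp : IsType D l M)

include hp in
/-- the untwisted groups -/
theorem noMin_untw {F : Type u} [Field F] [Finite F] {s t : ℕ} (hsF : (s : F) ≠ 0) (hs2 : 2 < s) (hst : s < t)
    (hs : ¬ s ^ 2 ∣ Nat.card M.Group) (hT : Tors M.toCoxeterSystem hp.isCartan s) (ht : ¬ t ∣ Nat.card M.Group) :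
    NoMin s t ↥(D.group F) := by
  have := Fintype.ofFinite F
  obtain ⟨r, e, hr, hrF, hrk, he, hq', hk⟩ := H129.TorusUntw.exists_closure (F := F) rfl
  have hsr : s ≠ r := by
    rintro rfl
    exact hsF (CharP.cast_eq_zero F s)
  exact noMin_of_sq_not_dvd hp r hk (f := emb hp.inList (algebraMap F (AlgebraicClosure F)))
    (emb_injective hp.inList _) hs2 hst hsr hs hT ht

end Untw

section

variable {s t : ℕ}

theorem five_le_of (ht : t.Prime) (hs2 : 2 < s) (hst : s < t) : 5 ≤ t := by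
  by_contra h
  have : t = 4 := by omega
  rw [this] at ht
  exact absurd ht (by norm_num)

section Fld

variable {F : Type u} [Field F] [Finite F] (hsF : (s : F) ≠ 0) (hs2 : 2 < s) (hst : s < t)

include hsF hs2 hst

theorem noMin_g2 : NoMin s t ↥(chevG2.group F) := by
  refine noMin_intro fun hs ht => ?_
  obtain ⟨h1, h2⟩ := torsG2 g2T hs hs2
  exact noMin_untw g2T hsF hs2 hst h1 h2 (by rw [card_G2]; exact not_dvd_12 ht (five_le_of ht hs2 hst))

theorem noMin_f4 (h5 : 5 ≤ s) : NoMin s t ↥(chevF4.group F) := by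
  refine noMin_intro fun hs ht => ?_
  have := finW f4T
  have h := not_dvd_1152 hs h5
  rw [← card_F4] at h
  exact noMin_untw f4T hsF hs2 hst (fun h1 => h ((dvd_pow_self s two_ne_zero).trans h1)) (tors_of_not_dvd h)
    (by rw [card_F4]; exact not_dvd_1152 ht (by omega))

theorem noMin_e6 (h5 : 5 ≤ s) : NoMin s t ↥(chevE6.group F) := by
  refine noMin_intro fun hs ht => ?_
  obtain ⟨h1, h2⟩ := torsE6 e6T hs h5
  refine noMin_untw e6T hsF hs2 hst h1 h2 ?_
  rw [card_E6]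
  intro h
  have := dvd_51840 ht (by omega) h
  omega

theorem noMin_e7 (h5 : 5 ≤ s) (ht7 : 7 < t) : NoMin s t ↥(chevE7.group F) := by
  refine noMin_intro fun hs ht => ?_
  obtain ⟨h1, h2⟩ := torsE7 e7T hs h5
  refine noMin_untw e7T hsF hs2 hst h1 h2 ?_
  rw [card_E7]
  intro h
  have := dvd_2903040 ht (by omega) h
  omega

theorem noMin_e8 (h5 : 5 < s) : NoMin s t ↥(chevE8.group F) := by
  refine noMin_intro fun hs ht => ?_
  obtain ⟨h1, h2⟩ := torsE8 e8T hs (by omega) (by omega)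
  refine noMin_untw e8T hsF hs2 hst h1 h2 ?_
  rw [card_E8]
  intro h
  have h3 := dvd_696729600 ht (by omega) h
  have h4 : s = 6 := by omega
  rw [h4] at hs
  exact absurd hs (by norm_num)

end Fld

section Tw

variable {K : Type u} [Field K] [Fintype K] {q : ℕ} (hq : IsPrimePow q) (hsK : (s : K) ≠ 0) (hs2 : 2 < s) (hst : s < t)

include hq hsK hs2 hst

theorem noMin_3D4 (hK : Fintype.card K = q ^ 3) : NoMin s t ↥(twistedD4 K q) := by
  refine noMin_intro fun hs ht => ?_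
  obtain ⟨r, n, hr, hrF, hrk, hn0, hn, hk⟩ := H795.Tw.exists_closure_q three_ne_zero hq hK
  have hsr : s ≠ r := by
    rintro rfl
    exact hsK (CharP.cast_eq_zero K s)
  obtain ⟨h1, h2⟩ := torsD4 hp4 hs hs2
  exact noMin_of_sq_not_dvd hp4 r hk (f := em4 (algebraMap K (AlgebraicClosure K)) (tw4_le hq hK))
    (em4_injective _ _) hs2 hst hsr h1 h2 (by rw [card_D4]; exact not_dvd_192 ht (five_le_of ht hs2 hst))

theorem noMin_2E6 (hK : Fintype.card K = q ^ 2) (h5 : 5 ≤ s) : NoMin s t ↥(twistedE6 K q) := by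
  refine noMin_intro fun hs ht => ?_
  obtain ⟨r, n, hr, hrF, hrk, hn0, hn, hk⟩ := H795.Tw.exists_closure_q two_ne_zero hq hK
  have hsr : s ≠ r := by
    rintro rfl
    exact hsK (CharP.cast_eq_zero K s)
  obtain ⟨h1, h2⟩ := torsE6 hp6 hs h5
  refine noMin_of_sq_not_dvd hp6 r hk (f := em6 q (algebraMap K (AlgebraicClosure K)))
    (FamTw.Six.em_injective _) hs2 hst hsr h1 h2 ?_
  rw [card_E6]
  intro h
  have := dvd_51840 ht (by omega) h
  omega

end Tw

/-- `²F₄(q)`, `q = 2 ^ (2 * m + 1)`, `m = 0` included -/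
theorem noMin_2F4 {K : Type u} [Field K] [Fintype K] {m : ℕ} (hK : Fintype.card K = 2 ^ (2 * m + 1)) (hs2 : 2 < s)
    (hst : s < t) : NoMin s t ↥(Lie.twistedF4 K (2 ^ m)) := by
  refine noMin_intro fun hs ht => ?_
  have hch := Cfsg.Agent.ChevalleyStructure.TwF4.Twisted.charP_two hK
  have hfin := H42.Tw.finite_tw (K := K) (2 ^ m)
  by_cases h3 : s = 3
  · subst h3
    exact noMin_of_rank hs2 hst (F4R.prankLE_three_twF4 hK)
  have h5 : 5 ≤ s := by
    by_contra h
    have : s = 4 := by omega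
    rw [this] at hs
    exact absurd hs (by norm_num)
  have h1 := H42.Tw.charP_closure (K := K)
  have h2 := H42.Tw.locFin_closure (K := K)
  have : Fact (Nat.Prime 2) := ⟨Nat.prime_two⟩
  exact noMin_of_not_dvd f4T 2 h2 (f := H42.Tw.jj (algebraMap K (AlgebraicClosure K)) (2 ^ m))
    (H42.Tw.jj_injective _ _) (by omega) (by rw [card_F4]; exact not_dvd_1152 hs h5)
    (by rw [card_F4]; exact not_dvd_1152 ht (by omega))

/-! ### the predicates -/

variable {G : Type*} [Group G] [Finite G] (hs2 : 2 < s) (hst : s < t)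

include hs2 hst

theorem noMin_iso2F4 (h : Lie.Iso2F4 G) : NoMin s t G := by
  obtain ⟨K, _, _, m, _, hK, ⟨e⟩⟩ := h
  exact (noMin_2F4 hK hs2 hst).of_equiv e

theorem noMin_isoTits (h : Lie.IsoTits G) : NoMin s t G := by
  obtain ⟨e⟩ := h
  have h1 : NoMin s t ↥(Lie.twistedF4 (ZMod 2) 1) :=
    noMin_2F4 (K := ZMod 2) (m := 0) (by rw [ZMod.card]; norm_num) hs2 hst
  exact NoMin.of_injective e.toMonoidHom e.injective (h1.subgroup _)

theorem noMin_isoSuzuki (h : Lie.IsoSuzuki G) : NoMin s t G :=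
  noMin_intro fun hs _ => by
    have : Fact s.Prime := ⟨hs⟩
    exact noMin_of_cyclic hs2 hst fun P hP => OddRank.SzTits.isCyclic_of_isPGroup h (by omega) P hP

theorem noMin_isoRee (h : Lie.IsoRee G) (hs3 : s ≠ 3) : NoMin s t G :=
  noMin_intro fun hs _ => by
    have : Fact s.Prime := ⟨hs⟩
    exact noMin_of_cyclic hs2 hst fun P hP => H42.Tw.cyclic_ree h (by omega) P hP

end

end Cfsg.Agent.H565.NM
end
end

-- part: H565/OddBorel
section
set_option linter.all false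
open scoped Cfsg.Agent.FastGrp

/-!
# Overgroups of odd order of the Sylow `p`-subgroups of a group of Lie type in characteristic `p`

* `OddLe p G` : every subgroup of odd order containing a Sylow `p`-subgroup `S` normalises `S`;
  `oddLe_of_lie` : all groups of Lie type in odd characteristic `p`;
* `BorelSolv p G` : `N_G(S)` is solvable for every Sylow `p`-subgroup `S`; `borelSolv_of_lie`;
* `conj_of_hall` : `OddLe p G`, `BorelSolv p G`, `2 ∉ π`, `p ∈ π`: Hall `π`-subgroups are conjugate;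
* `conj_of_lie` : the same for groups of Lie type in characteristic `p`.
-/

set_option autoImplicit false
set_option linter.unusedSectionVars false

namespace Cfsg.Agent.H565.OddBorel

open Cfsg Subgroup
open scoped Pointwise

/-- Subgroups of odd order containing a Sylow `p`-subgroup `S` normalise `S`. -/
def OddLe (p : ℕ) (G : Type*) [Group G] : Prop :=
  ∀ (S : Sylow p G) (H : Subgroup G), (S : Subgroup G) ≤ H → Odd (Nat.card H) →
    H ≤ normalizer ((S : Subgroup G) : Set G)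

/-- The normalisers of the Sylow `p`-subgroups are solvable. -/
def BorelSolv (p : ℕ) (G : Type*) [Group G] : Prop :=
  ∀ S : Sylow p G, Group.IsSolvable ↥(normalizer ((S : Subgroup G) : Set G))

theorem mem_conj_iff {p : ℕ} {G : Type*} [Group G] {S Q : Sylow p G} {k : G} (hk : k • S = Q) (y : G) :
    y ∈ (S : Subgroup G) ↔ k * y * k⁻¹ ∈ (Q : Subgroup G) := by
  rw [← hk, Sylow.coe_subgroup_smul]
  constructor
  · intro hy
    exact ⟨y, hy, rfl⟩
  · rintro ⟨z, hz, hz'⟩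
    have : z = y := mul_left_cancel (mul_right_cancel (show k * z * k⁻¹ = k * y * k⁻¹ from hz'))
    rw [← this]
    exact hz

theorem mem_normalizer_conj_iff {p : ℕ} {G : Type*} [Group G] {S Q : Sylow p G} {k : G} (hk : k • S = Q) (g : G) :
    g ∈ normalizer ((S : Subgroup G) : Set G) ↔ k * g * k⁻¹ ∈ normalizer ((Q : Subgroup G) : Set G) := by
  rw [mem_normalizer_iff, mem_normalizer_iff]
  constructor
  · intro h y
    have h1 := h (k⁻¹ * y * k)
    rw [mem_conj_iff hk, mem_conj_iff hk] at h1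
    have e1 : k * (k⁻¹ * y * k) * k⁻¹ = y := by group
    have e2 : k * (g * (k⁻¹ * y * k) * g⁻¹) * k⁻¹ = k * g * k⁻¹ * y * (k * g * k⁻¹)⁻¹ := by group
    rwa [e1, e2] at h1
  · intro h y
    have h1 := h (k * y * k⁻¹)
    rw [mem_conj_iff hk, mem_conj_iff hk]
    have e2 : k * (g * y * g⁻¹) * k⁻¹ = k * g * k⁻¹ * (k * y * k⁻¹) * (k * g * k⁻¹)⁻¹ := by group
    rwa [e2]

/-- One Sylow subgroup suffices. -/
theorem OddLe.of_one {p : ℕ} [Fact p.Prime] {G : Type*} [Group G] [Finite G] (Q : Sylow p G)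
    (h : ∀ H : Subgroup G, (Q : Subgroup G) ≤ H → Odd (Nat.card H) →
      H ≤ normalizer ((Q : Subgroup G) : Set G)) : OddLe p G := by
  intro S H hSH hodd
  obtain ⟨k, hk⟩ := MulAction.exists_smul_eq G S Q
  have h1 := h (H.map (MulAut.conj k).toMonoidHom) (by
    intro y hy
    refine ⟨k⁻¹ * y * k, hSH ?_, ?_⟩
    · rw [mem_conj_iff hk]
      have e1 : k * (k⁻¹ * y * k) * k⁻¹ = y := by group
      rwa [e1]
    · show k * (k⁻¹ * y * k) * k⁻¹ = y
      group) (by rwa [H164.card_map_conj])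
  intro g hg
  rw [mem_normalizer_conj_iff hk]
  exact h1 ⟨g, hg, rfl⟩

theorem BorelSolv.of_one {p : ℕ} [Fact p.Prime] {G : Type*} [Group G] [Finite G] (Q : Sylow p G)
    (h : Group.IsSolvable ↥(normalizer ((Q : Subgroup G) : Set G))) : BorelSolv p G := by
  intro S
  obtain ⟨k, hk⟩ := MulAction.exists_smul_eq G S Q
  let f : ↥(normalizer ((S : Subgroup G) : Set G)) →* ↥(normalizer ((Q : Subgroup G) : Set G)) :=
    { toFun := fun g => ⟨k * g * k⁻¹, (mem_normalizer_conj_iff hk _).1 g.2⟩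
      map_one' := Subtype.ext (by simp)
      map_mul' := fun a b => Subtype.ext (by
        show k * ((a * b : ↥(normalizer ((S : Subgroup G) : Set G))) : G) * k⁻¹ = k * a * k⁻¹ * (k * b * k⁻¹)
        rw [Subgroup.coe_mul]
        group) }
  have hf : Function.Injective f := by
    intro a b hab
    have h1 : k * (a : G) * k⁻¹ = k * (b : G) * k⁻¹ := congrArg Subtype.val hab
    exact Subtype.ext (mul_left_cancel (mul_right_cancel h1))
  exact Group.isSolvable_of_isSolvable_injective hf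

/-- An element of odd order whose square lies in `T` lies in `T`. -/
theorem mem_of_sq_mem {G : Type*} [Group G] {T P : Subgroup G} (hodd : Odd (Nat.card P)) {k : G}
    (hk : k ∈ P) (h2 : k * k ∈ T) : k ∈ T := by
  obtain ⟨j, hj⟩ := hodd
  have h4 : k ^ Nat.card P = 1 := congrArg Subtype.val (pow_card_eq_one' (x := (⟨k, hk⟩ : P)))
  rw [hj] at h4
  have h5 : k = (k * k) ^ (j + 1) := by
    rw [← pow_two, ← pow_mul, show 2 * (j + 1) = (2 * j + 1) + 1 by ring, pow_succ, h4, one_mul]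
  rw [h5]
  exact pow_mem h2 _

section Rgd

open CoxeterSystem Cfsg.Agent.ChevalleyStructure.CoxeterGeom Cfsg.Agent.Tits.Roots Cfsg.Agent.Tits.Core
  Cfsg.Agent.Tits.Exchange Cfsg.Agent.Nodes.Reps Cfsg.Agent.Nodes.BNOf Cfsg.Agent.Nodes.StabComb
  Cfsg.Agent.Nodes.Bruhat Cfsg.Agent.Nodes.OppDec Cfsg.Agent.Nodes.LeviDec
open Cfsg.Agent.H248.TitsRGD

variable {I W Y : Type*} [Fintype I] [DecidableEq I] [Group W] [Group Y] {M : CoxeterMatrix I}
  {cs : CoxeterSystem M W} {A : I → I → ℤ} {h : IsCartan M A} {p : ℕ} {T : Subgroup Y} {n : I → Y}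
  {X : (I → ℤ) → Subgroup Y}

/-- a subgroup of odd order represents no simple reflection -/
theorem JU_eq_empty (R : RGD cs h p T n X) [Finite W] {P : Subgroup Y} (hodd : Odd (Nat.card P)) :
    JU T n P = ∅ := by
  rw [Set.eq_empty_iff_forall_notMem]
  rintro i ⟨t, ht, hk⟩
  have h1 : Rp cs R.nsys (cs.simple i) (t * n i) := by
    have := (rp_of_mem (cs := cs) (hN := R.nsys) ht).mul (rp_simple cs R.nsys i)
    rwa [one_mul] at this
  have h2 : (t * n i) * (t * n i) ∈ T := by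
    have := h1.mul h1
    rw [simple_mul_simple_self] at this
    exact this.mem_of_one
  have h6 := R.eq_one_of_mem_B h1 (RGD.T_le_B (mem_of_sq_mem hodd hk h2))
  have h7 := cs.length_simple i
  rw [h6, cs.length_one] at h7
  exact absurd h7 (by norm_num)

theorem le_normalizer_of_odd (R : RGD cs h p T n X) [Finite W] {P : Subgroup Y}
    (hP : RGD.Sup X (RGD.Pos cs h) ≤ P) (hG : P ≤ GG cs h T X) (hodd : Odd (Nat.card P)) :
    P ≤ normalizer (RGD.Sup X (RGD.Pos cs h) : Set Y) := by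
  have h1 := le_PJ R hP hG
  rw [JU_eq_empty R hodd, KFacts.RgdVJ.PJ_empty R] at h1
  exact h1.trans R.B_le_normalizer_U

theorem oddLe_of_rgd (R : RGD cs h p T n X) [Finite W] [Finite Y] [Fact p.Prime]
    (hG : Nodes.RGDLib.G1 cs h X = ⊤) : OddLe p Y := by
  have hGG : GG cs h T X = ⊤ := by
    rw [eq_top_iff, ← hG]
    exact le_sup_right
  have h1 := KFacts.RgdSyl.not_dvd_relIndex R
  rw [hGG, Subgroup.relIndex_top_right] at h1
  exact OddLe.of_one (R.isPGroup_Upos.toSylow h1) fun H hH hodd =>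
    le_normalizer_of_odd R hH (by rw [hGG]; exact le_top) hodd

end Rgd

theorem oddLe_of_hasRGD {G : Type*} [Group G] [Finite G] {p : ℕ} [Fact p.Prime]
    (hG : Nodes.RGDChev.HasRGD p G) : OddLe p G := by
  obtain ⟨l, M, A, h, T, n, X, h1, R, h2⟩ := hG
  exact oddLe_of_rgd R h2

section Split

open Cfsg.Agent.FixBN

variable {K : Type*} [Group K] {P : Cfsg.BNPair K} {p : ℕ} {U : Subgroup K}

/-- a group with a split (B,N)-pair of positive rank has even order -/
theorem not_odd_of_split (h : FixBN.Split P p U) (hne : P.S.Nonempty) : ¬ Odd (Nat.card K) := by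
  intro hodd
  obtain ⟨s, hs⟩ := hne
  have h1 : s ∈ P.B := mem_of_sq_mem (P := ⊤) (by rwa [Subgroup.card_top]) (mem_top s) (P.sq_mem s hs)
  obtain ⟨V, hV⟩ := h.node s hs
  obtain ⟨u, hu, huV⟩ := hV.ne
  apply huV
  refine hV.stab u hu ?_
  exact mul_mem (mul_mem (inv_mem h1) (h.le hu)) h1

/-- the Borel subgroup is solvable -/
theorem isSolvable_of_split [Finite K] [Fact p.Prime] (h : FixBN.Split P p U)
    (hc : ∀ a ∈ P.B ⊓ P.N, ∀ b ∈ P.B ⊓ P.N, a * b = b * a) : Group.IsSolvable ↥P.B := by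
  have hnor : (U.subgroupOf P.B).Normal := by
    constructor
    intro u hu b
    rw [Subgroup.mem_subgroupOf] at hu ⊢
    exact h.norm b b.2 u hu
  rw [Group.isSolvable_iff_subgroup_quotient (U.subgroupOf P.B)]
  constructor
  · have h1 : IsPGroup p ↥(U.subgroupOf P.B) :=
      h.isP.comap_of_injective P.B.subtype (Subgroup.subtype_injective _)
    have h2 := h1.isNilpotent
    infer_instance
  · apply Group.isSolvable_of_comm
    have key : ∀ x : P.B ⧸ U.subgroupOf P.B, ∃ t : P.B, (t : K) ∈ P.B ⊓ P.N ∧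
        x = (QuotientGroup.mk t : P.B ⧸ U.subgroupOf P.B) := by
      intro x
      obtain ⟨b, rfl⟩ := QuotientGroup.mk_surjective x
      obtain ⟨u, hu, t, ht, e⟩ := h.cover' b.2
      refine ⟨⟨t, ht.1⟩, ht, ?_⟩
      have h1 : b = ⟨u, h.le hu⟩ * ⟨t, ht.1⟩ := Subtype.ext e
      rw [h1, QuotientGroup.mk_mul, (QuotientGroup.eq_one_iff (⟨u, h.le hu⟩ : P.B)).2
        (Subgroup.mem_subgroupOf.2 hu), one_mul]
    intro x y
    obtain ⟨a, ha, rfl⟩ := key x
    obtain ⟨b, hb, rfl⟩ := key y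
    rw [← QuotientGroup.mk_mul, ← QuotientGroup.mk_mul]
    congr 1
    exact Subtype.ext (hc a ha b hb)

end Split

theorem borelSolv_of_splitAb {K : Type*} [Group K] [Finite K] {p : ℕ} [Fact p.Prime] (h : H463.LieAb.SplitAb p K) :
    BorelSolv p K := by
  obtain ⟨P, U, hne, h, hc⟩ := h
  obtain ⟨Q, hQ⟩ := h.isP.exists_le_sylow
  have hQU : (Q : Subgroup K) = U := H794.DefClosed.eq_of_isPGroup h Q.isPGroup' hQ
  apply BorelSolv.of_one Q
  rw [hQU, h.normalizer_eq]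
  exact isSolvable_of_split h hc

theorem borelSolv_of_lie {p : ℕ} [Fact p.Prime] (hp2 : p ≠ 2) {G : Type*} [Group G] [Finite G]
    (hG : IsLieTypeChar p G) : BorelSolv p G :=
  borelSolv_of_splitAb (H463.LieOdd.splitAb hp2 (H400.LieSimple.isSimple_of_lie hG) hG)

theorem not_odd_of_lie {p : ℕ} [Fact p.Prime] (hp2 : p ≠ 2) {G : Type*} [Group G] [Finite G]
    (hG : IsLieTypeChar p G) : ¬ Odd (Nat.card G) := by
  obtain ⟨P, U, hne, h, -⟩ := H463.LieOdd.splitAb hp2 (H400.LieSimple.isSimple_of_lie hG) hG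
  exact not_odd_of_split h hne

/-- `TI p G` and the dichotomy for overgroups of Sylow subgroups -/
theorem oddLe_of_ti {G : Type*} [Group G] [Finite G] {p : ℕ} [Fact p.Prime] (h : H794.TI p G)
    (hd : H248.Ovg.Dich p G) (hodd : ¬ Odd (Nat.card G)) : OddLe p G := by
  obtain ⟨U, hU, hUi, hd⟩ := hd
  refine OddLe.of_one (hU.toSylow hUi) fun H hH hHo => ?_
  have hH' : U ≤ H := hH
  rcases hd H hH' with h1 | ⟨V, hV1, hVp, hVH, hHV⟩
  · subst h1
    rw [Subgroup.card_top] at hHo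
    exact absurd hHo hodd
  · obtain ⟨Q, hQ⟩ := hVp.exists_le_sylow
    obtain ⟨x, hx, hx1⟩ := V.bot_or_exists_ne_one.resolve_left hV1
    have h2 : H ≤ normalizer ((Q : Subgroup G) : Set G) := fun g hg =>
      h Q x (hQ hx) hx1 g (hQ ((mem_normalizer_iff.1 (hHV hg) x).1 hx))
    have h3 : U ≤ Q := by
      have h3 : IsPGroup p ((Q : Subgroup G) ⊔ U : Subgroup G) :=
        IsPGroup.to_sup_of_normal_left' Q.isPGroup' hU (hH'.trans h2)
      have h4 := Q.is_maximal' h3 le_sup_left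
      rw [← h4]
      exact le_sup_right
    have h4 : (Q : Subgroup G) = U := by
      have h5 := (hU.toSylow hUi).is_maximal' Q.isPGroup' h3
      exact h5
    rw [h4] at h2
    exact h2

/-- **Odd order overgroups of the Sylow `p`-subgroups, groups of Lie type in characteristic `p`.** -/
theorem oddLe_of_lie {p : ℕ} [Fact p.Prime] (hp2 : p ≠ 2) {G : Type*} [Group G] [Finite G]
    (hG : IsLieTypeChar p G) : OddLe p G := by
  rcases Nodes.RGDLie.hasRGD_of_lie hG with h1 | ⟨rfl, h1⟩ | ⟨rfl, h1⟩ | ⟨rfl, h1⟩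
  · exact oddLe_of_hasRGD h1
  · exact absurd rfl hp2
  · exact absurd rfl hp2
  · exact oddLe_of_ti (H794.DefClosed.ti_ree h1) (H567.DichLie.dich_of_lie hG) (not_odd_of_lie hp2 hG)

section Hall

variable {G : Type*} [Group G] [Finite G]

theorem odd_card_of_hall {π : Set ℕ} (h2 : 2 ∉ π) {H : Subgroup G} (hH : Cfsg.IsPiHall π H) :
    Odd (Nat.card H) := by
  rw [← Nat.not_even_iff_odd, even_iff_two_dvd]
  exact fun h => h2 (hH.1 2 Nat.prime_two h)

/-- a Hall `π`-subgroup with `p ∈ π` has a conjugate containing the given Sylow subgroup -/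
theorem exists_conj_le {p : ℕ} [hp : Fact p.Prime] {π : Set ℕ} (hpπ : p ∈ π) {H : Subgroup G}
    (hH : Cfsg.IsPiHall π H) (S : Sylow p G) : ∃ g : G, (S : Subgroup G) ≤ H.map (MulAut.conj g).toMonoidHom := by
  obtain ⟨g, hg⟩ := H164.exists_conj_mem_of_isPGroup hp.out (hH.2 p hp.out hpπ) S.isPGroup'
  refine ⟨g, fun x hx => ⟨g⁻¹ * x * g, hg x hx, ?_⟩⟩
  show g * (g⁻¹ * x * g) * g⁻¹ = x
  group

/-- Hall subgroups of `G` lying in a solvable subgroup `N` are conjugate. -/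
theorem conj_of_le_solvable {π : Set ℕ} {H K N : Subgroup G} (hH : Cfsg.IsPiHall π H) (hK : Cfsg.IsPiHall π K)
    (hHN : H ≤ N) (hKN : K ≤ N) (hN : Group.IsSolvable N) : ∃ g : G, K = H.map (MulAut.conj g).toMonoidHom := by
  have hcard : Nat.card H = Nat.card K := H164.hall_card_eq hH hK
  have h1 : Nat.card N = Nat.card H * H.relIndex N := by
    rw [← Subgroup.card_mul_index (H.subgroupOf N)]
    congr 1
    exact Nat.card_congr (Subgroup.subgroupOfEquivOfLe hHN).toEquiv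
  have h2 : (Nat.card H).Coprime (H.relIndex N) := by
    rw [Nat.coprime_iff_gcd_eq_one]
    by_contra hne
    obtain ⟨r, hr, hrd⟩ := Nat.exists_prime_and_dvd hne
    exact hH.2 r hr (hH.1 r hr (hrd.trans (Nat.gcd_dvd_left _ _)))
      ((hrd.trans (Nat.gcd_dvd_right _ _)).trans (Subgroup.relIndex_dvd_index_of_le hHN))
  obtain ⟨g, hg⟩ := S0004.result (G := N) _ _ h1 h2 (H.subgroupOf N) (K.subgroupOf N)
    (Nat.card_congr (Subgroup.subgroupOfEquivOfLe hHN).toEquiv)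
    (by rw [hcard]; exact Nat.card_congr (Subgroup.subgroupOfEquivOfLe hKN).toEquiv)
  refine ⟨g, ?_⟩
  ext x
  constructor
  · intro hx
    have h3 : (⟨x, hKN hx⟩ : N) ∈ K.subgroupOf N := Subgroup.mem_subgroupOf.2 hx
    rw [← hg] at h3
    obtain ⟨y, hy, e⟩ := h3
    refine ⟨y, Subgroup.mem_subgroupOf.1 hy, ?_⟩
    have h4 := congrArg Subtype.val e
    exact h4
  · rintro ⟨y, hy, rfl⟩
    have h3 : g * (⟨y, hHN hy⟩ : N) * g⁻¹ ∈ K.subgroupOf N := by
      rw [← hg]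
      exact ⟨⟨y, hHN hy⟩, Subgroup.mem_subgroupOf.2 hy, rfl⟩
    exact Subgroup.mem_subgroupOf.1 h3

/-- **Hall subgroups of odd order whose order is divisible by `p`.** -/
theorem conj_of_hall {p : ℕ} [Fact p.Prime] (hO : OddLe p G) (hB : BorelSolv p G) {π : Set ℕ} (h2 : 2 ∉ π)
    (hpπ : p ∈ π) {H K : Subgroup G} (hH : Cfsg.IsPiHall π H) (hK : Cfsg.IsPiHall π K) :
    ∃ g : G, K = MulAut.conj g • H := by
  obtain ⟨S⟩ : Nonempty (Sylow p G) := inferInstance
  obtain ⟨a, ha⟩ := exists_conj_le hpπ hH S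
  obtain ⟨b, hb⟩ := exists_conj_le hpπ hK S
  have hH' := H164.hall_map_conj hH a
  have hK' := H164.hall_map_conj hK b
  obtain ⟨g, hg⟩ := conj_of_le_solvable hH' hK' (hO S _ ha (odd_card_of_hall h2 hH'))
    (hO S _ hb (odd_card_of_hall h2 hK')) (hB S)
  refine ⟨b⁻¹ * g * a, ?_⟩
  have h1 : K = (K.map (MulAut.conj b).toMonoidHom).map (MulAut.conj b⁻¹).toMonoidHom := by
    rw [Subgroup.map_map]
    have : ((MulAut.conj b⁻¹).toMonoidHom.comp (MulAut.conj b).toMonoidHom : G →* G) = MonoidHom.id G := by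
      ext x
      show b⁻¹ * (b * x * b⁻¹) * b⁻¹⁻¹ = x
      group
    rw [this, Subgroup.map_id]
  rw [h1, hg, Subgroup.map_map, Subgroup.map_map]
  show Subgroup.map _ H = Subgroup.map (MulAut.conj (b⁻¹ * g * a)).toMonoidHom H
  congr 1
  ext x
  show b⁻¹ * (g * (a * x * a⁻¹) * g⁻¹) * b⁻¹⁻¹ = (b⁻¹ * g * a) * x * (b⁻¹ * g * a)⁻¹
  group

/-- **Hall `π`-subgroups, `2 ∉ π`, `p ∈ π`, of the groups of Lie type in characteristic `p` are conjugate.** -/
theorem conj_of_lie {p : ℕ} (hp : p.Prime) (hG : IsLieTypeChar p G) {π : Set ℕ} (h2 : 2 ∉ π)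
    (hpπ : p ∈ π) {H K : Subgroup G} (hH : Cfsg.IsPiHall π H) (hK : Cfsg.IsPiHall π K) :
    ∃ g : G, K = MulAut.conj g • H := by
  have : Fact p.Prime := ⟨hp⟩
  have hp2 : p ≠ 2 := by
    rintro rfl
    exact h2 hpπ
  exact conj_of_hall (oddLe_of_lie hp2 hG) (borelSolv_of_lie hp2 hG) h2 hpπ hH hK

end Hall

end Cfsg.Agent.H565.OddBorel
end

-- part: H572/ExcE
section
prune_inst 0xc140284408c0000000000502100000040400009000400800000000400000006000002040040010061a08000800000000001000000000000000000000000000001000000001000000000000000080400000000000000000000000000000000004000000000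
set_option linter.all false
open scoped Cfsg.Agent.FastGrp

-- part: H572/ExcA
section
/-!
# The normaliser of a torus in a finite subgroup of `D.group k` (S4350, exceptional groups)

`κ : G →* D.group k` injective, `G` finite.
* `TG κ` : the elements in the torus, `NG κ` : the elements representing an element of the Weyl group;
* `im κ H` : the image of `H` in the Weyl group, `card_im` : `|H| = |H ∩ TG| |im H|` for `H ≤ NG`;
* `exists_rp_of_norm` : an element normalising a subgroup `A` of the torus on which no root is trivial is in `NG`;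
* `exists_sylow` : the Sylow subgroup in `NG`.
-/

set_option autoImplicit false
set_option linter.unusedSectionVars false

namespace Cfsg.Agent.H572.ExcA

open CoxeterSystem Cfsg Cfsg.Lie Cfsg.Lie.ChevalleyDatum
open Cfsg.Agent.ChevalleyStructure Cfsg.Agent.ChevalleyStructure.Elts Cfsg.Agent.ChevalleyStructure.CoxeterGeom
  Cfsg.Agent.ChevalleyStructure.CoxeterGeomTypes Cfsg.Agent.ChevalleyStructure.NPerm
open Cfsg.Agent.Tits.Roots Cfsg.Agent.Tits.Core Cfsg.Agent.Nodes Cfsg.Agent.Nodes.Reps Cfsg.Agent.Nodes.BNOf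
  Cfsg.Agent.Nodes.RGDChev Cfsg.Agent.Nodes.Bruhat
open Cfsg.Agent.KFacts.RgdField Cfsg.Agent.KFacts.RgdChevCoord Cfsg.Agent.BpExc.TorCent Cfsg.Agent.BpExc.TorChev
open Cfsg.Agent.GpExc.Field Cfsg.Agent.BpExc.Tow Cfsg.Agent.BpExc.TowChev Cfsg.Agent.BpExc.Fr
  Cfsg.Agent.BpExc.LangFr Cfsg.Agent.H129.TorusChar Cfsg.Agent.H129.TorusMain Cfsg.Agent.H123.ExcZ
open Cfsg.Agent.BpExc Cfsg.Agent.H795.LangT Cfsg.Agent.H795.Core Cfsg.Agent.H795.NotAbT
open Subgroup

universe u v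

variable {D : ChevalleyDatum} {l : ℕ} {M : CoxeterMatrix (Fin l)} (hp : IsType D l M)
  {k : Type u} [Field k] [IsAlgClosed k] (hk : LocFin k) (r : ℕ) [Fact r.Prime] [CharP k r]

/-- `c` represents `w` -/
def RP (w : M.Group) (c : ↥(D.group k)) : Prop := Rp M.toCoxeterSystem (tow hp M.toCoxeterSystem hk r).nsys w c

variable {hp hk r}

theorem RP.mul {v w : M.Group} {a b : ↥(D.group k)} (ha : RP hp hk r v a) (hb : RP hp hk r w b) :
    RP hp hk r (v * w) (a * b) := Rp.mul ha hb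

theorem RP.inv {v : M.Group} {a : ↥(D.group k)} (ha : RP hp hk r v a) : RP hp hk r v⁻¹ a⁻¹ := Rp.inv ha

variable (hp hk r) in
theorem RP.one : RP hp hk r 1 (1 : ↥(D.group k)) := rp_one

theorem RP.unique {v w : M.Group} {a : ↥(D.group k)} (hv : RP hp hk r v a) (hw : RP hp hk r w a) : v = w := by
  have hWf := finite_W hp (M.toCoxeterSystem)
  have h4 : ∀ (T' : Subgroup ↥(D.group k)) (_ : T' = TT D k) (h : NSys M T' (nc hp k)) (h' : NSys M (TT D k) (nc hp k))
      (v : M.Group), Rp M.toCoxeterSystem h v a → Rp M.toCoxeterSystem h' v a := by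
    rintro _ rfl h h' v h5
    exact h5
  have hN : NSys M (TT D k) (nc hp k) := by
    have := (tow hp M.toCoxeterSystem hk r (k := k)).nsys
    rwa [TL_eq hp hk] at this
  exact Cfsg.Agent.H630.Exc.rp_unique hp M.toCoxeterSystem hk r hN (h4 _ (TL_eq hp hk) _ hN v hv)
    (h4 _ (TL_eq hp hk) _ hN w hw)

theorem RP.mem_of_one {a : ↥(D.group k)} (ha : RP hp hk r 1 a) : a ∈ TT D k := by
  have h2 := Rp.mem_of_one ha
  rwa [TL_eq hp hk] at h2

variable (hp hk r) in
theorem RP.of_mem {a : ↥(D.group k)} (ha : a ∈ TT D k) : RP hp hk r 1 a := by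
  have h1 := (RP.one hp hk r (k := k))
  have h2 : RP hp hk r 1 (1 * a) := Rp.mul_mem_right h1 (by rw [TL_eq hp hk]; exact ha)
  rwa [one_mul] at h2

theorem RP.conj_mem {w : M.Group} {c : ↥(D.group k)} (hc : RP hp hk r w c) {t : ↥(D.group k)} (ht : t ∈ TT D k) :
    c * t * c⁻¹ ∈ TT D k := rp_conj_mem hp hk hc ht

theorem RP.char {w : M.Group} {c : ↥(D.group k)} (hc : RP hp hk r w c) {t : ↥(D.group k)} (ht : t ∈ TT D k)
    (x : Fin l → ℤ) : cX hp (c * t * c⁻¹) (rep M.toCoxeterSystem hp.isCartan w x) = cX hp t x :=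
  cX_rp' hp hk hc ht x

theorem RP.char_inv {w : M.Group} {c : ↥(D.group k)} (hc : RP hp hk r w c) {t : ↥(D.group k)} (ht : t ∈ TT D k)
    (x : Fin l → ℤ) : cX hp (c * t * c⁻¹) x = cX hp t (rep M.toCoxeterSystem hp.isCartan w⁻¹ x) := by
  rw [← hc.char ht, ← rep_mul_apply, mul_inv_cancel, map_one, Module.End.one_apply]

section

variable {G : Type v} [Group G] (κ : G →* ↥(D.group k))

/-- the elements in the torus -/
def TG : Subgroup G := (TT D k).comap κ

theorem mem_TG {x : G} : x ∈ TG κ ↔ κ x ∈ TT D k := Iff.rfl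

variable (hp hk r) in
/-- the elements representing elements of the Weyl group -/
def NG : Subgroup G where
  carrier := {x | ∃ w, RP hp hk r w (κ x)}
  one_mem' := ⟨1, by rw [map_one]; exact RP.one hp hk r⟩
  mul_mem' := by
    rintro a b ⟨v, hv⟩ ⟨w, hw⟩
    exact ⟨v * w, by rw [map_mul]; exact hv.mul hw⟩
  inv_mem' := by
    rintro a ⟨v, hv⟩
    exact ⟨v⁻¹, by rw [map_inv]; exact hv.inv⟩

variable (hp hk r) in
theorem TG_le : TG κ ≤ NG hp hk r κ := fun _ hx => ⟨1, RP.of_mem hp hk r hx⟩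

variable (hp hk r) in
/-- the image in the Weyl group -/
def im (H : Subgroup G) : Subgroup M.Group where
  carrier := {w | ∃ x ∈ H, RP hp hk r w (κ x)}
  one_mem' := ⟨1, one_mem _, by rw [map_one]; exact RP.one hp hk r⟩
  mul_mem' := by
    rintro v w ⟨a, ha, hv⟩ ⟨b, hb, hw⟩
    exact ⟨a * b, mul_mem ha hb, by rw [map_mul]; exact hv.mul hw⟩
  inv_mem' := by
    rintro v ⟨a, ha, hv⟩
    exact ⟨a⁻¹, inv_mem ha, by rw [map_inv]; exact hv.inv⟩

theorem im_mono {H K : Subgroup G} (h : H ≤ K) : im hp hk r κ H ≤ im hp hk r κ K := by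
  rintro w ⟨x, hx, hw⟩
  exact ⟨x, h hx, hw⟩

theorem TG_comm (hinj : Function.Injective κ) (hp : IsType D l M) {a b : G} (ha : a ∈ TG κ) (hb : b ∈ TG κ) :
    a * b = b * a := by
  apply hinj
  rw [map_mul, map_mul]
  exact TT_comm hp _ ha _ hb

theorem conj_mem_TG {n a : G} (hn : n ∈ NG hp hk r κ) (ha : a ∈ TG κ) : n * a * n⁻¹ ∈ TG κ := by
  obtain ⟨w, hw⟩ := hn
  rw [mem_TG, map_mul, map_mul, map_inv]
  exact hw.conj_mem ha

/-- the order of the image -/
theorem card_im {H : Subgroup G} (hH : H ≤ NG hp hk r κ) :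
    Nat.card H = Nat.card (H ⊓ TG κ : Subgroup G) * Nat.card (im hp hk r κ H) := by
  classical
  have h1 : ∀ x : H, ∃ w, RP hp hk r w (κ x) := fun x => hH x.2
  choose w hw using h1
  let φ : H →* im hp hk r κ H :=
    { toFun := fun x => (⟨w x, x, x.2, hw x⟩ : im hp hk r κ H)
      map_one' := Subtype.ext (by
        have h1 := hw 1
        have h2 : κ ((1 : H) : G) = 1 := map_one κ
        rw [h2] at h1
        exact h1.unique (RP.one hp hk r))
      map_mul' := fun x y => Subtype.ext (by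
        have h1 := hw (x * y)
        have h2 : κ ((x * y : H) : G) = κ x * κ y := map_mul κ _ _
        rw [h2] at h1
        exact h1.unique ((hw x).mul (hw y))) }
  have hsurj : Function.Surjective φ := by
    rintro ⟨v, x, hx, hv⟩
    exact ⟨⟨x, hx⟩, Subtype.ext ((hw ⟨x, hx⟩).unique hv)⟩
  have hker : φ.ker = (TG κ).subgroupOf H := by
    ext x
    rw [MonoidHom.mem_ker, Subgroup.mem_subgroupOf]
    constructor
    · intro h
      have h2 : w x = 1 := congrArg Subtype.val h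
      have h3 := hw x
      rw [h2] at h3
      exact h3.mem_of_one
    · intro h
      exact Subtype.ext ((hw x).unique (RP.of_mem hp hk r h))
  have h2 := φ.ker.card_mul_index
  rw [Subgroup.index_ker, MonoidHom.range_eq_top.2 hsurj, Subgroup.card_top, hker] at h2
  rw [← h2]
  congr 1
  rw [← Subgroup.inf_subgroupOf_left (TG κ) H]
  exact Nat.card_congr (Subgroup.subgroupOfEquivOfLe (inf_le_left : H ⊓ TG κ ≤ H)).toEquiv

/-- **Elements normalising a subgroup of the torus**, no root trivial on it. -/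
theorem mem_NG_of_norm [Finite G] {A : Subgroup G} (hA : A ≤ TG κ)
    (hreg : ∀ a, IsRoot M.toCoxeterSystem hp.isCartan a → ∃ x ∈ A, cX hp (κ x) a ≠ 1) {y : G}
    (hy : y ∈ normalizer (A : Set G)) : y ∈ NG hp hk r κ := by
  classical
  have hWf := finite_W hp (M.toCoxeterSystem)
  have H := tow hp M.toCoxeterSystem hk r
  have C : Coords M.toCoxeterSystem hp.isCartan (TL (Tj hp (k := k))) (nc hp k) (XL (Xj hp)) (xc hp) (ch hp) := by
    rw [TL_eq hp hk, XL_eq hp hk]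
    exact coordsL hp M.toCoxeterSystem hk r
  have hGt := GG_eq_top hp M.toCoxeterSystem hk
  have hTL := TL_eq (k := k) hp hk
  have hyA : ∀ x : A, y * x * y⁻¹ ∈ A := fun x => (mem_normalizer_iff.1 hy x).1 x.2
  have hκA : ∀ x : A, κ x ∈ TT D k := fun x => hA x.2
  have hκt : ∀ x : A, κ (y * x * y⁻¹) ∈ TT D k := fun x => hA (hyA x)
  obtain ⟨m, hm, w, n, hn, hns, e⟩ := Cfsg.Agent.H123.ExcZ.exists_form' H C (ι := A) (s := fun x : A => κ x)
    (t := fun x : A => κ (y * x * y⁻¹))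
    (fun a => by rw [hTL]; exact hκA a) (fun a => by rw [hTL]; exact hκt a) (c := κ y)
    (by rw [hGt]; exact Subgroup.mem_top _) (fun a => by rw [map_mul, map_mul, map_inv]; group)
  have hSZ : SZ M.toCoxeterSystem hp.isCartan (ch hp) (fun x : A => κ (y * x * y⁻¹)) = ∅ := by
    rw [Set.eq_empty_iff_forall_notMem]
    intro a ha
    obtain ⟨x, hx, hxa⟩ := hreg a ha.1
    have hx' : y⁻¹ * x * y ∈ A := by
      have h1 := (mem_normalizer_iff.1 (inv_mem hy) x).1 hx
      rwa [inv_inv] at h1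
    apply hxa
    have h2 := ha.2 ⟨_, hx'⟩
    have h3 : y * (y⁻¹ * x * y) * y⁻¹ = x := by group
    rw [cX_root hp M.toCoxeterSystem (hA hx) ha.1]
    have h4 : ch hp a (κ (y * (y⁻¹ * x * y) * y⁻¹)) = 1 := h2
    rw [h3] at h4
    exact h4
  have hm1 : m = 1 := by
    have h1 : m ∈ (⊥ : Subgroup ↥(D.group k)) := by
      have h2 : MZ M.toCoxeterSystem hp.isCartan (XL (Xj hp (k := k))) (ch hp)
          (fun x : A => κ (y * x * y⁻¹)) ≤ ⊥ := by
        refine RGD.Sup_le fun a ha => ?_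
        rw [hSZ] at ha
        exact absurd ha (Set.notMem_empty a)
      exact h2 hm
    exact (Subgroup.mem_bot).1 h1
  refine ⟨w, ?_⟩
  rw [e, hm1, one_mul]
  exact hn

/-- **The Sylow subgroup.** -/
theorem exists_sylow [Finite G] {s : ℕ} [hs : Fact s.Prime] {N₁ N₂ : ℕ} (h1 : s ^ N₁ ∣ Nat.card (TG κ))
    (h2 : s ^ N₂ ∣ Nat.card (im hp hk r κ (NG hp hk r κ))) (h3 : ¬ s ^ (N₁ + N₂ + 1) ∣ Nat.card G) :
    ∃ S : Sylow s G, (S : Subgroup G) ≤ NG hp hk r κ ∧ s ^ N₂ ∣ Nat.card (im hp hk r κ (S : Subgroup G)) := by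
  have hWf : Finite M.Group := finite_W hp (M.toCoxeterSystem)
  have hc := card_im (hp := hp) (hk := hk) (r := r) κ (le_refl (NG hp hk r κ))
  rw [inf_eq_right.2 (TG_le hp hk r κ)] at hc
  obtain ⟨P⟩ := (inferInstance : Nonempty (Sylow s ↥(NG hp hk r κ)))
  set Q : Subgroup G := (P : Subgroup ↥(NG hp hk r κ)).map (NG hp hk r κ).subtype with hQ
  have hQN : Q ≤ NG hp hk r κ := Subgroup.map_subtype_le _
  have hQp : IsPGroup s Q := P.isPGroup'.map _
  have hQc : Nat.card Q = s ^ (Nat.card (NG hp hk r κ)).factorization s := by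
    rw [hQ, Subgroup.card_map_of_injective (Subgroup.subtype_injective _), P.card_eq_multiplicity]
  have hG0 : Nat.card G ≠ 0 := Nat.card_pos.ne'
  have hN0 : Nat.card (NG hp hk r κ) ≠ 0 := Nat.card_pos.ne'
  have hle : (Nat.card G).factorization s ≤ N₁ + N₂ := by
    by_contra hcon
    apply h3
    exact (hs.out.pow_dvd_iff_le_factorization hG0).2 (by omega)
  have hge : N₁ + N₂ ≤ (Nat.card (NG hp hk r κ)).factorization s := by
    rw [← hs.out.pow_dvd_iff_le_factorization hN0, hc, pow_add]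
    exact mul_dvd_mul h1 h2
  have hNG : (Nat.card (NG hp hk r κ)).factorization s ≤ (Nat.card G).factorization s :=
    (Nat.factorization_le_iff_dvd hN0 hG0).2 (Subgroup.card_subgroup_dvd_card _) s
  have hQG : Nat.card Q = s ^ (Nat.card G).factorization s := by
    rw [hQc]
    congr 1
    omega
  let S : Sylow s G := Sylow.ofCard Q hQG
  refine ⟨S, hQN, ?_⟩
  have hSQ : (S : Subgroup G) = Q := rfl
  rw [hSQ]
  have hcQ := card_im (hp := hp) (hk := hk) (r := r) κ hQN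
  have h4 : (Nat.card (TG κ)).factorization s ≤ N₁ := by
    have e1 : (Nat.card (NG hp hk r κ)).factorization s = (Nat.card (TG κ)).factorization s +
        (Nat.card (im hp hk r κ (NG hp hk r κ))).factorization s := by
      rw [hc, Nat.factorization_mul Nat.card_pos.ne' Nat.card_pos.ne']
      rfl
    have e2 : N₂ ≤ (Nat.card (im hp hk r κ (NG hp hk r κ))).factorization s :=
      (hs.out.pow_dvd_iff_le_factorization Nat.card_pos.ne').1 h2
    omega
  have h5 : (Nat.card (Q ⊓ TG κ : Subgroup G)).factorization s ≤ N₁ :=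
    ((Nat.factorization_le_iff_dvd Nat.card_pos.ne' Nat.card_pos.ne').2
      (Subgroup.card_dvd_of_le (inf_le_right : Q ⊓ TG κ ≤ TG κ)) s).trans h4
  have h6 : (Nat.card Q).factorization s = (Nat.card (Q ⊓ TG κ : Subgroup G)).factorization s +
      (Nat.card (im hp hk r κ Q)).factorization s := by
    rw [hcQ, Nat.factorization_mul Nat.card_pos.ne' Nat.card_pos.ne']
    rfl
  have h7 : (Nat.card Q).factorization s = (Nat.card (NG hp hk r κ)).factorization s := by
    rw [hQc, hs.out.factorization_pow, Finsupp.single_eq_same]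
  rw [hs.out.pow_dvd_iff_le_factorization Nat.card_pos.ne']
  omega

end

end Cfsg.Agent.H572.ExcA
end

-- part: H572/LatQ
section
/-!
# Isometries of even lattices acting quadratically modulo a prime (S4350)

`B` a symmetric positive semidefinite form on an abelian group `L`, `w` an isometry, `e i` vectors of norm `2`.

* `five` : `s ≥ 5` divides all `B ((w - 1)² x) y`: `w` fixes the `e i` modulo the radical;
* `dich` : `s = 3`: `w` fixes `e`, or `w² + w + 1` kills `e` modulo the radical; `dich_all` : the same for a connected family;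
* `not_nine` : the second case does not occur if `9` divides all `B ((w - 1)² x) y`;
* `exists_beta` : in the second case some `B (w x - x) y` is not divisible by `3`;
* `pair_case` : two commuting isometries generate a group of order three.
-/

set_option autoImplicit false

namespace Cfsg.Agent.H572.LatQ

variable {L : Type*} [AddCommGroup L]

/-- symmetric positive semidefinite integral forms -/
structure IsForm (B : L → L → ℤ) : Prop where
  add : ∀ x y z, B (x + y) z = B x z + B y z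
  comm : ∀ x y, B x y = B y x
  nonneg : ∀ x, 0 ≤ B x x

/-- the radical -/
def Rad (B : L → L → ℤ) (x : L) : Prop := ∀ y, B x y = 0

variable {B : L → L → ℤ}

namespace IsForm

variable (h : IsForm B)

include h

theorem add' (x y z : L) : B x (y + z) = B x y + B x z := by
  rw [h.comm, h.add, h.comm y, h.comm z]

theorem zero (y : L) : B 0 y = 0 := by
  have := h.add 0 0 y
  rw [add_zero] at this
  omega

theorem neg (x y : L) : B (-x) y = - B x y := by
  have := h.add x (-x) y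
  rw [add_neg_cancel, h.zero] at this
  omega

theorem sub (x y z : L) : B (x - y) z = B x z - B y z := by
  rw [sub_eq_add_neg, h.add, h.neg]; ring

theorem neg' (x y : L) : B x (-y) = - B x y := by rw [h.comm, h.neg, h.comm y]

theorem sub' (x y z : L) : B x (y - z) = B x y - B x z := by
  rw [h.comm, h.sub, h.comm y, h.comm z]

theorem rad_of_norm {x : L} (hx : B x x = 0) : Rad B x := by
  intro y
  have key : ∀ n : ℤ, 0 ≤ B y y + 2 * n * B x y := by
    have hz : ∀ n : ℕ, ∀ u v : L, B (n • u) v = n * B u v := by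
      intro n u v
      induction n with
      | zero => rw [zero_smul, h.zero]; simp
      | succ n ih => rw [succ_nsmul, h.add, ih]; push_cast; ring
    have hz' : ∀ n : ℤ, ∀ u v : L, B (n • u) v = n * B u v := by
      intro n u v
      obtain ⟨n, rfl | rfl⟩ := n.eq_nat_or_neg
      · rw [natCast_zsmul, hz]
      · rw [neg_smul, h.neg, natCast_zsmul, hz]; ring
    intro n
    have h1 := h.nonneg (y + n • x)
    rw [h.add, h.add', h.add', hz', hz', h.comm y (n • x), hz', h.comm x (n • x), hz', hx] at h1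
    linarith
  have h1 := key (-(B y y + 1) * B x y)
  have h2 := h.nonneg y
  by_contra hne
  have h3 : 1 ≤ B x y * B x y := by
    rcases lt_or_gt_of_ne hne with h | h <;> nlinarith only [h]
  nlinarith

/-- two vectors of norm `2` -/
theorem le_two {x y : L} (hx : B x x = 2) (hy : B y y = 2) : B x y ≤ 2 := by
  have h1 := h.nonneg (x - y)
  rw [h.sub, h.sub', h.sub', h.comm y x, hx, hy] at h1
  omega

theorem neg_two_le {x y : L} (hx : B x x = 2) (hy : B y y = 2) : -2 ≤ B x y := by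
  have h1 := h.nonneg (x + y)
  rw [h.add, h.add', h.add', h.comm y x, hx, hy] at h1
  omega

theorem rad_of_two {x y : L} (hx : B x x = 2) (hy : B y y = 2) (hxy : B x y = 2) : Rad B (x - y) := by
  apply h.rad_of_norm
  rw [h.sub, h.sub', h.sub', h.comm y x, hx, hy, hxy]
  norm_num

end IsForm

/-- isometries -/
structure Iso (B : L → L → ℤ) (w : L →+ L) : Prop where
  iso : ∀ x y, B (w x) (w y) = B x y

variable {w : L →+ L}

/-- `s` divides all `B ((w - 1)² x) y` -/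
def Quad (B : L → L → ℤ) (s : ℤ) (w : L →+ L) : Prop := ∀ x y, s ∣ B (w (w x) - w x - (w x - x)) y

theorem quad_eq (h : IsForm B) {s : ℤ} (hq : Quad B s w) (x y : L) :
    s ∣ B (w (w x)) y - 2 * B (w x) y + B x y := by
  have := hq x y
  rw [h.sub, h.sub, h.sub] at this
  have e : B (w (w x)) y - B (w x) y - (B (w x) y - B x y) = B (w (w x)) y - 2 * B (w x) y + B x y := by ring
  rwa [e] at this

/-- `B (w e) e` is `2` modulo `s` -/
theorem mod_two (h : IsForm B) (hw : Iso B w) {s : ℤ} (hs : ¬ (2 : ℤ) ∣ s) (hsp : Prime s) (hq : Quad B s w) {e : L}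
    (he : B e e = 2) : s ∣ B (w e) e - 2 := by
  have h1 := quad_eq h hq e (w e)
  rw [hw.iso, hw.iso, he, h.comm e (w e)] at h1
  have h2 : s ∣ 2 * (B (w e) e - 2) := by
    have e1 : B (w e) e - 2 * 2 + B (w e) e = 2 * (B (w e) e - 2) := by ring
    rwa [e1] at h1
  rcases hsp.dvd_or_dvd h2 with h3 | h3
  · exfalso
    have h4 := (Int.prime_iff_natAbs_prime.1 hsp)
    have h5 : s.natAbs ∣ 2 := by
      have := Int.natAbs_dvd_natAbs.2 h3
      simpa using this
    have h6 := (Nat.prime_dvd_prime_iff_eq h4 Nat.prime_two).1 h5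
    apply hs
    rw [← Int.natAbs_dvd_natAbs, h6]
    norm_num
  · exact h3

/-- **`s ≥ 5`.** -/
theorem five (h : IsForm B) (hw : Iso B w) {s : ℕ} (hs : s.Prime) (hs5 : 5 ≤ s) (hq : Quad B s w) {e : L}
    (he : B e e = 2) : Rad B (w e - e) := by
  have h1 := mod_two h hw (s := (s : ℤ)) (by
    intro h2
    have h3 : 2 ∣ s := by exact_mod_cast h2
    have := (Nat.prime_dvd_prime_iff_eq Nat.prime_two hs).1 h3
    omega) (Nat.prime_iff_prime_int.1 hs) hq he
  have hwe : B (w e) (w e) = 2 := by rw [hw.iso, he]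
  have h2 := h.le_two hwe he
  have h3 := h.neg_two_le hwe he
  apply h.rad_of_two hwe he
  obtain ⟨c, hc⟩ := h1
  have hs5' : (5 : ℤ) ≤ s := by exact_mod_cast hs5
  have : c = 0 := by
    by_contra hc0
    rcases lt_or_gt_of_ne hc0 with h4 | h4 <;> nlinarith only [hs5, h3, hc, h4, h2]
  rw [this, mul_zero] at hc
  omega

theorem Rad.add (h : IsForm B) {x y : L} (hx : Rad B x) (hy : Rad B y) : Rad B (x + y) := fun z => by
  rw [h.add, hx, hy, add_zero]

theorem Rad.neg (h : IsForm B) {x : L} (hx : Rad B x) : Rad B (-x) := fun z => by rw [h.neg, hx, neg_zero]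

theorem Rad.sub (h : IsForm B) {x y : L} (hx : Rad B x) (hy : Rad B y) : Rad B (x - y) := fun z => by
  rw [h.sub, hx, hy, sub_zero]

theorem Rad.zero (h : IsForm B) : Rad B (0 : L) := fun z => h.zero z

theorem Rad.map (h : IsForm B) (hw : Iso B w) {x : L} (hx : Rad B x) : Rad B (w x) :=
  h.rad_of_norm (by rw [hw.iso]; exact hx x)

theorem Rad.iter (h : IsForm B) (hw : Iso B w) {x : L} (hx : Rad B x) (n : ℕ) : Rad B (w^[n] x) := by
  induction n with
  | zero => exact hx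
  | succ n ih => rw [Function.iterate_succ_apply']; exact ih.map h hw

theorem iter_sub (n : ℕ) (x y : L) : w^[n] (x - y) = w^[n] x - w^[n] y := by
  induction n with
  | zero => rfl
  | succ n ih => rw [Function.iterate_succ_apply', ih, map_sub, Function.iterate_succ_apply',
      Function.iterate_succ_apply']

/-- powers -/
theorem rad_pow (h : IsForm B) (hw : Iso B w) {x : L} {n : ℕ} (hx : Rad B (w^[n] x - x)) (m : ℕ) :
    Rad B (w^[n * m] x - x) := by
  induction m with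
  | zero => rw [mul_zero, Function.iterate_zero_apply, sub_self]; exact Rad.zero h
  | succ m ih =>
    have e : w^[n * (m + 1)] x - x = w^[n] (w^[n * m] x - x) + (w^[n] x - x) := by
      rw [iter_sub, ← Function.iterate_add_apply, mul_add, mul_one, add_comm (n * m) n]
      abel
    rw [e]
    exact (ih.iter h hw n).add h hx

/-- **`s = 3`, one vector.** -/
theorem dich (h : IsForm B) (hw : Iso B w) (hq : Quad B 3 w) {n : ℕ} (hn : Odd n)
    (hwn : ∀ x, Rad B (w^[n] x - x)) {e : L} (he : B e e = 2) :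
    Rad B (w e - e) ∨ Rad B (w (w e) + w e + e) := by
  have h3p : Prime (3 : ℤ) := by norm_num
  have hwe : B (w e) (w e) = 2 := by rw [hw.iso, he]
  have hwwe : B (w (w e)) (w (w e)) = 2 := by rw [hw.iso, hwe]
  have h1 := mod_two h hw (s := 3) (by norm_num) h3p hq he
  have h2 := h.le_two hwe he
  have h3 := h.neg_two_le hwe he
  have h4 : B (w e) e = 2 ∨ B (w e) e = -1 := by omega
  rcases h4 with h4 | h4
  · exact Or.inl (h.rad_of_two hwe he h4)
  right
  have h5 := quad_eq h hq e e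
  rw [h4, he] at h5
  have h6 := h.le_two hwwe he
  have h7 := h.neg_two_le hwwe he
  have h8 : B (w (w e)) e = 2 ∨ B (w (w e)) e = -1 := by omega
  rcases h8 with h8 | h8
  · exfalso
    -- `w² e ≈ e`, hence `w e ≈ e`
    have h9 : Rad B (w^[2] e - e) := h.rad_of_two hwwe he h8
    obtain ⟨m, hm⟩ := hn
    have h10 := (rad_pow h hw h9 m).map h hw
    have h11 := hwn e
    have e0 : w^[2 * m + 1] e = w (w^[2 * m] e) := Function.iterate_succ_apply' _ _ _
    rw [hm, e0] at h11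
    have h12 : Rad B (w e - e) := by
      have e1 : w e - e = (w (w^[2 * m] e) - e) - w (w^[2 * m] e - e) := by rw [map_sub]; abel
      rw [e1]
      exact h11.sub h h10
    have h13 := h12 e
    rw [h.sub, h4, he] at h13
    omega
  · apply h.rad_of_norm
    have a1 : B (w (w e)) (w e) = -1 := by rw [hw.iso, h4]
    have a2 : B (w e) (w (w e)) = -1 := by rw [h.comm, a1]
    have a3 : B e (w e) = -1 := by rw [h.comm, h4]
    have a4 : B e (w (w e)) = -1 := by rw [h.comm, h8]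
    simp only [h.add, h.add', hwwe, hwe, he, a1, a2, a3, a4, h4, h8]
    norm_num

/-- orthogonality of the two kinds of vectors -/
theorem orth (h : IsForm B) (hw : Iso B w) {e f : L} (he : Rad B (w e - e)) (hf : Rad B (w (w f) + w f + f)) :
    B e f = 0 := by
  have a1 : ∀ y, B (w e) y = B e y := fun y => by
    have := he y; rw [h.sub] at this; omega
  have a2 : B e (w f) = B e f := by rw [← a1, hw.iso]
  have a3 : B e (w (w f)) = B e f := by rw [← a1, hw.iso, a2]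
  have a4 := hf e
  rw [h.comm, h.add', h.add', a3, a2] at a4
  omega

variable {ι : Type*} {e : ι → L}

/-- **`s = 3`, a connected family.** -/
theorem dich_all (h : IsForm B) (hw : Iso B w) (hq : Quad B 3 w) {n : ℕ} (hn : Odd n)
    (hwn : ∀ x, Rad B (w^[n] x - x)) (he : ∀ i, B (e i) (e i) = 2) (i0 : ι) (dep : ι → ℕ)
    (hdep : ∀ i, i = i0 ∨ ∃ j, dep j < dep i ∧ B (e i) (e j) ≠ 0) :
    (∀ i, Rad B (w (e i) - e i)) ∨ (∀ i, Rad B (w (w (e i)) + w (e i) + e i)) := by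
  rcases dich h hw hq hn hwn (he i0) with h0 | h0
  · left
    have key : ∀ (m : ℕ) (i : ι), dep i = m → Rad B (w (e i) - e i) := by
      intro m
      induction m using Nat.strong_induction_on with
      | _ m ih =>
        intro i hi
        rcases hdep i with rfl | ⟨j, h1, h2⟩
        · exact h0
        · rcases dich h hw hq hn hwn (he i) with h3 | h3
          · exact h3
          · exfalso
            apply h2
            rw [h.comm]
            exact orth h hw (ih _ (hi ▸ h1) j rfl) h3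
    exact fun i => key _ i rfl
  · right
    have key : ∀ (m : ℕ) (i : ι), dep i = m → Rad B (w (w (e i)) + w (e i) + e i) := by
      intro m
      induction m using Nat.strong_induction_on with
      | _ m ih =>
        intro i hi
        rcases hdep i with rfl | ⟨j, h1, h2⟩
        · exact h0
        · rcases dich h hw hq hn hwn (he i) with h3 | h3
          · exfalso
            apply h2
            exact orth h hw h3 (ih _ (hi ▸ h1) j rfl)
          · exact h3
    exact fun i => key _ i rfl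

/-- **the alternating form `B (w x - x) y` modulo `3` is not zero** -/
theorem exists_beta (h : IsForm B) (hw : Iso B w) (hr : ∀ x, Rad B (w (w x) + w x + x)) {a b c : L} (ha : B a a = 2)
    (hb : B b b = 2) (hc : B c c = 2) (hab : B a b = -1) (hbc : B b c = -1) (hac : B a c = 0) :
    ∃ x y, ¬ (3 : ℤ) ∣ B (w x - x) y := by
  by_contra hcon
  push Not at hcon
  have hq' : ∀ x y, B (w (w x)) y + B (w x) y + B x y = 0 := fun x y => by
    have := hr x y
    rw [h.add, h.add] at this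
    exact this
  have hw3 : ∀ x y, B (w (w (w x))) y = B x y := fun x y => by
    have h1 := hq' (w x) y
    have h2 := hq' x y
    omega
  -- adjacent vectors
  have step : ∀ u v : L, B u u = 2 → B v v = 2 → B u v = -1 →
      (∀ y, B v y = B (w u) y) ∨ (∀ y, B v y = B (w (w u)) y) := by
    intro u v hu hv huv
    have hwu : B (w u) (w u) = 2 := by rw [hw.iso, hu]
    have hwwu : B (w (w u)) (w (w u)) = 2 := by rw [hw.iso, hwu]
    have h1 := hcon u v
    rw [h.sub, huv] at h1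
    have h2 := h.le_two hwu hv
    have h3 := h.neg_two_le hwu hv
    have h4 := hq' u v
    rw [huv] at h4
    have h5 := h.le_two hwwu hv
    have h6 : B (w u) v = 2 ∨ B (w (w u)) v = 2 := by omega
    rcases h6 with h6 | h6
    · left
      intro y
      have := h.rad_of_two hwu hv h6 y
      rw [h.sub] at this
      omega
    · right
      intro y
      have := h.rad_of_two hwwu hv h6 y
      rw [h.sub] at this
      omega
  -- `w` respects the congruence
  have hmap : ∀ u v : L, (∀ y, B u y = B v y) → ∀ y, B (w u) y = B (w v) y := by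
    intro u v huv y
    have h1 : Rad B (u - v) := fun z => by rw [h.sub, huv, sub_self]
    have h2 := h1.map h hw y
    rw [map_sub, h.sub] at h2
    omega
  rcases step a b ha hb hab with h1 | h1 <;> rcases step b c hb hc hbc with h2 | h2
  · -- `b ≈ w a`, `c ≈ w² a`
    have h3 : ∀ y, B c y = B (w (w a)) y := fun y => by rw [h2, hmap _ _ h1]
    have h4 := hq' a a
    rw [← h3, ← h1, h.comm b a, h.comm c a, hab, hac, ha] at h4
    omega
  · have h3 : ∀ y, B c y = B a y := fun y => by rw [h2, hmap _ _ (hmap _ _ h1), hw3]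
    have h4 := h3 a
    rw [h.comm, hac, ha] at h4
    omega
  · have h3 : ∀ y, B c y = B a y := fun y => by rw [h2, hmap _ _ h1, hw3]
    have h4 := h3 a
    rw [h.comm, hac, ha] at h4
    omega
  · have h3 : ∀ y, B c y = B (w a) y := fun y => by
      rw [h2, hmap _ _ (hmap _ _ h1), hmap _ _ (hw3 a)]
    have h4 := hq' a a
    rw [← h3, ← h1, h.comm b a, h.comm c a, hab, hac, ha] at h4
    omega

/-- **rank one is impossible**: `B (w x - x) y` is alternating modulo `3` -/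
theorem alt (h : IsForm B) (hw : Iso B w) (hr : ∀ x, Rad B (w (w x) + w x + x)) (x y : L) :
    (3 : ℤ) ∣ B (w x - x) y + B (w y - y) x ∧ (3 : ℤ) ∣ 2 * B (w x - x) x := by
  have hq' : ∀ x y, B (w (w x)) y + B (w x) y + B x y = 0 := fun x y => by
    have := hr x y
    rw [h.add, h.add] at this
    exact this
  have hw3 : ∀ x y, B (w (w (w x))) y = B x y := fun x y => by
    have h1 := hq' (w x) y
    have h2 := hq' x y
    omega
  have h1 : ∀ x y, B (w y) x = B (w (w x)) y := fun x y => by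
    rw [h.comm, ← hw3, hw.iso]
  constructor
  · rw [h.sub, h.sub, h1 x y, h.comm y x]
    have := hq' x y
    omega
  · rw [h.sub]
    have h2 := hq' x x
    rw [← h1 x x] at h2
    omega

/-- in additive form: `B (w x - x) y ≡ f x * g y` modulo `3` is impossible if the form is not zero -/
theorem not_rank_one (h : IsForm B) (hw : Iso B w) (hr : ∀ x, Rad B (w (w x) + w x + x)) (f g : L → ℤ)
    (hfg : ∀ x y, (3 : ℤ) ∣ B (w x - x) y - f x * g y) (x y : L) : (3 : ℤ) ∣ B (w x - x) y := by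
  have h1 := hfg x y
  have h2 := hfg y x
  have h3 := hfg x x
  have h4 := hfg y y
  obtain ⟨h5, h6⟩ := alt h hw hr x y
  obtain ⟨-, h7⟩ := alt h hw hr y x
  have h3p : Prime (3 : ℤ) := by norm_num
  have h8 : (3 : ℤ) ∣ f x * g x := by
    have : (3 : ℤ) ∣ B (w x - x) x := by (clear * - h6; omega)
    have := dvd_sub this h3
    simpa only [_root_.sub_sub_cancel] using this
  have h9 : (3 : ℤ) ∣ f x * g y ∨ (3 : ℤ) ∣ f y * g x := by
    rcases h3p.dvd_or_dvd h8 with h10 | h10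
    · exact Or.inl (h10.mul_right _)
    · exact Or.inr (h10.mul_left _)
  rcases h9 with h9 | h9
  · have := dvd_add h1 h9
    simpa only [_root_.sub_add_cancel] using this
  · have h10 : (3 : ℤ) ∣ B (w y - y) x := by
      have := dvd_add h2 h9
      simpa only [_root_.sub_add_cancel] using this
    have := dvd_sub h5 h10
    simpa using this

/-- **commuting isometries.** -/
theorem pair_case (h : IsForm B) {g k : L →+ L} (hg : Iso B g) (hk : Iso B k)
    (hc : ∀ x, g (k x) = k (g x)) (hrg : ∀ x, Rad B (g (g x) + g x + x)) (hrk : ∀ x, Rad B (k (k x) + k x + x))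
    (hr1 : ∀ x, Rad B (g (k (g (k x))) + g (k x) + x)) (hr2 : ∀ x, Rad B (g (k (k (g (k (k x))))) + g (k (k x)) + x))
    {a : L} (ha : B a a = 2) : False := by
  have e1 : ∀ x y, B (g (g x)) y + B (g x) y + B x y = 0 := fun x y => by
    have := hrg x y
    rw [h.add, h.add] at this
    exact this
  have e2 : ∀ x y, B (k (k x)) y + B (k x) y + B x y = 0 := fun x y => by
    have := hrk x y
    rw [h.add, h.add] at this
    exact this
  have e3 := hr1 a a
  have e4 := hr2 a a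
  rw [h.add, h.add] at e3 e4
  have k3 : ∀ x y, B (k (k (k x))) y = B x y := fun x y => by
    have h1 := e2 (k x) y
    have h2 := e2 x y
    omega
  simp only [← hc] at e3 e4
  have k3' : Rad B (k (k (k (k a))) - k a) := fun y => by rw [h.sub, k3, sub_self]
  have e6 : B (g (g (k (k (k (k a)))))) a = B (g (g (k a))) a := by
    have h1 := (k3'.map h hg).map h hg a
    rw [map_sub, map_sub, h.sub] at h1
    omega
  have e7 := e1 a a
  have e8 := e1 (k a) a
  have e9 := e1 (k (k a)) a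
  have e10 := e2 a a
  rw [e6] at e4
  omega

end Cfsg.Agent.H572.LatQ
end

-- part: H572/LatForm
section
/-!
# The normalised invariant form of a Cartan matrix (S4350)

`PRankPar.Weyl.form A d x y = ∑ i, d i * x i * ⟨y, α_i^∨⟩`, `d i * A i j` symmetric, `d i > 0`, connected diagram.

* `isForm` : it is a positive semidefinite form in the sense of `LatQ`; `rad_iff` : it is definite;
* `Fam` : a generating connected family of vectors of norm `2`; `eq_one_five`, `quad_three`, `not_nine'`, ...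
-/

set_option autoImplicit false
set_option linter.unusedSectionVars false

namespace Cfsg.Agent.H572.LatForm

open CoxeterSystem Cfsg.Agent.ChevalleyStructure.CoxeterGeom Cfsg.Agent.Tits.Roots Cfsg.Agent.Tits.Core
open Cfsg.Agent.H572.LatQ

variable {I W : Type*} [Fintype I] [DecidableEq I] [Group W] {M : CoxeterMatrix I} (cs : CoxeterSystem M W)
  {A : I → I → ℤ} (h : IsCartan M A)

/-- the normalised form -/
abbrev nf (A : I → I → ℤ) (d : I → ℤ) : (I → ℤ) → (I → ℤ) → ℤ := PRankPar.Weyl.form A d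

/-- a symmetrizer of a connected Cartan matrix -/
structure SymD (A : I → I → ℤ) (d : I → ℤ) (i0 : I) (dep : I → ℕ) : Prop where
  sym : ∀ i j, d i * A i j = d j * A j i
  pos : ∀ i, 0 < d i
  conn : ∀ i, i = i0 ∨ ∃ j, dep j < dep i ∧ A i j ≠ 0

variable {d : I → ℤ} {i0 : I} {dep : I → ℕ}

theorem pairing_sr' (i j : I) : pairing A i (sr j) = A i j := by
  unfold pairing
  rw [Finset.sum_eq_single j]
  · rw [sr_self, mul_one]
  · intro b _ hb
    rw [sr_ne hb, mul_zero]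
  · intro hj
    exact absurd (Finset.mem_univ j) hj

theorem form_diag [Fintype W] (S : SymD A d i0 dep) (i : I) :
    form cs h (sr i) (sr i) * d i0 = form cs h (sr i0) (sr i0) * d i := by
  have key : ∀ (n : ℕ) (i : I), dep i = n →
      form cs h (sr i) (sr i) * d i0 = form cs h (sr i0) (sr i0) * d i := by
    intro n
    induction n using Nat.strong_induction_on with
    | _ n ih =>
      intro i hi
      rcases S.conn i with rfl | ⟨j, h1, h2⟩
      · rfl
      · have h3 := ih _ (by rw [← hi]; exact h1) j rfl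
        have h4 := two_form cs h i (sr j)
        have h5 := two_form cs h j (sr i)
        rw [pairing_sr'] at h4 h5
        rw [form_comm, h4] at h5
        apply mul_left_cancel₀ h2
        calc A i j * (form cs h (sr i) (sr i) * d i0) = (A i j * form cs h (sr i) (sr i)) * d i0 := by ring
          _ = (A j i * form cs h (sr j) (sr j)) * d i0 := by rw [h5]
          _ = A j i * (form cs h (sr j) (sr j) * d i0) := by ring
          _ = A j i * (form cs h (sr i0) (sr i0) * d j) := by rw [h3]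
          _ = form cs h (sr i0) (sr i0) * (d j * A j i) := by ring
          _ = form cs h (sr i0) (sr i0) * (d i * A i j) := by rw [S.sym]
          _ = _ := by ring
  exact key _ i rfl

theorem two_form_eq [Fintype W] (S : SymD A d i0 dep) (x y : I → ℤ) :
    2 * d i0 * form cs h x y = form cs h (sr i0) (sr i0) * nf A d x y := by
  rw [form_comm cs h x y, form_eq_sum, Finset.mul_sum]
  unfold nf PRankPar.Weyl.form
  rw [Finset.mul_sum]
  refine Finset.sum_congr rfl fun i _ => ?_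
  have h1 := two_form cs h i y
  have h2 := form_diag cs h S i
  calc 2 * d i0 * (x i * form cs h y (sr i)) = x i * d i0 * (2 * form cs h y (sr i)) := by ring
    _ = x i * d i0 * (pairing A i y * form cs h (sr i) (sr i)) := by rw [h1]
    _ = x i * pairing A i y * (form cs h (sr i) (sr i) * d i0) := by ring
    _ = x i * pairing A i y * (form cs h (sr i0) (sr i0) * d i) := by rw [h2]
    _ = _ := by ring

include cs h in
theorem nf_nonneg [Finite W] (S : SymD A d i0 dep) (x : I → ℤ) : 0 ≤ nf A d x x := by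
  have := Fintype.ofFinite W
  have h1 := two_form_eq cs h S x x
  have h2 := form_nonneg cs h x
  have h3 := form_pos cs h (sr_ne_zero i0)
  have h4 := S.pos i0
  by_contra hneg
  have h5 : form cs h (sr i0) (sr i0) * nf A d x x < 0 := mul_neg_of_pos_of_neg h3 (not_le.1 hneg)
  have h6 : 0 ≤ 2 * d i0 * form cs h x x := by (clear * - h h2 h4; positivity)
  omega

include cs h in
/-- the form is definite -/
theorem eq_zero_of_nf [Finite W] (S : SymD A d i0 dep) {x : I → ℤ} (hx : nf A d x x = 0) : x = 0 := by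
  have := Fintype.ofFinite W
  by_contra hne
  have h1 := two_form_eq cs h S x x
  have h2 := form_pos cs h hne
  have h4 := S.pos i0
  rw [hx, mul_zero] at h1
  have h6 : 0 < 2 * d i0 * form cs h x x := by positivity
  omega

include cs h in
theorem isForm [Finite W] (S : SymD A d i0 dep) : IsForm (nf A d) where
  add x y z := PRankPar.Weyl.form_add_left d x y z
  comm x y := PRankPar.Weyl.form_comm S.sym x y
  nonneg x := nf_nonneg cs h S x

include cs h in
theorem eq_zero_of_rad [Finite W] (S : SymD A d i0 dep) {x : I → ℤ} (hx : Rad (nf A d) x) : x = 0 :=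
  eq_zero_of_nf cs h S (hx x)

/-- the action of `W` as additive maps -/
def act (w : W) : (I → ℤ) →+ (I → ℤ) := (rep cs h w).toAddMonoidHom

theorem act_apply (w : W) (x : I → ℤ) : act cs h w x = rep cs h w x := rfl

theorem iso_act (S : SymD A d i0 dep) (w : W) : Iso (nf A d) (act cs h w) :=
  ⟨fun x y => PRankPar.Weyl.form_rep h S.sym w x y⟩

theorem iter_act (w : W) (n : ℕ) (x : I → ℤ) : (act cs h w)^[n] x = rep cs h (w ^ n) x := by
  induction n with
  | zero => rw [pow_zero, map_one]; rfl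
  | succ n ih => rw [Function.iterate_succ_apply', ih, pow_succ', rep_mul_apply]; rfl

end Cfsg.Agent.H572.LatForm
end

-- part: H572/HallCore
section
/-!
# Normal Sylow `t`-subgroups of groups of odd order `s^a t^b` (S4350, TEAM HALL)

`QCond A S` : the subgroups `A < L ≤ S` acting quadratically on `A` have `|L : A| < |A : C_A(L)|`.
`core` : `X` of odd order, the only primes dividing `|X|` are `s, t`, `A` abelian and normal in the Sylow `s`-subgroup `S`,
`QCond A S` and `t` does not divide `|N_X(A) : C_X(A)|`. Then a Sylow `t`-subgroup of `X` is normal.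
-/

set_option autoImplicit false

namespace Cfsg.Agent.H572.HallCore

open Subgroup Cfsg
open scoped Pointwise commutatorElement

variable {X : Type*} [Group X]

/-- the subgroups `A < L ≤ S` acting quadratically on `A`, with `L/A` abelian, have `|L : A| < |A : C_A(L)|` -/
def QCond (A S : Subgroup X) : Prop :=
  ∀ L : Subgroup X, A ≤ L → L ≤ S → (∀ u ∈ L, ∀ a ∈ A, ⁅⁅a, u⁆, u⁆ = 1) → (∀ u ∈ L, ∀ v ∈ L, ⁅u, v⁆ ∈ A) → L ≠ A →
    Nat.card L * Nat.card (A ⊓ centralizer (L : Set X) : Subgroup X) < Nat.card A * Nat.card A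

theorem conj_mem_of_norm {A : Subgroup X} {x a : X} (hx : x ∈ normalizer (A : Set X)) (ha : a ∈ A) : x * a * x⁻¹ ∈ A :=
  (mem_normalizer_iff.1 hx a).1 ha

theorem comm_mem_left {A : Subgroup X} {x a : X} (hx : x ∈ normalizer (A : Set X)) (ha : a ∈ A) : ⁅a, x⁆ ∈ A := by
  rw [commutatorElement_def, mul_assoc, mul_assoc]
  refine mul_mem ha ?_
  rw [← mul_assoc]
  exact conj_mem_of_norm hx (inv_mem ha)

theorem comm_mem_right {A : Subgroup X} {x a : X} (hx : x ∈ normalizer (A : Set X)) (ha : a ∈ A) : ⁅x, a⁆ ∈ A := by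
  rw [commutatorElement_def]
  exact mul_mem (conj_mem_of_norm hx ha) (inv_mem ha)

variable [Finite X]

/-- the key step: `n` normalises `B` with `A ≤ B ≤ S`, `S` normalises `A` -/
theorem normalizer_le_of_QCond {A B S : Subgroup X} (hAB : A ≤ B) (hBS : B ≤ S) (hA : ∀ a ∈ A, ∀ b ∈ A, a * b = b * a)
    (hSA : S ≤ normalizer (A : Set X)) (hQ : QCond A S) {n : X} (hn : n ∈ normalizer (B : Set X)) :
    n ∈ normalizer (A : Set X) := by
  set A' : Subgroup X := A.map (MulAut.conj n).toMonoidHom with hA'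
  have memA' : ∀ {y : X}, y ∈ A' ↔ n⁻¹ * y * n ∈ A := by
    intro y
    rw [hA', mem_map]
    constructor
    · rintro ⟨a, ha, rfl⟩
      simpa [MulAut.conj_apply, mul_assoc] using ha
    · intro h
      exact ⟨_, h, by simp only [MulAut.conj_apply, mul_assoc, _root_.MulEquiv.toMonoidHom_eq_coe, _root_.MonoidHom.coe_coe, _root_.mul_inv_cancel_left, _root_.mul_inv_cancel, _root_.mul_one]⟩
  have hA'B : A' ≤ B := by
    rintro _ ⟨a, ha, rfl⟩
    exact conj_mem_of_norm hn (hAB ha)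
  have hn' : n⁻¹ ∈ normalizer (B : Set X) := inv_mem hn
  have hA'c : ∀ a ∈ A', ∀ b ∈ A', a * b = b * a := by
    intro a ha b hb
    have h := hA _ (memA'.1 ha) _ (memA'.1 hb)
    have h2 : n * (n⁻¹ * a * n * (n⁻¹ * b * n)) * n⁻¹ = n * (n⁻¹ * b * n * (n⁻¹ * a * n)) * n⁻¹ := by rw [h]
    simpa only [mul_assoc, _root_.mul_inv_cancel_left, _root_.mul_inv_cancel, _root_.mul_one] using h2
  have hBA : B ≤ normalizer (A : Set X) := hBS.trans hSA
  have hBA' : B ≤ normalizer (A' : Set X) := by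
    intro b hb
    rw [mem_normalizer_iff]
    intro y
    have h1 : n⁻¹ * b * n ∈ B := by
      have := conj_mem_of_norm hn' hb
      simpa using this
    have h2 := (mem_normalizer_iff.1 (hBA h1)) (n⁻¹ * y * n)
    rw [memA', memA']
    have h3 : n⁻¹ * b * n * (n⁻¹ * y * n) * (n⁻¹ * b * n)⁻¹ = n⁻¹ * (b * y * b⁻¹) * n := by group
    rw [h3] at h2
    exact h2
  set L : Subgroup X := A' ⊔ A with hL
  have hcoe : (L : Set X) = (A' : Set X) * (A : Set X) :=
    coe_mul_of_left_le_normalizer_right A' A (hA'B.trans hBA)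
  have hAL : A ≤ L := le_sup_right
  have hLB : L ≤ B := sup_le hA'B hAB
  have hcardA : Nat.card A' = Nat.card A := by
    rw [hA']
    exact Nat.card_congr ((A.equivMapOfInjective _ (MulAut.conj n).injective).symm.toEquiv)
  -- quadratic action
  have hquad : ∀ u ∈ L, ∀ a ∈ A, ⁅⁅a, u⁆, u⁆ = 1 := by
    intro u hu a ha
    have hu' : u ∈ (A' : Set X) * (A : Set X) := by rw [← hcoe]; exact hu
    obtain ⟨x, hx, b, hb, rfl⟩ := Set.mem_mul.1 hu'
    have hxN : x ∈ normalizer (A : Set X) := hBA (hA'B hx)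
    have haN : a ∈ normalizer (A' : Set X) := hBA' (hAB ha)
    -- `⁅a, x b⁆ = ⁅a, x⁆` as `b` commutes with everything in `A`
    have e1 : ⁅a, x * b⁆ = ⁅a, x⁆ := by
      rw [commutatorElement_def, commutatorElement_def]
      have h1 : b * a⁻¹ * b⁻¹ = a⁻¹ := by
        rw [hA b hb a⁻¹ (inv_mem ha), mul_assoc, mul_inv_cancel, mul_one]
      calc a * (x * b) * a⁻¹ * (x * b)⁻¹ = a * x * (b * a⁻¹ * b⁻¹) * x⁻¹ := by group
        _ = a * x * a⁻¹ * x⁻¹ := by rw [h1]
    rw [e1]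
    have hcA : ⁅a, x⁆ ∈ A := comm_mem_left hxN ha
    have hcA' : ⁅a, x⁆ ∈ A' := comm_mem_right haN hx
    rw [commutatorElement_eq_one_iff_mul_comm, ← mul_assoc, hA'c _ hcA' _ hx, mul_assoc, hA _ hcA _ hb, mul_assoc]
  have hab : ∀ u ∈ L, ∀ v ∈ L, ⁅u, v⁆ ∈ A := by
    intro u hu v hv
    have hu' : u ∈ (A' : Set X) * (A : Set X) := by rw [← hcoe]; exact hu
    have hv' : v ∈ (A' : Set X) * (A : Set X) := by rw [← hcoe]; exact hv
    obtain ⟨x, hx, b, hb, rfl⟩ := Set.mem_mul.1 hu'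
    obtain ⟨y, hy, c, hc, rfl⟩ := Set.mem_mul.1 hv'
    have hxN : x ∈ normalizer (A : Set X) := hBA (hA'B hx)
    have hyN : y ∈ normalizer (A : Set X) := hBA (hA'B hy)
    -- `(x b)(y c)(x b)⁻¹(y c)⁻¹`
    have h1 : y⁻¹ * b * y ∈ A := by
      have := conj_mem_of_norm (inv_mem hyN) hb; simpa using this
    have h2 : x * y * x⁻¹ * y⁻¹ = 1 := by
      rw [hA'c x hx y hy]; group
    have h3 : x⁻¹ * c * x ∈ A := by
      have := conj_mem_of_norm (inv_mem hxN) hc; simpa using this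
    have h4 : ⁅x * b, y * c⁆ = (x * y) * ((y⁻¹ * b * y) * c * b⁻¹ * (x⁻¹ * c * x)⁻¹) * (x * y)⁻¹ := by
      have h5 : (x * y)⁻¹ = (y * x)⁻¹ := by rw [hA'c x hx y hy]
      rw [h5, commutatorElement_def]
      group
    rw [h4]
    exact conj_mem_of_norm (mul_mem hxN hyN) (mul_mem (mul_mem (mul_mem h1 hc) (inv_mem hb)) (inv_mem h3))
  -- `A ⊓ A' ≤ A ⊓ C(L)`
  have hle : A' ⊓ A ≤ A ⊓ centralizer (L : Set X) := by
    intro a ha
    refine mem_inf.2 ⟨ha.2, ?_⟩
    rw [mem_centralizer_iff]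
    intro u hu
    have hu' : u ∈ (A' : Set X) * (A : Set X) := by rw [← hcoe]; exact hu
    obtain ⟨x, hx, b, hb, rfl⟩ := Set.mem_mul.1 hu'
    rw [mul_assoc, hA b hb a ha.2, ← mul_assoc, hA'c x hx a ha.1, mul_assoc]
  have hcard : Nat.card L * Nat.card (A' ⊓ A : Subgroup X) = Nat.card A * Nat.card A := by
    have h := Cfsg.Agent.Lib.ProductSet.card_mul_card_inf A' A
    rw [← hcoe, hcardA] at h
    exact h
  have hLA : L = A := by
    by_contra hne
    have h1 := hQ L hAL (hLB.trans hBS) hquad hab hne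
    have h2 : Nat.card (A' ⊓ A : Subgroup X) ≤ Nat.card (A ⊓ centralizer (L : Set X) : Subgroup X) :=
      card_le_of_le hle
    have h3 := Nat.mul_le_mul_left (Nat.card L) h2
    omega
  have hA'A : A' ≤ A := le_sup_left.trans hLA.le
  have hEq : A' = A := by
    apply eq_of_le_of_card_ge hA'A
    rw [hcardA]
  rw [mem_normalizer_iff]
  intro y
  constructor
  · intro hy
    rw [← hEq, memA']
    have : n⁻¹ * (n * y * n⁻¹) * n = y := by group
    rw [this]; exact hy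
  · intro hy
    rw [← hEq, memA'] at hy
    have : n⁻¹ * (n * y * n⁻¹) * n = y := by group
    rw [this] at hy; exact hy

/-- from `QCond`: `C_S(A) = A` -/
theorem centralizer_le_of_QCond {A S : Subgroup X} (hAS : A ≤ S) (hA : ∀ a ∈ A, ∀ b ∈ A, a * b = b * a)
    (hQ : QCond A S) : S ⊓ centralizer (A : Set X) ≤ A := by
  intro u hu
  set L : Subgroup X := zpowers u ⊔ A with hL
  have hcomm : ∀ z ∈ zpowers u, ∀ a ∈ A, z * a = a * z := by
    intro z hz a ha
    obtain ⟨k, rfl⟩ := mem_zpowers_iff.1 hz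
    have h1 : a * u = u * a := (mem_centralizer_iff.1 hu.2) a ha
    exact ((show Commute u a from h1.symm).zpow_left k).eq
  have hN : zpowers u ≤ normalizer (A : Set X) := by
    intro z hz
    rw [mem_normalizer_iff]
    intro y
    constructor
    · intro hy
      rw [hcomm z hz y hy, mul_inv_cancel_right]; exact hy
    · intro hy
      have h1 := hcomm z⁻¹ (inv_mem hz) _ hy
      have h2 : z⁻¹ * (z * y * z⁻¹) * z = y := by group
      rw [← h2, h1, mul_assoc, inv_mul_cancel, mul_one]; exact hy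
  have hcoe : (L : Set X) = (zpowers u : Set X) * (A : Set X) := coe_mul_of_left_le_normalizer_right _ _ hN
  have hLab : ∀ x ∈ L, ∀ y ∈ L, x * y = y * x := by
    intro x hx y hy
    have hx' : x ∈ (zpowers u : Set X) * (A : Set X) := by rw [← hcoe]; exact hx
    have hy' : y ∈ (zpowers u : Set X) * (A : Set X) := by rw [← hcoe]; exact hy
    obtain ⟨z, hz, a, ha, rfl⟩ := Set.mem_mul.1 hx'
    obtain ⟨w, hw, b, hb, rfl⟩ := Set.mem_mul.1 hy'
    have hzw : z * w = w * z := by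
      obtain ⟨k, rfl⟩ := mem_zpowers_iff.1 hz
      obtain ⟨l, rfl⟩ := mem_zpowers_iff.1 hw
      rw [← zpow_add, ← zpow_add, add_comm]
    calc z * a * (w * b) = z * (a * w) * b := by group
      _ = z * (w * a) * b := by rw [hcomm w hw a ha]
      _ = (z * w) * (a * b) := by group
      _ = (w * z) * (b * a) := by rw [hzw, hA a ha b hb]
      _ = w * (z * b) * a := by group
      _ = w * (b * z) * a := by rw [hcomm z hz b hb]
      _ = w * b * (z * a) := by group
  have hAL : A ≤ L := le_sup_right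
  have hLS : L ≤ S := sup_le (by rw [zpowers_le]; exact hu.1) hAS
  by_contra hne
  have hLA : L ≠ A := by
    intro h
    apply hne
    rw [← h]
    exact (le_sup_left : zpowers u ≤ L) (mem_zpowers u)
  have h1 := hQ L hAL hLS (fun v hv a ha => by
    have h2 : ⁅a, v⁆ = 1 := commutatorElement_eq_one_iff_mul_comm.2 (hLab a (hAL ha) v hv)
    rw [h2, commutatorElement_one_left]) (fun v hv w hw => by
    rw [commutatorElement_eq_one_iff_mul_comm.2 (hLab v hv w hw)]; exact one_mem _) hLA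
  have h2 : A ⊓ centralizer (L : Set X) = A := by
    rw [inf_eq_left]
    intro a ha
    rw [mem_centralizer_iff]
    exact fun v hv => hLab v hv a (hAL ha)
  rw [h2] at h1
  have h3 := card_le_of_le hAL
  have h4 : 0 < Nat.card A := Nat.card_pos
  exact absurd h1 (not_lt.2 (Nat.mul_le_mul_right _ h3))

/-- a group with a central Sylow `s`-subgroup `A` : the elements of order prime to `s` form a normal complement of `A` -/
theorem exists_compl {C : Type*} [Group C] [Finite C] {s : ℕ} [hs : Fact s.Prime] (P : Sylow s C)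
    (hP : (P : Subgroup C) ≤ center C) :
    ∃ D : Subgroup C, D.Normal ∧ (∀ x, x ∈ D ↔ ¬ s ∣ orderOf x) ∧ D.index = Nat.card P ∧ ¬ s ∣ Nat.card D := by
  have hN : normalizer ((P : Subgroup C) : Set C) ≤ centralizer ((P : Subgroup C) : Set C) := by
    intro x _
    rw [mem_centralizer_iff]
    intro y hy
    exact (mem_center_iff.1 (hP hy) x).symm
  set D : Subgroup C := (MonoidHom.transferSylow P hN).ker with hD
  have hDc := MonoidHom.ker_transferSylow_isComplement' P hN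
  have hcard : ¬ s ∣ Nat.card D := MonoidHom.not_dvd_card_ker_transferSylow P hN
  have hidx : D.index = Nat.card P := hDc.symm.index_eq_card
  refine ⟨D, inferInstance, fun x => ⟨fun hx h => ?_, fun hx => ?_⟩, hidx, hcard⟩
  · exact hcard (h.trans (by
      have := _root_.orderOf_dvd_natCard (⟨x, hx⟩ : D)
      rwa [Subgroup.orderOf_mk] at this))
  · rw [hD, MonoidHom.mem_ker]
    set y := MonoidHom.transferSylow P hN x with hy
    have h1 : orderOf y ∣ orderOf x := orderOf_map_dvd _ x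
    obtain ⟨k, hk⟩ := (IsPGroup.iff_orderOf.1 P.isPGroup') y
    rw [← orderOf_eq_one_iff]
    rcases Nat.eq_zero_or_pos k with rfl | hk0
    · simpa using hk
    · exact absurd ((dvd_pow_self s hk0.ne').trans (hk ▸ h1)) hx

/-- **The core theorem.** -/
theorem core [Group.IsSolvable X] (hodd : Odd (Nat.card X)) {s t : ℕ} [hs : Fact s.Prime] [ht : Fact t.Prime]
    (hst : s ≠ t) (hX : ∀ r, r.Prime → r ∣ Nat.card X → r = s ∨ r = t) (S : Sylow s X) {A : Subgroup X}
    (hAS : A ≤ S) (hA : ∀ a ∈ A, ∀ b ∈ A, a * b = b * a) (hSA : (S : Subgroup X) ≤ normalizer (A : Set X))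
    (hQ : QCond A (S : Subgroup X))
    (hW : ¬ t ∣ (centralizer (A : Set X)).relIndex (normalizer (A : Set X))) :
    ∃ T : Sylow t X, (T : Subgroup X).Normal := by
  have hAM : A ≤ pPrimePCore s X := S1457.result hodd s S A hAS
    (isMulCommutative_iff_of_setLike.2 fun x hx y hy => hA x hx y hy) hSA
  set O : Subgroup X := pPrimeCore s X with hO
  haveI hOn : O.Normal := Cfsg.Agent.Lib.HallHigman.pPrimeCore_normal s
  have hOc : (Nat.card O).Coprime s := Cfsg.Agent.Lib.HallHigman.pPrimeCore_coprime s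
  have hprime : ∀ H : Subgroup X, ¬ s ∣ Nat.card H → IsPGroup t H := by
    intro H hH
    rw [IsPGroup.iff_card]
    refine ⟨(Nat.card H).primeFactorsList.length, ?_⟩
    apply Nat.eq_prime_pow_of_unique_prime_dvd Nat.card_pos.ne'
    intro d hd hdH
    rcases hX d hd (hdH.trans (card_subgroup_dvd_card H)) with rfl | rfl
    · exact absurd hdH hH
    · rfl
  have hOt : IsPGroup t O := hprime O fun h => by
    have := Nat.dvd_gcd h (dvd_refl s)
    rw [hOc] at this
    exact hs.out.one_lt.ne' (Nat.dvd_one.1 this)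
  set B : Subgroup X := (S : Subgroup X) ⊓ pPrimePCore s X with hB
  have hAB : A ≤ B := le_inf hAS hAM
  have hfr : ∀ x : X, ∃ o ∈ O, ∃ n ∈ normalizer (A : Set X), x = o * n := by
    intro x
    obtain ⟨o, ho, n, hn, rfl⟩ := Dichotomy.Constraint.frattini S x
    exact ⟨o, ho, n, normalizer_le_of_QCond hAB inf_le_left hA hSA hQ hn, rfl⟩
  set N : Subgroup X := normalizer (A : Set X) with hN
  set C : Subgroup X := centralizer (A : Set X) with hC
  have hCN : C ≤ N := centralizer_le_normalizer _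
  have hCnorm : ∀ n ∈ N, ∀ c ∈ C, n * c * n⁻¹ ∈ C := by
    intro n hn c hc
    rw [hC, mem_centralizer_iff] at hc ⊢
    intro a ha
    have h1 : n⁻¹ * a * n ∈ A := by
      have := conj_mem_of_norm (inv_mem hn) ha; simpa using this
    have h2 := hc _ h1
    calc a * (n * c * n⁻¹) = n * ((n⁻¹ * a * n) * c) * n⁻¹ := by group
      _ = n * (c * (n⁻¹ * a * n)) * n⁻¹ := by rw [h2]
      _ = n * c * n⁻¹ * a := by group
  have hAC : A ≤ C := by
    intro a ha
    rw [hC, mem_centralizer_iff]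
    exact fun b hb => hA b hb a ha
  -- `A` is a Sylow subgroup of `C`
  have hSC : (S : Subgroup X) ⊓ C ≤ A := centralizer_le_of_QCond hAS hA hQ
  have hAidx : ¬ s ∣ A.relIndex C := by
    have h1 : A = (S : Subgroup X) ⊓ C := le_antisymm (le_inf hAS hAC) hSC
    have h2 : A.relIndex C = (S : Subgroup X).relIndex C := by
      rw [h1, inf_relIndex_right]
    rw [h2]
    -- `C` is normal in `N`, `S ≤ N`
    haveI : (C.subgroupOf N).Normal := by
      refine ⟨fun c hc n => ?_⟩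
      rw [mem_subgroupOf] at hc ⊢
      exact hCnorm n n.2 c hc
    have h5 := Cfsg.Agent.Lib.SylowNormalInf.not_dvd_relIndex (S.subtype hSA) (C.subgroupOf N)
    rwa [Sylow.coe_subtype, relIndex_subgroupOf hCN] at h5
  -- the normal complement of `A` in `C`
  have hPp : IsPGroup s (A.subgroupOf C) := (S.isPGroup'.to_le hAS).comap_of_injective C.subtype C.subtype_injective
  set P : Sylow s C := hPp.toSylow hAidx with hPdef
  have hPcoe : (P : Subgroup C) = A.subgroupOf C := rfl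
  obtain ⟨D₀, hD₀n, hD₀m, hD₀i, hD₀c⟩ := exists_compl P (by
    rw [hPcoe]
    intro c hc
    rw [mem_center_iff]
    intro g
    rw [mem_subgroupOf] at hc
    have h1 : (g : X) ∈ centralizer (A : Set X) := g.2
    rw [mem_centralizer_iff] at h1
    exact Subtype.ext (h1 c hc).symm)
  set D : Subgroup X := D₀.map C.subtype with hD
  have hDC : D ≤ C := by
    rintro _ ⟨d, -, rfl⟩; exact d.2
  have hDm : ∀ x, x ∈ D ↔ x ∈ C ∧ ¬ s ∣ orderOf x := by
    intro x
    constructor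
    · rintro ⟨d, hd, rfl⟩
      refine ⟨d.2, ?_⟩
      have := (hD₀m d).1 hd
      rwa [← Subgroup.orderOf_coe] at this
    · rintro ⟨hx, hx2⟩
      refine ⟨⟨x, hx⟩, (hD₀m _).2 ?_, rfl⟩
      rwa [Subgroup.orderOf_mk]
  have hDnorm : ∀ n ∈ N, ∀ d ∈ D, n * d * n⁻¹ ∈ D := by
    intro n hn d hd
    rw [hDm] at hd ⊢
    refine ⟨hCnorm n hn d hd.1, ?_⟩
    have : orderOf (n * d * n⁻¹) = orderOf d := orderOf_injective (MulAut.conj n).toMonoidHom (MulAut.conj n).injective d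
    rw [this]; exact hd.2
  have hDcard : ¬ s ∣ Nat.card D := by
    rw [hD, Nat.card_congr (D₀.equivMapOfInjective C.subtype C.subtype_injective).symm.toEquiv]
    exact hD₀c
  have hDt : IsPGroup t D := hprime D hDcard
  -- the Sylow subgroup
  set T : Subgroup X := O ⊔ D with hT
  have hTt : IsPGroup t T := IsPGroup.to_sup_of_normal_left hOt hDt
  have hTn : T.Normal := by
    refine ⟨fun y hy x => ?_⟩
    obtain ⟨o, ho, n, hn, rfl⟩ := hfr x
    have hn2 : n * y * n⁻¹ ∈ T := by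
      rw [hT] at hy
      obtain ⟨o', ho', d, hd, rfl⟩ := mem_sup_of_normal_left.1 hy
      have h1 : n * (o' * d) * n⁻¹ = (n * o' * n⁻¹) * (n * d * n⁻¹) := by group
      rw [h1]
      exact mul_mem ((le_sup_left : O ≤ T) (hOn.conj_mem o' ho' n)) ((le_sup_right : D ≤ T) (hDnorm n hn d hd))
    have h2 : o * n * y * (o * n)⁻¹ = o * (n * y * n⁻¹) * o⁻¹ := by group
    rw [h2]
    have ho2 : o ∈ T := (le_sup_left : O ≤ T) ho
    exact mul_mem (mul_mem ho2 hn2) (inv_mem ho2)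
  have hidx : ¬ t ∣ T.index := by
    have hTN : T ⊔ N = ⊤ := by
      rw [eq_top_iff]
      intro x _
      obtain ⟨o, ho, n, hn, rfl⟩ := hfr x
      exact mul_mem ((le_sup_left : T ≤ T ⊔ N) ((le_sup_left : O ≤ T) ho)) ((le_sup_right : N ≤ T ⊔ N) hn)
    have h1 : T.index = T.relIndex N := by
      rw [← relIndex_top_right, ← hTN, relIndex_sup_left]
    rw [h1]
    intro h2
    have h3 : t ∣ D.relIndex N := h2.trans (relIndex_dvd_of_le_left N le_sup_right)
    rw [← relIndex_mul_relIndex D C N hDC hCN] at h3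
    rcases (Nat.Prime.dvd_mul ht.out).1 h3 with h4 | h4
    · -- `|C : D| = |A|`
      have h5 : D.relIndex C = Nat.card P := by
        rw [← hD₀i, hD]
        rw [relIndex, subgroupOf, comap_map_eq_self_of_injective C.subtype_injective]
      rw [h5] at h4
      obtain ⟨k, hk⟩ := (IsPGroup.iff_card.1 P.isPGroup')
      rw [hk] at h4
      exact hst ((Nat.prime_dvd_prime_iff_eq ht.out hs.out).1 (ht.out.dvd_of_dvd_pow h4)).symm
    · exact hW h4
  exact ⟨hTt.toSylow hidx, hTn⟩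

end Cfsg.Agent.H572.HallCore
end

-- part: H572/HallPair
section
/-!
# From the core lemma to `PairN` (S4350)

`pairN_of_core` : a Sylow `s`-subgroup `S` of `G`, an abelian subgroup `A` normal in `S` with `QCond A S`, and `t` not dividing
`|X : C_X(A)|` for the `{s, t}`-subgroups `X` with `S ≤ X ≤ N(A)`: then `PairN t s G`.
-/

set_option autoImplicit false

namespace Cfsg.Agent.H572.HallPair

open Subgroup Cfsg Cfsg.Agent.H572.HallCore Cfsg.Agent.H553.OddHall Cfsg.Agent.H988.CPi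
open scoped Pointwise commutatorElement

variable {G : Type*} [Group G] [Finite G]

omit [Finite G] in
theorem qcond_subgroupOf {A S X : Subgroup G} (hAS : A ≤ S) (hSX : S ≤ X) (hQ : QCond A S) :
    QCond (A.subgroupOf X) (S.subgroupOf X) := by
  intro L hAL hLS hq hc hne
  have hAX : A ≤ X := hAS.trans hSX
  set L' : Subgroup G := L.map X.subtype with hL'
  have h1 : A ≤ L' := by
    intro a ha
    exact ⟨⟨a, hAX ha⟩, hAL (mem_subgroupOf.2 ha), rfl⟩
  have h2 : L' ≤ S := by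
    rintro _ ⟨u, hu, rfl⟩
    exact mem_subgroupOf.1 (hLS hu)
  have h3 : ∀ u ∈ L', ∀ a ∈ A, ⁅⁅a, u⁆, u⁆ = 1 := by
    rintro _ ⟨u, hu, rfl⟩ a ha
    have := congrArg X.subtype (hq u hu ⟨a, hAX ha⟩ (mem_subgroupOf.2 ha))
    simpa only [_root_.Subgroup.subtype_apply, _root_.map_commutatorElement, _root_.OneMemClass.coe_one] using this
  have h4 : ∀ u ∈ L', ∀ v ∈ L', ⁅u, v⁆ ∈ A := by
    rintro _ ⟨u, hu, rfl⟩ _ ⟨v, hv, rfl⟩
    exact mem_subgroupOf.1 (hc u hu v hv)
  have h5 : L' ≠ A := by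
    intro h
    apply hne
    ext u
    rw [mem_subgroupOf, ← h]
    constructor
    · intro hu; exact ⟨u, hu, rfl⟩
    · rintro ⟨v, hv, e⟩
      have : v = u := Subtype.ext e
      rwa [← this]
  have h6 := hQ L' h1 h2 h3 h4 h5
  have c1 : Nat.card L' = Nat.card L :=
    (Nat.card_congr (L.equivMapOfInjective X.subtype X.subtype_injective).toEquiv).symm
  have c2 : Nat.card (A.subgroupOf X) = Nat.card A := Nat.card_congr (subgroupOfEquivOfLe hAX).toEquiv
  have c3 : Nat.card (A.subgroupOf X ⊓ centralizer (L : Set X) : Subgroup X) =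
      Nat.card (A ⊓ centralizer (L' : Set G) : Subgroup G) := by
    have h7 : (A.subgroupOf X ⊓ centralizer (L : Set X)) = (A ⊓ centralizer (L' : Set G)).subgroupOf X := by
      ext u
      rw [mem_subgroupOf, mem_inf, mem_inf, mem_subgroupOf, mem_centralizer_iff, mem_centralizer_iff]
      refine and_congr_right fun _ => ?_
      constructor
      · rintro h _ ⟨v, hv, rfl⟩
        exact congrArg Subtype.val (h v hv)
      · intro h v hv
        exact Subtype.ext (h v ⟨v, hv, rfl⟩)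
    rw [h7]
    exact Nat.card_congr (subgroupOfEquivOfLe (inf_le_left.trans hAX)).toEquiv
  rw [c2, c3, ← c1]
  exact h6

/-- the core lemma for an `{s, t}`-subgroup containing the Sylow `s`-subgroup `S` -/
theorem ns_of_core {s t : ℕ} [hs : Fact s.Prime] [ht : Fact t.Prime] (hs2 : s ≠ 2) (ht2 : t ≠ 2) (hst : s ≠ t)
    (S : Sylow s G) {A : Subgroup G} (hAS : A ≤ S) (hA : ∀ a ∈ A, ∀ b ∈ A, a * b = b * a)
    (hSA : (S : Subgroup G) ≤ normalizer (A : Set G)) (hQ : QCond A (S : Subgroup G))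
    (hW : ∀ X : Subgroup G, (∀ r, r.Prime → r ∣ Nat.card X → r = s ∨ r = t) → (S : Subgroup G) ≤ X →
      X ≤ normalizer (A : Set G) → ¬ t ∣ (centralizer (A : Set G)).relIndex X)
    {X : Subgroup G} (hX : ∀ r, r.Prime → r ∣ Nat.card X → r = s ∨ r = t) (hSX : (S : Subgroup G) ≤ X) : NS t X := by
  have hodd : Odd (Nat.card X) := by
    rw [← Nat.not_even_iff_odd, even_iff_two_dvd]
    intro h
    rcases hX 2 Nat.prime_two h with h | h
    · exact hs2 h.symm
    · exact ht2 h.symm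
  have hsol : Group.IsSolvable X := Cfsg.Agent.S0205.result hodd
  have hAX : A ≤ X := hAS.trans hSX
  obtain ⟨T, hT⟩ := core (X := X) hodd hst hX (S.subtype hSX) (A := A.subgroupOf X) (by
      rw [Sylow.coe_subtype]
      exact subgroupOf_mono X hAS) (by
      rintro ⟨a, _⟩ ha ⟨b, _⟩ hb
      exact Subtype.ext (hA a (mem_subgroupOf.1 ha) b (mem_subgroupOf.1 hb))) (by
      rw [Sylow.coe_subtype]
      intro u hu
      rw [mem_subgroupOf] at hu
      have h1 := mem_normalizer_iff.1 (hSA hu)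
      rw [mem_normalizer_iff]
      intro y
      rw [mem_subgroupOf, mem_subgroupOf]
      exact h1 y) (by
      rw [Sylow.coe_subtype]
      exact qcond_subgroupOf hAS hSX hQ) (by
      have h1 := hW (normalizer (A : Set G) ⊓ X) (fun r hr hd => hX r hr (hd.trans (card_dvd_of_le inf_le_right)))
        (le_inf hSA hSX) inf_le_left
      have e1 : centralizer ((A.subgroupOf X : Subgroup X) : Set X) = (centralizer (A : Set G)).subgroupOf X := by
        ext u
        rw [mem_subgroupOf, mem_centralizer_iff, mem_centralizer_iff]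
        constructor
        · intro h a ha
          exact congrArg Subtype.val (h ⟨a, hAX ha⟩ (mem_subgroupOf.2 ha))
        · rintro h ⟨a, _⟩ ha
          exact Subtype.ext (h a (mem_subgroupOf.1 ha))
      have e2 : normalizer ((A.subgroupOf X : Subgroup X) : Set X) = (normalizer (A : Set G) ⊓ X).subgroupOf X := by
        ext u
        rw [mem_subgroupOf, mem_inf, mem_normalizer_iff, mem_normalizer_iff]
        constructor
        · intro h
          refine ⟨fun y => ?_, u.2⟩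
          constructor
          · intro hy
            have := (h ⟨y, hAX hy⟩).1 (mem_subgroupOf.2 hy)
            exact mem_subgroupOf.1 this
          · intro hy
            have hyX : y ∈ X := by
              have h2 := mul_mem (mul_mem (inv_mem u.2) (hAX hy)) u.2
              have h3 : (u : G)⁻¹ * (u * y * (u : G)⁻¹) * u = y := by group
              rwa [h3] at h2
            have := (h ⟨y, hyX⟩).2 (mem_subgroupOf.2 hy)
            exact mem_subgroupOf.1 this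
        · rintro ⟨h, -⟩ y
          rw [mem_subgroupOf, mem_subgroupOf]
          exact h y
      rw [e1, e2, relIndex_subgroupOf inf_le_right]
      exact h1)
  exact ns_of_sylow T hT

theorem isPiHall_smul {π : Set ℕ} {X : Subgroup G} (hX : IsPiHall π X) (g : G) : IsPiHall π (MulAut.conj g • X) := by
  rw [isPiHall_iff] at *
  have h1 : Nat.card (MulAut.conj g • X : Subgroup G) = Nat.card X :=
    (Nat.card_congr (Subgroup.equivSMul (MulAut.conj g) X).toEquiv).symm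
  have h2 : (MulAut.conj g • X : Subgroup G).index = X.index := by
    have e1 := (MulAut.conj g • X : Subgroup G).card_mul_index
    have e2 := X.card_mul_index
    rw [h1] at e1
    exact Nat.eq_of_mul_eq_mul_left Nat.card_pos (e1.trans e2.symm)
  rw [h1, h2]
  exact hX

/-- **`PairN` from the core lemma.** -/
theorem pairN_of_core {s t : ℕ} [hs : Fact s.Prime] [ht : Fact t.Prime] (hs2 : s ≠ 2) (ht2 : t ≠ 2) (hst : s ≠ t)
    (S : Sylow s G) {A : Subgroup G} (hAS : A ≤ S) (hA : ∀ a ∈ A, ∀ b ∈ A, a * b = b * a)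
    (hSA : (S : Subgroup G) ≤ normalizer (A : Set G)) (hQ : QCond A (S : Subgroup G))
    (hW : ∀ X : Subgroup G, (∀ r, r.Prime → r ∣ Nat.card X → r = s ∨ r = t) → (S : Subgroup G) ≤ X →
      X ≤ normalizer (A : Set G) → ¬ t ∣ (centralizer (A : Set G)).relIndex X) : PairN t s G := by
  intro X hX
  -- a Sylow `s`-subgroup of `G` in `X`
  have hX' := isPiHall_iff.1 hX
  have hidx : ¬ s ∣ X.index := fun h => hX'.2 s hs.out (Or.inl rfl) h
  obtain ⟨Q⟩ : Nonempty (Sylow s X) := inferInstance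
  have hQi : ¬ s ∣ ((Q : Subgroup X).map X.subtype).index := by
    have h1 : ((Q : Subgroup X).map X.subtype).index = (Q : Subgroup X).index * X.index := by
      have := index_map (Q : Subgroup X) X.subtype
      rwa [X.ker_subtype, sup_bot_eq, range_subtype] at this
    rw [h1]
    exact hs.out.not_dvd_mul Q.not_dvd_index hidx
  set Q' : Sylow s G := (Q.2.map X.subtype).toSylow hQi with hQ'
  have hQ'X : (Q' : Subgroup G) ≤ X := by
    rintro _ ⟨u, -, rfl⟩
    exact u.2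
  obtain ⟨g, hg⟩ := MulAction.exists_smul_eq G Q' S
  have hSX : (S : Subgroup G) ≤ MulAut.conj g • X := by
    rw [← hg]
    exact Subgroup.pointwise_smul_le_pointwise_smul_iff.2 hQ'X
  have hX2 := isPiHall_smul hX g
  have hpr : ∀ r, r.Prime → r ∣ Nat.card (MulAut.conj g • X : Subgroup G) → r = s ∨ r = t := fun r hr hd =>
    (isPiHall_iff.1 hX2).1 r hr hd
  have h1 := ns_of_core hs2 ht2 hst S hAS hA hSA hQ hW hpr hSX
  exact h1.of_equiv (Subgroup.equivSMul (MulAut.conj g) X).symm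

end Cfsg.Agent.H572.HallPair
end

-- part: H572/ExcB
section
/-!
# `QCond` for the Sylow subgroups in the normaliser of a torus (S4350, exceptional groups)

* `Tst` : test elements of `A`;
* `qcond_five`, `qcond_three` : `QCond A S`.
-/

set_option autoImplicit false
set_option linter.unusedSectionVars false

namespace Cfsg.Agent.H572.ExcB

open CoxeterSystem Cfsg Cfsg.Lie Cfsg.Lie.ChevalleyDatum
open Cfsg.Agent.ChevalleyStructure Cfsg.Agent.ChevalleyStructure.Elts Cfsg.Agent.ChevalleyStructure.CoxeterGeom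
  Cfsg.Agent.ChevalleyStructure.CoxeterGeomTypes Cfsg.Agent.ChevalleyStructure.NPerm
open Cfsg.Agent.Tits.Roots Cfsg.Agent.Tits.Core Cfsg.Agent.Nodes Cfsg.Agent.Nodes.Reps Cfsg.Agent.Nodes.BNOf
  Cfsg.Agent.Nodes.RGDChev Cfsg.Agent.Nodes.Bruhat
open Cfsg.Agent.KFacts.RgdField Cfsg.Agent.KFacts.RgdChevCoord Cfsg.Agent.BpExc.TorCent Cfsg.Agent.BpExc.TorChev
open Cfsg.Agent.GpExc.Field Cfsg.Agent.BpExc.Tow Cfsg.Agent.BpExc.TowChev Cfsg.Agent.BpExc.Fr
  Cfsg.Agent.BpExc.LangFr Cfsg.Agent.H129.TorusChar Cfsg.Agent.H129.TorusMain Cfsg.Agent.H123.ExcZ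
open Cfsg.Agent.BpExc Cfsg.Agent.H795.LangT Cfsg.Agent.H795.Core Cfsg.Agent.H795.NotAbT
open Cfsg.Agent.H572.ExcA Cfsg.Agent.H572.LatQ Cfsg.Agent.H572.LatForm Cfsg.Agent.H572.HallCore
open Subgroup
open scoped commutatorElement

universe u v

variable {D : ChevalleyDatum} {l : ℕ} {M : CoxeterMatrix (Fin l)} {hp : IsType D l M}
  {k : Type u} [Field k] [IsAlgClosed k] {hk : LocFin k} {r : ℕ} [Fact r.Prime] [CharP k r]
  {G : Type v} [Group G] {κ : G →* ↥(D.group k)}

/-- the action of the Weyl group -/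
abbrev ac (hp : IsType D l M) (w : M.Group) : (Fin l → ℤ) →+ (Fin l → ℤ) := _root_.Cfsg.Agent.H572.LatForm.act M.toCoxeterSystem hp.isCartan w

theorem ac_mul (v w : M.Group) (x : Fin l → ℤ) : ac hp (v * w) x = ac hp v (ac hp w x) := by
  show rep M.toCoxeterSystem hp.isCartan (v * w) x = _
  rw [rep_mul_apply]
  rfl

theorem ac_one (x : Fin l → ℤ) : ac hp 1 x = x := by
  show rep M.toCoxeterSystem hp.isCartan 1 x = x
  rw [map_one, Module.End.one_apply]

theorem ac_ext {v w : M.Group} (h : ∀ x, ac hp v x = ac hp w x) : v = w :=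
  rep_injective M.toCoxeterSystem hp.isCartan (LinearMap.ext h)

theorem zpow_eq_pow_val {s : ℕ} [NeZero s] {ζ : k} (hζ : IsPrimitiveRoot ζ s) (z : ℤ) :
    ζ ^ ((z : ZMod s).val) = ζ ^ z := by
  have h0 : ζ ≠ 0 := hζ.ne_zero (NeZero.ne s)
  rw [← zpow_natCast]
  have h1 : (((z : ZMod s).val : ℤ)) = z % s := ZMod.val_intCast z
  rw [h1]
  conv_rhs => rw [← Int.emod_add_mul_ediv z s]
  rw [zpow_add₀ h0, zpow_mul, zpow_natCast, hζ.pow_eq_one, one_zpow, mul_one]

/-- the characters of commutators -/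
theorem char_comm {a u : G} (ha : a ∈ TG κ) {w : M.Group} (hu : RP hp hk r w (κ u)) (x : Fin l → ℤ) :
    cX hp (κ ⁅a, u⁆) x = cX hp (κ a) (x - ac hp w⁻¹ x) := by
  have hmc := isMC_cX hp (t := κ a) ha
  have h1 : κ ⁅a, u⁆ * (κ u * κ a * (κ u)⁻¹) = κ a := by
    rw [commutatorElement_def, map_mul, map_mul, map_mul, map_inv, map_inv]
    group
  have h2 : κ u * κ a * (κ u)⁻¹ ∈ TT D k := hu.conj_mem ha
  have h3 : κ ⁅a, u⁆ ∈ TT D k := by
    have h4 : κ ⁅a, u⁆ = κ a * (κ u * κ a * (κ u)⁻¹)⁻¹ := by rw [eq_mul_inv_iff_mul_eq]; exact h1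
    rw [h4]
    exact mul_mem ha (inv_mem h2)
  have h4 := cX_mul hp h3 h2 x
  rw [h1, hu.char_inv ha] at h4
  have h5 : cX hp (κ a) x = cX hp (κ a) (x - ac hp w⁻¹ x) * cX hp (κ a) (rep M.toCoxeterSystem hp.isCartan w⁻¹ x) := by
    rw [← hmc.add]
    congr 1
    rw [act_apply, sub_add_cancel]
  rw [h5] at h4
  exact (mul_right_cancel₀ (hmc.ne_zero _) h4).symm

theorem comm_mem_TG {a u : G} (ha : a ∈ TG κ) (hu : u ∈ NG hp hk r κ) : ⁅a, u⁆ ∈ TG κ := by
  have h1 := conj_mem_TG κ hu (inv_mem ha)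
  have h2 : ⁅a, u⁆ = a * (u * a⁻¹ * u⁻¹) := by rw [commutatorElement_def]; group
  rw [h2]
  exact mul_mem ha h1

variable (κ) in
/-- test elements: for every `y` an element of `A` with the characters `ζ ^ B x y` -/
def Tst (hp : IsType D l M) (A : Subgroup G) (ζ : k) (B : (Fin l → ℤ) → (Fin l → ℤ) → ℤ) : Prop :=
  ∀ y, ∃ a ∈ A, ∀ x, cX hp (κ a) x = ζ ^ (B x y)

variable {A S : Subgroup G} {B : (Fin l → ℤ) → (Fin l → ℤ) → ℤ} {s : ℕ} {ζ : k}

/-- quadratic action in terms of the form -/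
theorem quad_of_comm (hAT : A ≤ TG κ) (hζ : IsPrimitiveRoot ζ s) (ht : Tst κ hp A ζ B) {u : G}
    {w : M.Group} (hu : RP hp hk r w (κ u)) (hq : ∀ a ∈ A, ⁅⁅a, u⁆, u⁆ = 1) : Quad B s (ac hp w⁻¹) := by
  intro x y
  obtain ⟨a, ha, hax⟩ := ht y
  have haT := hAT ha
  have h1 : cX hp (κ ⁅⁅a, u⁆, u⁆) x = 1 := by rw [hq a ha, map_one, cX_one]
  rw [char_comm (comm_mem_TG haT ⟨w, hu⟩) hu, char_comm haT hu, hax, hζ.zpow_eq_one_iff_dvd] at h1
  have h2 : x - ac hp w⁻¹ x - ac hp w⁻¹ (x - ac hp w⁻¹ x) =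
      ac hp w⁻¹ (ac hp w⁻¹ x) - ac hp w⁻¹ x - (ac hp w⁻¹ x - x) := by
    rw [map_sub]
    abel
  rw [h2] at h1
  exact h1

/-- the data on the form -/
structure FData (hp : IsType D l M) (B : (Fin l → ℤ) → (Fin l → ℤ) → ℤ) (V : Subgroup M.Group) {ι : Type*}
    (e : ι → (Fin l → ℤ)) : Prop where
  form : IsForm B
  iso : ∀ w ∈ V, Iso B (ac hp w)
  norm : ∀ i, B (e i) (e i) = 2
  fix : ∀ w ∈ V, (∀ i, Rad B (ac hp w (e i) - e i)) → w = 1

variable {V : Subgroup M.Group} {ι : Type*} {e : ι → (Fin l → ℤ)}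

/-- **`s ≥ 5`.** -/
theorem qcond_five (hs : s.Prime) (hs5 : 5 ≤ s) (hAT : A ≤ TG κ) (hSN : S ≤ NG hp hk r κ) (hSA : S ⊓ TG κ ≤ A)
    (hV : im hp hk r κ S ≤ V) (hF : FData hp B V e) (hζ : IsPrimitiveRoot ζ s) (ht : Tst κ hp A ζ B) : QCond A S := by
  intro L hAL hLS hq _ hne
  exfalso
  apply hne
  apply le_antisymm _ hAL
  intro u hu
  obtain ⟨w, hw⟩ := hSN (hLS hu)
  have hwV : w⁻¹ ∈ V := inv_mem (hV ⟨u, hLS hu, hw⟩)
  have h1 := quad_of_comm hAT hζ ht hw (hq u hu)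
  have h2 : w⁻¹ = 1 := hF.fix _ hwV fun i => five hF.form (hF.iso _ hwV) hs hs5 h1 (hF.norm i)
  rw [inv_eq_one] at h2
  rw [h2] at hw
  exact hSA ⟨hLS hu, hw.mem_of_one⟩

theorem ac_iter (w : M.Group) (n : ℕ) (x : Fin l → ℤ) : (ac hp w)^[n] x = ac hp (w ^ n) x := iter_act _ _ w n x

/-- the elements of order a power of `3` -/
theorem alt_three (hF : FData hp B V e) (i0 : ι) (dep : ι → ℕ)
    (hdep : ∀ i, i = i0 ∨ ∃ j, dep j < dep i ∧ B (e i) (e j) ≠ 0)
    (hspan : AddSubgroup.closure (Set.range e) = ⊤) {w : M.Group} (hwV : w ∈ V) (hq : Quad B 3 (ac hp w))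
    {j : ℕ} (hw : w ^ 3 ^ j = 1) : w = 1 ∨ ∀ x, Rad B (ac hp w (ac hp w x) + ac hp w x + x) := by
  have hiso := hF.iso _ hwV
  rcases dich_all hF.form hiso hq (n := 3 ^ j) (Odd.pow (by decide)) (fun x => by
    rw [ac_iter, hw, ac_one, sub_self]; exact Rad.zero hF.form) hF.norm i0 dep hdep with h1 | h1
  · exact Or.inl (hF.fix _ hwV h1)
  · right
    intro x
    have hx : x ∈ AddSubgroup.closure (Set.range e) := by rw [hspan]; exact AddSubgroup.mem_top _
    induction hx using AddSubgroup.closure_induction with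
    | mem y hy =>
      obtain ⟨i, rfl⟩ := hy
      exact h1 i
    | zero =>
      rw [map_zero, map_zero, add_zero, add_zero]
      exact Rad.zero hF.form
    | add y z _ _ hy hz =>
      have e1 : ac hp w (ac hp w (y + z)) + ac hp w (y + z) + (y + z) =
        (ac hp w (ac hp w y) + ac hp w y + y) + (ac hp w (ac hp w z) + ac hp w z + z) := by
        rw [map_add, map_add]; abel
      rw [e1]
      exact hy.add hF.form hz
    | neg y _ hy =>
      have e1 : ac hp w (ac hp w (-y)) + ac hp w (-y) + (-y) = -(ac hp w (ac hp w y) + ac hp w y + y) := by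
        rw [map_neg, map_neg]; abel
      rw [e1]
      exact hy.neg hF.form

theorem rp_pow' {w : M.Group} {g : ↥(D.group k)} (h : RP hp hk r w g) (n : ℕ) : RP hp hk r (w ^ n) (g ^ n) := by
  induction n with
  | zero => rw [pow_zero, pow_zero]; exact RP.one hp hk r
  | succ n ih => rw [pow_succ, pow_succ]; exact ih.mul h

variable [Finite G]

/-- `|[A, u]| > 3` -/
theorem card_range_gt (hAT : A ≤ TG κ) (hinj : Function.Injective κ) (hAp : IsPGroup 3 A)
    (hF : FData hp B V e) (hζ : IsPrimitiveRoot ζ 3) (ht : Tst κ hp A ζ B)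
    {a b c : Fin l → ℤ} (ha : B a a = 2) (hb : B b b = 2) (hc : B c c = 2) (hab : B a b = -1) (hbc : B b c = -1)
    (hac : B a c = 0) {u : G} (huA : u ∈ normalizer (A : Set G)) {w : M.Group} (hw : RP hp hk r w (κ u))
    (hwV : w⁻¹ ∈ V) (hr : ∀ x, Rad B (ac hp w⁻¹ (ac hp w⁻¹ x) + ac hp w⁻¹ x + x)) :
    3 * Nat.card (A ⊓ centralizer {u} : Subgroup G) < Nat.card A := by
  classical
  have hcomm : ∀ x ∈ A, ∀ y ∈ A, x * y = y * x := fun x hx y hy => TG_comm κ hinj hp (hAT hx) (hAT hy)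
  -- the homomorphism
  let ψ : A →* G :=
    { toFun := fun x => ⁅(x : G), u⁆
      map_one' := by
        show ⁅(1 : G), u⁆ = 1
        rw [commutatorElement_one_left]
      map_mul' := fun x y => by
        show ⁅(x : G) * y, u⁆ = ⁅(x : G), u⁆ * ⁅(y : G), u⁆
        have h1 : ⁅(x : G) * y, u⁆ = x * ⁅(y : G), u⁆ * (x : G)⁻¹ * ⁅(x : G), u⁆ := by
          rw [commutatorElement_def, commutatorElement_def, commutatorElement_def]; group
        rw [h1, hcomm x x.2 _ (comm_mem_left huA y.2), mul_inv_cancel_right]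
        exact hcomm _ (comm_mem_left huA y.2) _ (comm_mem_left huA x.2) }
  have hψA : ∀ x : A, ψ x ∈ A := fun x => comm_mem_left huA x.2
  have hrangeA : ψ.range ≤ A := by
    rintro _ ⟨x, rfl⟩
    exact hψA x
  have hker : Nat.card ψ.ker = Nat.card (A ⊓ centralizer {u} : Subgroup G) := by
    have h1 : ψ.ker = (A ⊓ centralizer {u}).subgroupOf A := by
      ext x
      rw [MonoidHom.mem_ker, Subgroup.mem_subgroupOf, Subgroup.mem_inf, Subgroup.mem_centralizer_singleton_iff]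
      have h2 : ψ x = 1 ↔ (x : G) * u = u * x := commutatorElement_eq_one_iff_mul_comm
      rw [h2]
      exact ⟨fun h => ⟨x.2, h⟩, fun h => h.2⟩
    rw [h1]
    exact Nat.card_congr (Subgroup.subgroupOfEquivOfLe inf_le_left).toEquiv
  have hcard : Nat.card ψ.ker * Nat.card ψ.range = Nat.card A := by
    have h2 := ψ.ker.card_mul_index
    rwa [Subgroup.index_ker] at h2
  rw [← hker, ← hcard]
  have hkpos : 0 < Nat.card ψ.ker := Nat.card_pos
  have hrgt : 3 < Nat.card ψ.range := by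
    by_contra hcon
    have hle : Nat.card ψ.range ≤ 3 := not_lt.1 hcon
    -- the range is cyclic of order `1` or `3`
    have hrp : IsPGroup 3 ψ.range := hAp.to_le hrangeA
    obtain ⟨n, hn⟩ := (IsPGroup.iff_card (p := 3)).1 hrp
    have hn1 : n ≤ 1 := by
      by_contra hn1
      have : 3 ^ 2 ≤ 3 ^ n := Nat.pow_le_pow_right (by norm_num) (by omega)
      omega
    have hcyc : ∃ c ∈ ψ.range, c ^ 3 = 1 ∧ ∀ x ∈ ψ.range, ∃ i : ℕ, x = c ^ i := by
      have h3 : Nat.card ψ.range ∣ 3 := by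
        rw [hn]
        interval_cases n <;> norm_num
      rcases (Nat.dvd_prime Nat.prime_three).1 h3 with h4 | h4
      · refine ⟨1, one_mem _, one_pow _, fun x hx => ⟨0, ?_⟩⟩
        have h5 : ψ.range = ⊥ := Subgroup.card_eq_one.1 h4
        rw [h5, Subgroup.mem_bot] at hx
        rw [hx, pow_zero]
      · have : Fact (Nat.Prime 3) := ⟨Nat.prime_three⟩
        have hcy : IsCyclic ψ.range := isCyclic_of_prime_card h4
        obtain ⟨g, hg⟩ := hcy.exists_generator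
        refine ⟨g, g.2, ?_, fun x hx => ?_⟩
        · have h5 : g ^ 3 = 1 := by rw [← h4]; exact pow_card_eq_one'
          exact congrArg Subtype.val h5
        · have h6 := hg ⟨x, hx⟩
          have h7 : (⟨x, hx⟩ : ψ.range) ∈ Submonoid.powers g := mem_powers_iff_mem_zpowers.2 h6
          obtain ⟨i, hi⟩ := h7
          exact ⟨i, (congrArg Subtype.val hi).symm⟩
    obtain ⟨c, hcr, hc3, hcg⟩ := hcyc
    have hcA : c ∈ A := hrangeA hcr
    have hcT : κ c ∈ TT D k := hAT hcA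
    -- characters of `c`
    have h6 : ∀ x, ∃ g : ℕ, cX hp (κ c) x = ζ ^ g := by
      intro x
      have h7 : cX hp (κ c) x ^ 3 = 1 := by
        rw [← cX_pow hp hcT, ← map_pow, hc3, map_one, cX_one]
      obtain ⟨i, -, hi⟩ := hζ.eq_pow_of_pow_eq_one h7
      exact ⟨i, hi.symm⟩
    choose g hg using h6
    have h8 : ∀ y, ∃ i : ℕ, ∀ x, (3 : ℤ) ∣ B (x - ac hp w⁻¹ x) y - g x * i := by
      intro y
      obtain ⟨t, htA, htx⟩ := ht y
      obtain ⟨i, hi⟩ := hcg (ψ ⟨t, htA⟩) ⟨_, rfl⟩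
      refine ⟨i, fun x => ?_⟩
      have h9 : cX hp (κ ⁅t, u⁆) x = ζ ^ (g x * i) := by
        have h10 : ⁅t, u⁆ = c ^ i := hi
        rw [h10, map_pow, cX_pow hp hcT, hg, ← pow_mul]
      rw [char_comm (hAT htA) hw, htx, ← zpow_natCast] at h9
      have h11 : ζ ^ (B (x - ac hp w⁻¹ x) y - ((g x * i : ℕ) : ℤ)) = 1 := by
        rw [zpow_sub₀ (hζ.ne_zero (by norm_num)), h9, div_self (zpow_ne_zero _ (hζ.ne_zero (by norm_num)))]
      have h12 := (hζ.zpow_eq_one_iff_dvd _).1 h11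
      push_cast at h12
      exact_mod_cast h12
    choose f hf using h8
    obtain ⟨x, y, hxy⟩ := exists_beta hF.form (hF.iso _ hwV) hr ha hb hc hab hbc hac
    apply hxy
    refine not_rank_one hF.form (hF.iso _ hwV) hr (fun x => -(g x : ℤ)) (fun y => (f y : ℤ)) (fun x y => ?_) x y
    have h13 := hf y x
    rw [hF.form.sub] at h13 ⊢
    have h14 : B (ac hp w⁻¹ x) y - B x y - -(g x : ℤ) * (f y : ℤ) = -(B x y - B (ac hp w⁻¹ x) y - g x * f y) := by
      ring
    rw [h14]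
    exact (dvd_neg).2 h13
  nlinarith only [hkpos, hrgt]

omit [Finite G] in
/-- two commuting elements of the second kind -/
theorem pair_eq (hF : FData hp B V e) (i0 : ι) {v w : M.Group} (hv : v ∈ V) (hw : w ∈ V) (hvw : v * w = w * v)
    (hrv : ∀ x, Rad B (ac hp v (ac hp v x) + ac hp v x + x)) (hrw : ∀ x, Rad B (ac hp w (ac hp w x) + ac hp w x + x))
    (h1 : v * w = 1 ∨ ∀ x, Rad B (ac hp (v * w) (ac hp (v * w) x) + ac hp (v * w) x + x))
    (h2 : v * w ^ 2 = 1 ∨ ∀ x, Rad B (ac hp (v * w ^ 2) (ac hp (v * w ^ 2) x) + ac hp (v * w ^ 2) x + x)) :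
    v * w = 1 ∨ v * w ^ 2 = 1 := by
  rcases h1 with h1 | h1
  · exact Or.inl h1
  rcases h2 with h2 | h2
  · exact Or.inr h2
  exfalso
  refine pair_case hF.form (hF.iso _ hv) (hF.iso _ hw) (fun x => ?_) hrv hrw (fun x => ?_) (fun x => ?_)
    (hF.norm i0)
  · rw [← ac_mul, ← ac_mul, hvw]
  · have h3 := h1 x
    rwa [ac_mul, ac_mul] at h3
  · have h3 := h2 x
    rwa [pow_two, ac_mul, ac_mul, ac_mul, ac_mul] at h3

/-- **`s = 3`.** -/
theorem qcond_three (hAT : A ≤ TG κ) (hinj : Function.Injective κ) (hS3 : IsPGroup 3 S) (hAS : A ≤ S)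
    (hSA' : S ≤ normalizer (A : Set G)) (hSN : S ≤ NG hp hk r κ)
    (hSA : S ⊓ TG κ ≤ A) (hV : im hp hk r κ S ≤ V) (hF : FData hp B V e) (i0 : ι) (dep : ι → ℕ)
    (hdep : ∀ i, i = i0 ∨ ∃ j, dep j < dep i ∧ B (e i) (e j) ≠ 0)
    (hspan : AddSubgroup.closure (Set.range e) = ⊤) (hζ : IsPrimitiveRoot ζ 3) (ht : Tst κ hp A ζ B)
    {a b c : Fin l → ℤ} (ha : B a a = 2) (hb : B b b = 2) (hc : B c c = 2) (hab : B a b = -1) (hbc : B b c = -1)
    (hac : B a c = 0) : QCond A S := by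
  classical
  intro L hAL hLS hq hcom hne
  obtain ⟨u, huL, huA⟩ : ∃ u ∈ L, u ∉ A := by
    by_contra hcon
    push Not at hcon
    exact hne (le_antisymm hcon hAL)
  -- the elements of the Weyl group
  have hex : ∀ x ∈ L, ∃ w : M.Group, RP hp hk r w⁻¹ (κ x) ∧ w ∈ V := by
    intro x hx
    obtain ⟨w, hw⟩ := hSN (hLS hx)
    exact ⟨w⁻¹, by rw [inv_inv]; exact hw, inv_mem (hV ⟨x, hLS hx, hw⟩)⟩
  have hkind : ∀ x ∈ L, ∀ w : M.Group, RP hp hk r w⁻¹ (κ x) → w ∈ V →
      w = 1 ∨ ∀ y, Rad B (ac hp w (ac hp w y) + ac hp w y + y) := by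
    intro x hx w hw hwV
    obtain ⟨j, hj⟩ := hS3 ⟨x, hLS hx⟩
    have hj' : x ^ 3 ^ j = 1 := congrArg Subtype.val hj
    have h1 := rp_pow' hw (3 ^ j)
    rw [← map_pow, hj', map_one] at h1
    have h2 : w⁻¹ ^ 3 ^ j = 1 := h1.unique (RP.one hp hk r)
    rw [inv_pow, inv_eq_one] at h2
    have h3 := quad_of_comm hAT hζ ht hw (hq x hx)
    rw [inv_inv] at h3
    exact alt_three hF i0 dep hdep hspan hwV h3 h2
  have hone : ∀ x ∈ L, ∀ w : M.Group, RP hp hk r w⁻¹ (κ x) → w = 1 → x ∈ A := by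
    intro x hx w hw h1
    rw [h1, inv_one] at hw
    exact hSA ⟨hLS hx, hw.mem_of_one⟩
  obtain ⟨w, hw, hwV⟩ := hex u huL
  have hw1 : w ≠ 1 := fun h => huA (hone u huL w hw h)
  have hrw := (hkind u huL w hw hwV).resolve_left hw1
  -- `L = A ∪ u A ∪ u² A`
  have hcase : ∀ x ∈ L, x ∈ A ∨ u⁻¹ * x ∈ A ∨ u⁻¹ ^ 2 * x ∈ A := by
    intro x hx
    by_cases hxA : x ∈ A
    · exact Or.inl hxA
    right
    obtain ⟨v, hv, hvV⟩ := hex x hx
    have hrv := (hkind x hx v hv hvV).resolve_left (fun h => hxA (hone x hx v hv h))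
    -- they commute
    have hvw : v * w = w * v := by
      have h1 : RP hp hk r ⁅v⁻¹, w⁻¹⁆ (κ ⁅x, u⁆) := by
        rw [commutatorElement_def, commutatorElement_def, map_mul, map_mul, map_mul, map_inv, map_inv]
        exact ((hv.mul hw).mul hv.inv).mul hw.inv
      have h2 : ⁅v⁻¹, w⁻¹⁆ = 1 := h1.unique (RP.of_mem hp hk r (hAT (hcom x hx u huL)))
      rw [commutatorElement_eq_one_iff_mul_comm, ← mul_inv_rev, ← mul_inv_rev, inv_inj] at h2
      exact h2.symm
    -- `(v w)⁻¹` is the element of `u x`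
    have hux : RP hp hk r (v * w)⁻¹ (κ (u * x)) := by
      rw [mul_inv_rev, map_mul]
      exact hw.mul hv
    have huux : RP hp hk r (v * w ^ 2)⁻¹ (κ (u ^ 2 * x)) := by
      rw [mul_inv_rev, map_mul, map_pow, ← inv_pow]
      exact (rp_pow' hw 2).mul hv
    have hw3 : w ^ 3 = 1 := by
      apply hF.fix _ (pow_mem hwV 3)
      intro i
      have h1 := hrw (e i)
      have h2 : Rad B (ac hp w (ac hp w (ac hp w (e i)) + ac hp w (e i) + e i)) := h1.map hF.form (hF.iso _ hwV)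
      have h3 := h2.sub hF.form h1
      have h4 : ac hp w (ac hp w (ac hp w (e i)) + ac hp w (e i) + e i) - (ac hp w (ac hp w (e i)) + ac hp w (e i) + e i)
        = ac hp (w ^ 3) (e i) - e i := by
        rw [pow_succ, pow_two, ac_mul, ac_mul, map_add, map_add]
        abel
      rwa [h4] at h3
    rcases pair_eq hF i0 hvV hwV hvw hrv hrw (hkind _ (mul_mem huL hx) _ hux (mul_mem hvV hwV))
      (hkind _ (mul_mem (pow_mem huL 2) hx) _ huux (mul_mem hvV (pow_mem hwV 2))) with h1 | h1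
    · -- `v = w⁻¹`
      right
      have h2 : RP hp hk r ((w⁻¹)⁻¹ ^ 2 * v⁻¹) (κ (u⁻¹ ^ 2 * x)) := by
        rw [map_mul, map_pow, map_inv]
        exact (rp_pow' hw.inv 2).mul hv
      have h3 : (w⁻¹)⁻¹ ^ 2 * v⁻¹ = 1 := by
        rw [inv_inv, mul_eq_one_iff_eq_inv.1 h1, inv_inv, ← pow_succ, hw3]
      rw [h3] at h2
      exact hSA ⟨hLS (mul_mem (pow_mem (inv_mem huL) 2) hx), h2.mem_of_one⟩
    · -- `v = w⁻² = w`
      left
      have h2 : RP hp hk r ((w⁻¹)⁻¹ * v⁻¹) (κ (u⁻¹ * x)) := by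
        rw [map_mul, map_inv]
        exact hw.inv.mul hv
      have h3 : (w⁻¹)⁻¹ * v⁻¹ = 1 := by
        rw [inv_inv, mul_eq_one_iff_eq_inv.1 h1, inv_inv, ← pow_succ', hw3]
      rw [h3] at h2
      exact hSA ⟨hLS (mul_mem (inv_mem huL) hx), h2.mem_of_one⟩
  -- `|L| ≤ 3 |A|`
  have hL3 : Nat.card L ≤ 3 * Nat.card A := by
    have h1 : ((L : Set G)) ⊆ (A : Set G) ∪ ((fun y => u * y) '' (A : Set G) ∪ (fun y => u ^ 2 * y) '' (A : Set G)) := by
      intro x hx
      rcases hcase x hx with h | h | h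
      · exact Or.inl h
      · exact Or.inr (Or.inl ⟨_, h, by simp⟩)
      · exact Or.inr (Or.inr ⟨_, h, by simp⟩)
    have h2 : Nat.card L = (L : Set G).ncard := (Nat.card_coe_set_eq (L : Set G))
    have h3 : Nat.card A = (A : Set G).ncard := (Nat.card_coe_set_eq (A : Set G))
    rw [h2, h3]
    have h4 := Set.ncard_le_ncard h1 (Set.toFinite _)
    have h5 := Set.ncard_union_le (A : Set G) ((fun y => u * y) '' (A : Set G) ∪ (fun y => u ^ 2 * y) '' (A : Set G))
    have h6 := Set.ncard_union_le ((fun y => u * y) '' (A : Set G)) ((fun y => u ^ 2 * y) '' (A : Set G))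
    have h7 := Set.ncard_image_le (s := (A : Set G)) (f := fun y => u * y) (Set.toFinite _)
    have h8 := Set.ncard_image_le (s := (A : Set G)) (f := fun y => u ^ 2 * y) (Set.toFinite _)
    omega
  have hgt := card_range_gt hAT hinj (hS3.to_le hAS) hF hζ ht ha hb hc hab hbc hac (hSA' (hLS huL))
    (w := w⁻¹) hw (by rw [inv_inv]; exact hwV) (by rw [inv_inv]; exact hrw)
  have hcent : Nat.card (A ⊓ centralizer (L : Set G) : Subgroup G) ≤ Nat.card (A ⊓ centralizer {u} : Subgroup G) := by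
    apply Subgroup.card_le_of_le
    refine inf_le_inf_left _ (Subgroup.centralizer_le ?_)
    rw [Set.singleton_subset_iff]
    exact huL
  have hApos : 0 < Nat.card A := Nat.card_pos
  calc Nat.card L * Nat.card (A ⊓ centralizer (L : Set G) : Subgroup G)
      ≤ (3 * Nat.card A) * Nat.card (A ⊓ centralizer {u} : Subgroup G) := Nat.mul_le_mul hL3 hcent
    _ = Nat.card A * (3 * Nat.card (A ⊓ centralizer {u} : Subgroup G)) := by ring
    _ < Nat.card A * Nat.card A := Nat.mul_lt_mul_of_pos_left hgt hApos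

end Cfsg.Agent.H572.ExcB
end

-- part: H572/ExcC
section
/-!
# `PairN` from test elements (S4350, exceptional groups)

* `Emb κ τ θ` : the finite group `G` in the fixed points of `τ`;
* `comm_theta` : the Weyl group elements of `NG` commute with `θ`;
* `pairN_gen` : `PairN t s G` from `QCond`, a Weyl group statement and regularity;
* `pairN_five`, `pairN_three`.
-/

set_option autoImplicit false
set_option linter.unusedSectionVars false

namespace Cfsg.Agent.H572.ExcC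

open CoxeterSystem Cfsg Cfsg.Lie Cfsg.Lie.ChevalleyDatum
open Cfsg.Agent.ChevalleyStructure Cfsg.Agent.ChevalleyStructure.Elts Cfsg.Agent.ChevalleyStructure.CoxeterGeom
  Cfsg.Agent.ChevalleyStructure.CoxeterGeomTypes Cfsg.Agent.ChevalleyStructure.NPerm
open Cfsg.Agent.Tits.Roots Cfsg.Agent.Tits.Core Cfsg.Agent.Nodes Cfsg.Agent.Nodes.Reps Cfsg.Agent.Nodes.BNOf
  Cfsg.Agent.Nodes.RGDChev Cfsg.Agent.Nodes.Bruhat
open Cfsg.Agent.KFacts.RgdField Cfsg.Agent.KFacts.RgdChevCoord Cfsg.Agent.BpExc.TorCent Cfsg.Agent.BpExc.TorChev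
open Cfsg.Agent.GpExc.Field Cfsg.Agent.BpExc.Tow Cfsg.Agent.BpExc.TowChev Cfsg.Agent.BpExc.Fr
  Cfsg.Agent.BpExc.LangFr Cfsg.Agent.H129.TorusChar Cfsg.Agent.H129.TorusMain Cfsg.Agent.H123.ExcZ
open Cfsg.Agent.BpExc Cfsg.Agent.H795.LangT Cfsg.Agent.H795.Core Cfsg.Agent.H795.NotAbT
open Cfsg.Agent.H572.ExcA Cfsg.Agent.H572.ExcB Cfsg.Agent.H572.LatQ Cfsg.Agent.H572.LatForm
  Cfsg.Agent.H572.HallCore Cfsg.Agent.H572.HallPair
open Cfsg.Agent.H553.OddHall
open Subgroup

universe u v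

variable {D : ChevalleyDatum} {l : ℕ} {M : CoxeterMatrix (Fin l)} {hp : IsType D l M}
  {k : Type u} [Field k] [IsAlgClosed k] {hk : LocFin k} {r : ℕ} [Fact r.Prime] [CharP k r]
  {G : Type v} [Group G] {κ : G →* ↥(D.group k)}

/-- `G` embedded in the fixed points of a frame automorphism `τ` with lattice automorphism `θ` -/
structure Emb (hp : IsType D l M) (r e : ℕ) [Fact r.Prime] [CharP k r] (κ : G →* ↥(D.group k))
    (τ : MulAut ↥(D.group k)) (θ : (Fin l → ℤ) ≃+ (Fin l → ℤ)) : Prop where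
  inj : Function.Injective κ
  e_pos : 0 < e
  frob : IsFrob r e τ
  fr : Fr M.toCoxeterSystem hp.isCartan (TT D k) (XX D l k) τ θ
  fix : ∀ x, τ (κ x) = κ x
  fin : Finite {y : ↥(D.group k) // τ y = y}

/-- the elements of order a power of `s` in the torus -/
def TS (κ : G →* ↥(D.group k)) (hinj : Function.Injective κ) (hp : IsType D l M) (s : ℕ) : Subgroup G where
  carrier := {x | x ∈ TG κ ∧ ∃ j, x ^ s ^ j = 1}
  one_mem' := ⟨one_mem _, 0, one_pow _⟩
  mul_mem' := by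
    rintro a b ⟨ha, i, hi⟩ ⟨hb, j, hj⟩
    refine ⟨mul_mem ha hb, i + j, ?_⟩
    rw [(show Commute a b from TG_comm κ hinj hp ha hb).mul_pow, pow_add, pow_mul, hi, one_pow, one_mul, mul_comm,
      pow_mul, hj, one_pow]
  inv_mem' := by
    rintro a ⟨ha, i, hi⟩
    exact ⟨inv_mem ha, i, by rw [inv_pow, hi, inv_one]⟩

/-- a Sylow subgroup in `NG` contains the elements of order a power of `s` in the torus -/
theorem TS_le [Finite G] {s : ℕ} [Fact s.Prime] (hinj : Function.Injective κ) (S : Sylow s G)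
    (hS : (S : Subgroup G) ≤ NG hp hk r κ) : TS κ hinj hp s ≤ (S : Subgroup G) := by
  have hA : IsPGroup s (TS κ hinj hp s) := fun u => by
    obtain ⟨i, hi⟩ := u.2.2
    exact ⟨i, Subtype.ext hi⟩
  have hN : (S : Subgroup G) ≤ normalizer (TS κ hinj hp s : Set G) := by
    intro y hy
    have key : ∀ y ∈ NG hp hk r κ, ∀ u ∈ TS κ hinj hp s, y * u * y⁻¹ ∈ TS κ hinj hp s := by
      rintro y hy u ⟨hu, i, hi⟩
      exact ⟨conj_mem_TG κ hy hu, i, by rw [conj_pow, hi, mul_one, mul_inv_cancel]⟩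
    rw [mem_normalizer_iff]
    intro u
    refine ⟨key y (hS hy) u, fun h => ?_⟩
    have h1 := key y⁻¹ (inv_mem (hS hy)) _ h
    have h2 : y⁻¹ * (y * u * y⁻¹) * y⁻¹⁻¹ = u := by group
    rwa [h2] at h1
  have hP : IsPGroup s ↥(TS κ hinj hp s ⊔ (S : Subgroup G)) := IsPGroup.to_sup_of_normal_left' hA S.isPGroup' hN
  have h3 := S.is_maximal' hP le_sup_right
  exact le_sup_left.trans h3.le

/-- the elements of the Weyl group commuting with `θ` -/
def CT (hp : IsType D l M) (θ : (Fin l → ℤ) ≃+ (Fin l → ℤ)) : Subgroup M.Group where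
  carrier := {w | ∀ x, ac hp w (θ x) = θ (ac hp w x)}
  one_mem' := fun x => by rw [ac_one, ac_one]
  mul_mem' := by
    intro v w hv hw x
    rw [ac_mul, ac_mul, hw, hv]
  inv_mem' := by
    intro v hv x
    have h1 := hv (ac hp v⁻¹ x)
    have h2 : ac hp v (ac hp v⁻¹ x) = x := by rw [← ac_mul, mul_inv_cancel, ac_one]
    rw [h2] at h1
    rw [← h1, ← ac_mul, inv_mul_cancel, ac_one]

variable {e : ℕ} {τ : MulAut ↥(D.group k)} {θ : (Fin l → ℤ) ≃+ (Fin l → ℤ)}

/-- the elements represented by fixed points commute with `θ` -/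
theorem mem_CT_of_fix {d : ℕ} {Bi : Fin l → Fin l → ℤ} (hB : InvC D l d Bi) (hd : d ≠ 0)
    (hfr : IsFrob r e τ) (F : Fr M.toCoxeterSystem hp.isCartan (TT D k) (XX D l k) τ θ) {c : ↥(D.group k)}
    {w : M.Group} (hc : RP hp hk r w c) (hτ : τ c = c) : w ∈ CT hp θ := by
  intro x
  refine cX_sep hp (k := k) hB hd fun t' ht' => ?_
  obtain ⟨t, ht, rfl⟩ : ∃ t ∈ TT D k, t' = τ (c * t * c⁻¹) := by
    have h1 : τ⁻¹ t' ∈ TT D k := by rw [← F.tor, MulAut.apply_inv_self]; exact ht'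
    refine ⟨c⁻¹ * τ⁻¹ t' * c, ?_, ?_⟩
    · have h2 := hc.inv.conj_mem h1
      rwa [inv_inv] at h2
    · have h2 : c * (c⁻¹ * τ⁻¹ t' * c) * c⁻¹ = τ⁻¹ t' := by group
      rw [h2, MulAut.apply_inv_self]
  have h1 : cX hp (τ (c * t * c⁻¹)) (θ (ac hp w x)) = cX hp t x ^ r ^ e := by
    rw [cX_sigma hp M.toCoxeterSystem hfr F (hc.conj_mem ht)]
    congr 1
    exact hc.char ht x
  have h2 : cX hp (τ (c * t * c⁻¹)) (ac hp w (θ x)) = cX hp t x ^ r ^ e := by
    rw [map_mul, map_mul, map_inv, hτ]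
    have h3 := hc.char ((F.tor t).2 ht) (θ x)
    rw [cX_sigma hp M.toCoxeterSystem hfr F ht] at h3
    exact h3
  rw [h2, h1]

/-- **`PairN` from `QCond`** and a Weyl group statement. -/
theorem pairN_gen [Finite G] {s t : ℕ} [hs : Fact s.Prime] [ht : Fact t.Prime] (hs2 : s ≠ 2) (ht2 : t ≠ 2) (hst : s ≠ t)
    (h : Emb hp r e κ τ θ) {d : ℕ} {Bi : Fin l → Fin l → ℤ} (hB : InvC D l d Bi) (hd : d ≠ 0)
    (S : Sylow s G) (hS : (S : Subgroup G) ≤ NG hp hk r κ) {N₂ : ℕ}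
    (hN₂ : s ^ N₂ ∣ Nat.card (im hp hk r κ (S : Subgroup G)))
    (hQ : QCond ((S : Subgroup G) ⊓ TG κ) (S : Subgroup G))
    (hreg : ∀ a, IsRoot M.toCoxeterSystem hp.isCartan a → ∃ x ∈ (S : Subgroup G) ⊓ TG κ, cX hp (κ x) a ≠ 1)
    (hWL : ∀ H : Subgroup M.Group, H ≤ CT hp θ → (∀ q, q.Prime → q ∣ Nat.card H → q = s ∨ q = t) →
      s ^ N₂ ∣ Nat.card H → ¬ t ∣ Nat.card H) : PairN t s G := by
  have hWf : Finite M.Group := finite_W hp (M.toCoxeterSystem)
  refine pairN_of_core hs2 ht2 hst S (A := (S : Subgroup G) ⊓ TG κ) inf_le_left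
    (fun a ha b hb => TG_comm κ h.inj hp ha.2 hb.2) ?_ hQ ?_
  · intro y hy
    have key : ∀ y ∈ (S : Subgroup G), ∀ u ∈ (S : Subgroup G) ⊓ TG κ, y * u * y⁻¹ ∈ (S : Subgroup G) ⊓ TG κ :=
      fun y hy u hu => ⟨(S : Subgroup G).mul_mem ((S : Subgroup G).mul_mem hy hu.1)
        ((S : Subgroup G).inv_mem hy), conj_mem_TG κ (hS hy) hu.2⟩
    rw [mem_normalizer_iff]
    intro u
    refine ⟨key y hy u, fun h => ?_⟩
    have h1 := key y⁻¹ ((S : Subgroup G).inv_mem hy) _ h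
    have h2 : y⁻¹ * (y * u * y⁻¹) * y⁻¹⁻¹ = u := by group
    rwa [h2] at h1
  · intro X hX hSX hXA
    have hXN : X ≤ NG hp hk r κ := fun y hy => mem_NG_of_norm (hk := hk) (r := r) κ inf_le_right hreg (hXA hy)
    have hc := card_im (hk := hk) (r := r) κ hXN
    have hrel : (TG κ).relIndex X = Nat.card (im hp hk r κ X) := by
      have h1 : Nat.card (TG κ ⊓ X : Subgroup G) * (TG κ ⊓ X).relIndex X = Nat.card X := by
        have h2 := Subgroup.relIndex_mul_relIndex (⊥ : Subgroup G) (TG κ ⊓ X) X bot_le inf_le_right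
        rwa [Subgroup.relIndex_bot_left, Subgroup.relIndex_bot_left] at h2
      rw [Subgroup.inf_relIndex_right, inf_comm, hc] at h1
      exact Nat.eq_of_mul_eq_mul_left Nat.card_pos h1
    have hdvd : (centralizer (((S : Subgroup G) ⊓ TG κ : Subgroup G) : Set G)).relIndex X ∣ (TG κ).relIndex X := by
      apply Subgroup.relIndex_dvd_of_le_left
      intro x hx
      rw [mem_centralizer_iff]
      exact fun y hy => TG_comm κ h.inj hp hy.2 hx
    intro hcon
    refine hWL (im hp hk r κ X) ?_ ?_ ?_ (hrel ▸ hcon.trans hdvd)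
    · rintro w ⟨x, -, hw⟩
      exact mem_CT_of_fix hB hd h.frob h.fr hw (h.fix x)
    · intro q hq hqd
      exact hX q hq (hqd.trans (Dvd.intro_left _ hc.symm))
    · exact hN₂.trans (Subgroup.card_dvd_of_le (im_mono κ hSX))

variable {s : ℕ} {ζ : k} {B : (Fin l → ℤ) → (Fin l → ℤ) → ℤ} {ι : Type*} {ee : ι → (Fin l → ℤ)}

/-- the common hypotheses -/
structure Row (hp : IsType D l M) (hk : LocFin k) (κ : G →* ↥(D.group k)) (θ : (Fin l → ℤ) ≃+ (Fin l → ℤ)) (s r : ℕ)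
    [Fact r.Prime] [CharP k r]
    (ζ : k) (B : (Fin l → ℤ) → (Fin l → ℤ) → ℤ) (ee : ι → (Fin l → ℤ)) (N₁ N₂ : ℕ) : Prop where
  tg : s ^ N₁ ∣ Nat.card (TG κ)
  wg : s ^ N₂ ∣ Nat.card (im hp hk r κ (NG hp hk r κ))
  ord : ¬ s ^ (N₁ + N₂ + 1) ∣ Nat.card G
  data : FData hp B (CT hp θ) ee
  prim : IsPrimitiveRoot ζ s
  tst : ∀ y, ∃ a ∈ TG κ, a ^ s = 1 ∧ ∀ x, cX hp (κ a) x = ζ ^ (B x y)
  reg : ∀ a, IsRoot M.toCoxeterSystem hp.isCartan a → ¬ (s : ℤ) ∣ B a a

theorem Row.regular [Finite G] {s : ℕ} [hs : Fact s.Prime] {N₁ N₂ : ℕ} (R : Row hp hk κ θ s r ζ B ee N₁ N₂)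
    (hinj : Function.Injective κ) (S : Sylow s G) (hS : (S : Subgroup G) ≤ NG hp hk r κ) :
    Tst κ hp ((S : Subgroup G) ⊓ TG κ) ζ B ∧
    ∀ a, IsRoot M.toCoxeterSystem hp.isCartan a → ∃ x ∈ (S : Subgroup G) ⊓ TG κ, cX hp (κ x) a ≠ 1 := by
  have h1 : Tst κ hp ((S : Subgroup G) ⊓ TG κ) ζ B := by
    intro y
    obtain ⟨a, ha, has, hx⟩ := R.tst y
    exact ⟨a, ⟨TS_le hinj S hS ⟨ha, 1, by rw [pow_one]; exact has⟩, ha⟩, hx⟩
  refine ⟨h1, fun a ha => ?_⟩
  obtain ⟨x, hx, hxa⟩ := h1 a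
  refine ⟨x, hx, fun h2 => R.reg a ha ?_⟩
  rw [hxa] at h2
  exact (R.prim.zpow_eq_one_iff_dvd _).1 h2

/-- **`PairN`, `s ≥ 5`.** -/
theorem pairN_five [Finite G] {s t : ℕ} [hs : Fact s.Prime] [ht : Fact t.Prime] (hs5 : 5 ≤ s) (ht2 : t ≠ 2) (hst : s ≠ t)
    (h : Emb hp r e κ τ θ) {d : ℕ} {Bi : Fin l → Fin l → ℤ} (hB : InvC D l d Bi) (hd : d ≠ 0) {N₁ N₂ : ℕ}
    (R : Row hp hk κ θ s r ζ B ee N₁ N₂)
    (hWL : ∀ H : Subgroup M.Group, H ≤ CT hp θ → (∀ q, q.Prime → q ∣ Nat.card H → q = s ∨ q = t) →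
      s ^ N₂ ∣ Nat.card H → ¬ t ∣ Nat.card H) : PairN t s G := by
  obtain ⟨S, hS, hSim⟩ := exists_sylow (hp := hp) (hk := hk) (r := r) κ R.tg R.wg R.ord
  obtain ⟨hT, hreg⟩ := R.regular h.inj S hS
  refine pairN_gen (by omega) ht2 hst h hB hd S hS hSim ?_ hreg hWL
  refine qcond_five hs.out hs5 inf_le_right hS le_rfl ?_ R.data R.prim hT
  rintro w ⟨x, -, hw⟩
  exact mem_CT_of_fix hB hd h.frob h.fr hw (h.fix x)

/-- **`PairN`, `s = 3`.** -/
theorem pairN_three [Finite G] {t : ℕ} [ht : Fact t.Prime] (ht2 : t ≠ 2) (ht3 : t ≠ 3)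
    (h : Emb hp r e κ τ θ) {d : ℕ} {Bi : Fin l → Fin l → ℤ} (hB : InvC D l d Bi) (hd : d ≠ 0) {N₁ N₂ : ℕ}
    (R : Row hp hk κ θ 3 r ζ B ee N₁ N₂) (i0 : ι) (dep : ι → ℕ)
    (hdep : ∀ i, i = i0 ∨ ∃ j, dep j < dep i ∧ B (ee i) (ee j) ≠ 0)
    (hspan : AddSubgroup.closure (Set.range ee) = ⊤)
    {a b c : Fin l → ℤ} (ha : B a a = 2) (hb : B b b = 2) (hc : B c c = 2) (hab : B a b = -1) (hbc : B b c = -1)
    (hac : B a c = 0)
    (hWL : ∀ H : Subgroup M.Group, H ≤ CT hp θ → (∀ q, q.Prime → q ∣ Nat.card H → q = 3 ∨ q = t) →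
      3 ^ N₂ ∣ Nat.card H → ¬ t ∣ Nat.card H) : PairN t 3 G := by
  have : Fact (Nat.Prime 3) := ⟨Nat.prime_three⟩
  obtain ⟨S, hS, hSim⟩ := exists_sylow (hp := hp) (hk := hk) (r := r) κ R.tg R.wg R.ord
  obtain ⟨hT, hreg⟩ := R.regular h.inj S hS
  refine pairN_gen (by norm_num) ht2 ht3.symm h hB hd S hS hSim ?_ hreg hWL
  refine qcond_three inf_le_right h.inj S.isPGroup' inf_le_left ?_ hS le_rfl ?_ R.data i0 dep hdep hspan R.prim hT
    ha hb hc hab hbc hac
  · intro y hy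
    have key : ∀ y ∈ (S : Subgroup G), ∀ u ∈ (S : Subgroup G) ⊓ TG κ, y * u * y⁻¹ ∈ (S : Subgroup G) ⊓ TG κ :=
      fun y hy u hu => ⟨(S : Subgroup G).mul_mem ((S : Subgroup G).mul_mem hy hu.1)
        ((S : Subgroup G).inv_mem hy), conj_mem_TG κ (hS hy) hu.2⟩
    rw [mem_normalizer_iff]
    intro u
    refine ⟨key y hy u, fun h => ?_⟩
    have h1 := key y⁻¹ ((S : Subgroup G).inv_mem hy) _ h
    have h2 : y⁻¹ * (y * u * y⁻¹) * y⁻¹⁻¹ = u := by group
    rwa [h2] at h1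
  · rintro w ⟨x, -, hw⟩
    exact mem_CT_of_fix hB hd h.frob h.fr hw (h.fix x)

end Cfsg.Agent.H572.ExcC
end

-- part: H572/ExcD
section
/-!
# The full case `θ = ε` (S4350, exceptional groups)

* `exists_emb` : the twisted embedding;
* `exists_tor_elt` : torus elements with characters `ζ ^ c x`;
* `exists_cor` : elements of `G` with the characters `ζ ^ ⟨x, ∑ n_j α_j^∨⟩`;
* `pow_dvd_TG`, `pow_dvd_im` : the counts.
-/

set_option autoImplicit false
set_option linter.unusedSectionVars false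

namespace Cfsg.Agent.H572.ExcD

open CoxeterSystem Cfsg Cfsg.Lie Cfsg.Lie.ChevalleyDatum
open Cfsg.Agent.ChevalleyStructure Cfsg.Agent.ChevalleyStructure.Elts Cfsg.Agent.ChevalleyStructure.CoxeterGeom
  Cfsg.Agent.ChevalleyStructure.CoxeterGeomTypes Cfsg.Agent.ChevalleyStructure.NPerm
open Cfsg.Agent.Tits.Roots Cfsg.Agent.Tits.Core Cfsg.Agent.Nodes Cfsg.Agent.Nodes.Reps Cfsg.Agent.Nodes.BNOf
  Cfsg.Agent.Nodes.RGDChev Cfsg.Agent.Nodes.Bruhat
open Cfsg.Agent.KFacts.RgdField Cfsg.Agent.KFacts.RgdChevCoord Cfsg.Agent.BpExc.TorCent Cfsg.Agent.BpExc.TorChev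
open Cfsg.Agent.GpExc.Field Cfsg.Agent.BpExc.Tow Cfsg.Agent.BpExc.TowChev Cfsg.Agent.BpExc.Fr
  Cfsg.Agent.BpExc.LangFr Cfsg.Agent.H129.TorusChar Cfsg.Agent.H129.TorusMain Cfsg.Agent.H123.ExcZ
open Cfsg.Agent.BpExc Cfsg.Agent.H795.LangT Cfsg.Agent.H795.Core Cfsg.Agent.H795.NotAbT
open Cfsg.Agent.H572.ExcA Cfsg.Agent.H572.ExcB Cfsg.Agent.H572.ExcC Cfsg.Agent.H572.LatQ Cfsg.Agent.H572.LatForm
open Subgroup
open scoped commutatorElement

universe u v

variable {D : ChevalleyDatum} {l : ℕ} {M : CoxeterMatrix (Fin l)} {hp : IsType D l M}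
  {k : Type u} [Field k] [IsAlgClosed k] {hk : LocFin k} {r : ℕ} [Fact r.Prime] [CharP k r]
  {G : Type v} [Group G] {κ : G →* ↥(D.group k)} {e : ℕ} {τ : MulAut ↥(D.group k)}
  {θ : (Fin l → ℤ) ≃+ (Fin l → ℤ)}

/-- **The twisted embedding.** -/
theorem exists_emb (hk : LocFin k) {f : G →* ↥(D.group k)} {σ : MulAut ↥(D.group k)} {g : (Fin l → ℤ) ≃+ (Fin l → ℤ)}
    (hinj : Function.Injective f) (he : 0 < e) (hσ : IsFrob r e σ)
    (F : Fr M.toCoxeterSystem hp.isCartan (TT D k) (XX D l k) σ g) (hfix : ∀ x, σ (f x) = f x)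
    (hfin : Finite {y : ↥(D.group k) // σ y = y}) (w : M.Group) :
    ∃ (κ : G →* ↥(D.group k)) (τ : MulAut ↥(D.group k)) (z : ↥(D.group k)),
      Emb hp r e κ τ (g.trans (repAut M.toCoxeterSystem hp.isCartan w)) ∧ (∀ x, κ x = z⁻¹ * f x * z) ∧
      ∀ y, τ y = y → σ (z * y * z⁻¹) = z * y * z⁻¹ := by
  obtain ⟨n, z, hn, hz, hτ, Fτ⟩ := exists_tau hp hk he hσ F w
  have hτf : ∀ y, (MulAut.conj n * σ) y = n * σ y * n⁻¹ := fun y => rfl
  have hback : ∀ y, (MulAut.conj n * σ) y = y → σ (z * y * z⁻¹) = z * y * z⁻¹ := fun y hy =>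
    fix_conj hz (by rw [← hτf]; exact hy)
  refine ⟨(MulAut.conj z⁻¹).toMonoidHom.comp f, MulAut.conj n * σ, z, ?_, fun x => ?_, hback⟩
  · refine ⟨?_, he, hτ, Fτ, fun x => ?_, ?_⟩
    · exact (MulAut.conj z⁻¹).injective.comp hinj
    · show (MulAut.conj n * σ) (z⁻¹ * f x * z⁻¹⁻¹) = z⁻¹ * f x * z⁻¹⁻¹
      rw [hτf, inv_inv, map_mul, map_mul, map_inv, hfix, hz]
      group
    · exact Finite.of_injective
        (fun y : {y : ↥(D.group k) // (MulAut.conj n * σ) y = y} =>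
          (⟨z * y.1 * z⁻¹, hback _ y.2⟩ : {y : ↥(D.group k) // σ y = y}))
        (fun a b hab => by
          have h1 : z * a.1 * z⁻¹ = z * b.1 * z⁻¹ := congrArg Subtype.val hab
          exact Subtype.ext (mul_left_cancel (mul_right_cancel h1)))
  · show z⁻¹ * f x * z⁻¹⁻¹ = _
    rw [inv_inv]

theorem comm_of_comm {f : G →* ↥(D.group k)} {σ : MulAut ↥(D.group k)} {z : ↥(D.group k)}
    (hκ : ∀ x, κ x = z⁻¹ * f x * z) (hb : ∀ y, τ y = y → σ (z * y * z⁻¹) = z * y * z⁻¹)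
    (hcm : ∀ a b, σ a = a → σ b = b → ∃ x, f x = a * b * a⁻¹ * b⁻¹) (a b : ↥(D.group k)) (ha : τ a = a)
    (hb' : τ b = b) : ∃ x, κ x = a * b * a⁻¹ * b⁻¹ := by
  obtain ⟨x, hx⟩ := hcm _ _ (hb a ha) (hb b hb')
  refine ⟨x, ?_⟩
  rw [hκ, hx]
  group

/-- **Torus elements fixed by `τ`.** -/
theorem exists_tor_elt {d : ℕ} {Bi : Fin l → Fin l → ℤ} (hB : InvC D l d Bi) (hd : d ≠ 0) (hτ : IsFrob r e τ)
    (F : Fr M.toCoxeterSystem hp.isCartan (TT D k) (XX D l k) τ θ) {ζ : k} (hζ : ζ ≠ 0) (c : (Fin l → ℤ) →+ ℤ)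
    (hc : ∀ x, ζ ^ (c (θ x)) = (ζ ^ (c x)) ^ r ^ e) :
    ∃ t ∈ TT D k, τ t = t ∧ ∀ x, cX hp t x = ζ ^ (c x) := by
  obtain ⟨t, ht, hct⟩ := exists_cX hp hB hd (φ := fun x => ζ ^ (c x))
    ⟨by show ζ ^ (c 0) = 1; rw [map_zero, zpow_zero], fun x y => by
      show ζ ^ (c (x + y)) = ζ ^ (c x) * ζ ^ (c y)
      rw [map_add, zpow_add₀ hζ]⟩ (fun i => IsAlgClosed.exists_pow_nat_eq _ (Nat.pos_of_ne_zero hd))
  refine ⟨t, ht, ?_, hct⟩
  have hτt : τ t ∈ TT D k := (F.tor t).2 ht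
  refine cX_inj hp hτt ht fun i => ?_
  obtain ⟨x, hx⟩ := θ.surjective (sr i)
  rw [← hx, cX_sigma hp M.toCoxeterSystem hτ F ht, hct, hct]
  exact (hc x).symm

/-- a fixed representative -/
theorem exists_fixed (h : Emb hp r e κ τ θ) {d : ℕ} {Bi : Fin l → Fin l → ℤ} (hB : InvC D l d Bi) (hd : d ≠ 0)
    {v : M.Group} (hv : v ∈ CT hp θ) : ∃ m, RP hp hk r v m ∧ τ m = m :=
  exists_fixed_lift hp hk hB hd h.e_pos h.frob h.fr hv

/-- the whole Weyl group commutes with `ε` -/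
theorem CT_eq_top {ε : ℤ} (hθ : ∀ x, θ x = ε • x) : CT hp θ = ⊤ := by
  rw [eq_top_iff]
  intro w _ x
  rw [hθ, hθ, map_zsmul]

section Full

variable {d : ℕ} {Bi : Fin l → Fin l → ℤ} {ε : ℤ} {n : ℕ} {ζ : k}

/-- **elements of `G` for the simple coroots** -/
theorem exists_cor_simple (h : Emb hp r e κ τ θ) (hB : InvC D l d Bi) (hd : d ≠ 0) (hθ : ∀ x, θ x = ε • x)
    (hcm : ∀ a b, τ a = a → τ b = b → ∃ x, κ x = a * b * a⁻¹ * b⁻¹) (hζ : ζ ^ n = 1) (hn : n ≠ 0)
    (hq : (n : ℤ) ∣ (r : ℤ) ^ e - ε) (hk : LocFin k) (j : Fin l) :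
    ∃ a ∈ TG κ, ∀ x, cX hp (κ a) x = ζ ^ (pairing (cartanOf D l) j x) := by
  have hζ0 : ζ ≠ 0 := by
    rintro rfl
    rw [zero_pow hn] at hζ
    exact zero_ne_one hζ
  obtain ⟨t, ht, hτt, hct⟩ := exists_tor_elt (hp := hp) hB hd h.frob h.fr hζ0 (Pi.evalAddMonoidHom (fun _ : Fin l => ℤ) j)
    (fun x => by
      rw [hθ, map_zsmul, ← zpow_natCast (ζ ^ _) (r ^ e), ← zpow_mul, smul_eq_mul]
      obtain ⟨c, hc⟩ := hq
      have h1 : (Pi.evalAddMonoidHom (fun _ : Fin l => ℤ) j) x * ((r ^ e : ℕ) : ℤ) =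
          ε * (Pi.evalAddMonoidHom (fun _ : Fin l => ℤ) j) x +
          n * (c * (Pi.evalAddMonoidHom (fun _ : Fin l => ℤ) j) x) := by
        push_cast
        have h2 : (r : ℤ) ^ e = ε + n * c := by rw [← hc]; ring
        rw [h2]
        ring
      rw [h1, zpow_add₀ hζ0, zpow_mul, zpow_mul ζ (n : ℤ), zpow_natCast, hζ, one_zpow, mul_one, ← zpow_mul])
  obtain ⟨m, hm, hτm⟩ := exists_fixed (hk := hk) h hB hd (v := M.toCoxeterSystem.simple j)
    (by rw [CT_eq_top hθ]; exact mem_top _)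
  obtain ⟨x, hx⟩ := hcm t m hτt hτm
  have hκ : κ x = t * (m * t * m⁻¹)⁻¹ := by rw [hx]; group
  have hmt := hm.conj_mem ht
  have hxT : κ x ∈ TT D k := by
    rw [hκ]
    exact mul_mem ht (inv_mem hmt)
  refine ⟨x, hxT, fun y => ?_⟩
  have h1 : κ x * (m * t * m⁻¹) = t := by rw [hκ, inv_mul_cancel_right]
  have h2 := cX_mul hp hxT hmt y
  rw [h1, hm.char_inv ht, hct, hct] at h2
  have h3 : (M.toCoxeterSystem.simple j)⁻¹ = M.toCoxeterSystem.simple j := M.toCoxeterSystem.inv_simple j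
  have h4 : (Pi.evalAddMonoidHom (fun _ : Fin l => ℤ) j)
      (rep M.toCoxeterSystem hp.isCartan (M.toCoxeterSystem.simple j)⁻¹ y) =
      y j - pairing (cartanOf D l) j y := by
    rw [h3, rep_simple]
    rw [refl_apply]
    show (y - Pi.single j (pairing (cartanOf D l) j y) : Fin l → ℤ) j = _
    rw [Pi.sub_apply, Pi.single_eq_same]
  rw [h4] at h2
  have h5 : ζ ^ (Pi.evalAddMonoidHom (fun _ : Fin l => ℤ) j) y =
      ζ ^ (pairing (cartanOf D l) j y) * ζ ^ (y j - pairing (cartanOf D l) j y) := by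
    rw [← zpow_add₀ hζ0]
    congr 1
    show y j = _
    ring
  rw [h5] at h2
  exact (mul_right_cancel₀ (zpow_ne_zero _ hζ0) h2).symm

/-- **elements of `G` for all coroots** -/
theorem exists_cor (hζ0 : ζ ≠ 0)
    (hs : ∀ j, ∃ a ∈ TG κ, ∀ x, cX hp (κ a) x = ζ ^ (pairing (cartanOf D l) j x)) (m : Fin l → ℤ) :
    ∃ a ∈ TG κ, ∀ x, cX hp (κ a) x = ζ ^ (∑ j, m j * pairing (cartanOf D l) j x) := by
  let P : AddSubgroup (Fin l → ℤ) :=
    { carrier := {m | ∃ a ∈ TG κ, ∀ x, cX hp (κ a) x = ζ ^ (∑ j, m j * pairing (cartanOf D l) j x)}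
      zero_mem' := ⟨1, one_mem _, fun x => by
        rw [map_one, cX_one]
        simp only [Pi.zero_apply, zero_mul, Finset.sum_const_zero, zpow_zero]⟩
      add_mem' := by
        rintro m m' ⟨a, ha, h1⟩ ⟨b, hb, h2⟩
        refine ⟨a * b, mul_mem ha hb, fun x => ?_⟩
        rw [map_mul, cX_mul hp ha hb, h1, h2, ← zpow_add₀ hζ0, ← Finset.sum_add_distrib]
        congr 1
        refine Finset.sum_congr rfl fun j _ => ?_
        rw [Pi.add_apply, add_mul]
      neg_mem' := by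
        rintro m ⟨a, ha, h1⟩
        refine ⟨a⁻¹, inv_mem ha, fun x => ?_⟩
        have h3 : κ a⁻¹ ∈ TT D k := by rw [map_inv]; exact inv_mem ha
        have h2 := cX_mul hp h3 ha x
        rw [← map_mul, inv_mul_cancel, map_one, cX_one, h1] at h2
        have h4 : (∑ j, (-m) j * pairing (cartanOf D l) j x) = -∑ j, m j * pairing (cartanOf D l) j x := by
          rw [← Finset.sum_neg_distrib]
          exact Finset.sum_congr rfl fun j _ => by rw [Pi.neg_apply, neg_mul]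
        rw [h4, zpow_neg]
        exact eq_inv_of_mul_eq_one_left h2.symm }
  have hP : P = ⊤ := by
    rw [eq_top_iff]
    intro m _
    rw [IsMC.eq_sum_sr m]
    refine sum_mem fun j _ => P.zsmul_mem ?_ (m j)
    obtain ⟨a, ha, h1⟩ := hs j
    refine ⟨a, ha, fun x => ?_⟩
    rw [h1]
    congr 1
    rw [Finset.sum_eq_single j]
    · rw [sr_self, one_mul]
    · intro i _ hi
      rw [sr_ne hi, zero_mul]
    · intro hj
      exact absurd (Finset.mem_univ j) hj
  have : m ∈ P := by rw [hP]; exact AddSubgroup.mem_top _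
  exact this

/-- the kernel of the Cartan matrix modulo `n` -/
def KA (D : ChevalleyDatum) (l n : ℕ) : AddSubgroup (Fin l → ZMod n) where
  carrier := {m | ∀ i, ∑ j, m j * (cartanOf D l j i : ZMod n) = 0}
  zero_mem' := fun i => by simp only [_root_.Pi.zero_apply, _root_.MulZeroClass.zero_mul, _root_.Finset.sum_const_zero]
  add_mem' := by
    intro a b ha hb i
    simp only [Pi.add_apply, add_mul, Finset.sum_add_distrib]
    rw [ha i, hb i, add_zero]
  neg_mem' := by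
    intro a ha i
    simp only [Pi.neg_apply, neg_mul, Finset.sum_neg_distrib]
    rw [ha i, neg_zero]

/-- **The order of the torus part.** -/
theorem pow_dvd_TG [Finite G] [NeZero n] (hζ : IsPrimitiveRoot ζ n)
    (hall : ∀ m : Fin l → ℤ, ∃ a ∈ TG κ, ∀ x, cX hp (κ a) x = ζ ^ (∑ j, m j * pairing (cartanOf D l) j x)) :
    n ^ l ∣ Nat.card (KA D l n) * Nat.card (TG κ) := by
  classical
  have hζ0 : ζ ≠ 0 := hζ.ne_zero (NeZero.ne n)
  let ζu : kˣ := Units.mk0 ζ hζ0
  have hζu : IsPrimitiveRoot ζu n := IsPrimitiveRoot.coe_units_iff.1 hζ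
  let ξ : ZMod n →+ Additive kˣ :=
    (AddMonoidHom.comp (MonoidHom.toAdditive (Subgroup.zpowers ζu).subtype) hζu.zmodEquivZPowers.toAddMonoidHom)
  have hξ : ∀ z : ℤ, ξ (z : ZMod n) = Additive.ofMul (ζu ^ z) := by
    intro z
    show Additive.ofMul (((Additive.toMul (hζu.zmodEquivZPowers (z : ZMod n)) : Subgroup.zpowers ζu)) : kˣ) = _
    rw [hζu.zmodEquivZPowers_apply_coe_int]
    rfl
  have hξi : Function.Injective ξ := by
    intro a b hab
    obtain ⟨x, rfl⟩ := ZMod.intCast_surjective a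
    obtain ⟨y, rfl⟩ := ZMod.intCast_surjective b
    rw [hξ, hξ] at hab
    have h1 : ζu ^ x = ζu ^ y := hab
    have h2 : ζu ^ (x - y) = 1 := by rw [zpow_sub, h1, mul_inv_cancel]
    have h3 := (hζu.zpow_eq_one_iff_dvd _).1 h2
    rw [ZMod.intCast_eq_intCast_iff_dvd_sub]
    obtain ⟨c, hc⟩ := h3
    exact ⟨-c, by rw [mul_neg, ← hc]; ring⟩
  let Φ : (Fin l → ZMod n) →+ (Fin l → Additive kˣ) :=
    { toFun := fun m i => ξ (∑ j, m j * (cartanOf D l j i : ZMod n))
      map_zero' := by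
        funext i
        simp only [_root_.Pi.zero_apply, _root_.MulZeroClass.zero_mul, _root_.Finset.sum_const_zero, _root_.map_zero]
      map_add' := fun a b => by
        funext i
        simp only [Pi.add_apply, add_mul, Finset.sum_add_distrib, map_add] }
  have hker : Φ.ker = KA D l n := by
    ext m
    rw [AddMonoidHom.mem_ker]
    constructor
    · intro h i
      have h1 := congrFun h i
      exact hξi (h1.trans (map_zero ξ).symm)
    · intro h
      funext i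
      show ξ (∑ j, m j * (cartanOf D l j i : ZMod n)) = 0
      rw [h i, map_zero]
  let ψ : Additive (TG κ) →+ (Fin l → Additive kˣ) :=
    { toFun := fun x i => Additive.ofMul (Units.mk0 (cX hp (κ (Additive.toMul x : TG κ)) (sr i))
        ((isMC_cX hp (Additive.toMul x : TG κ).2).ne_zero _))
      map_zero' := by
        funext i
        apply congrArg Additive.ofMul
        apply Units.ext
        show cX hp (κ ((1 : TG κ) : G)) (sr i) = 1
        rw [OneMemClass.coe_one, map_one, cX_one]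
      map_add' := fun a b => by
        funext i
        apply congrArg Additive.ofMul
        apply Units.ext
        show cX hp (κ ((Additive.toMul a * Additive.toMul b : TG κ) : G)) (sr i) = _
        rw [Subgroup.coe_mul, map_mul, cX_mul hp (Additive.toMul a : TG κ).2 (Additive.toMul b : TG κ).2]
        rfl }
  have hle : Φ.range ≤ ψ.range := by
    rintro _ ⟨m, rfl⟩
    choose z hz using fun j => ZMod.intCast_surjective (m j)
    obtain ⟨a, ha, hax⟩ := hall z
    refine ⟨Additive.ofMul ⟨a, ha⟩, ?_⟩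
    funext i
    show Additive.ofMul (Units.mk0 (cX hp (κ a) (sr i)) _) = ξ (∑ j, m j * (cartanOf D l j i : ZMod n))
    have h1 : (∑ j, m j * (cartanOf D l j i : ZMod n)) = ((∑ j, z j * cartanOf D l j i : ℤ) : ZMod n) := by
      push_cast
      exact Finset.sum_congr rfl fun j _ => by rw [hz]
    rw [h1, hξ]
    apply congrArg Additive.ofMul
    apply Units.ext
    rw [Units.val_mk0, hax, Units.val_zpow_eq_zpow_val, Units.val_mk0]
    congr 1
    exact Finset.sum_congr rfl fun j _ => by rw [pairing_sr']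
  have hfin : Finite (Fin l → ZMod n) := inferInstance
  have h1 : Nat.card Φ.ker * Nat.card Φ.range = n ^ l := by
    have h2 := Φ.ker.card_mul_index
    rw [AddSubgroup.index_ker] at h2
    rw [h2, Nat.card_pi]
    simp only [_root_.Nat.card_eq_fintype_card, _root_.ZMod.card, _root_.Finset.prod_const, _root_.Finset.card_univ, _root_.Fintype.card_fin]
  have hfr : Finite ψ.range := Finite.of_surjective _ ψ.rangeRestrict_surjective
  have h3 : Nat.card Φ.range ∣ Nat.card ψ.range := AddSubgroup.card_dvd_of_le hle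
  have h4 : Nat.card ψ.range ∣ Nat.card (TG κ) := by
    have h5 := ψ.ker.card_mul_index
    rw [AddSubgroup.index_ker] at h5
    have h6 : Nat.card (Additive (TG κ)) = Nat.card (TG κ) := Nat.card_congr Additive.toMul
    rw [← h6, ← h5]
    exact Dvd.intro_left _ rfl
  rw [← h1, hker]
  exact mul_dvd_mul_left _ (h3.trans h4)

/-- elements of odd order of a Coxeter group are in the commutator subgroup -/
theorem mem_commutator_of_odd {I W : Type*} [Group W] {M' : CoxeterMatrix I} (cs : CoxeterSystem M' W) {w : W} {n : ℕ}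
    (hn : Odd n) (hw : w ^ n = 1) : w ∈ _root_.commutator W := by
  have h1 : ∀ w : W, Abelianization.of w ^ 2 = 1 := by
    intro w
    induction w using cs.simple_induction with
    | simple i => rw [← map_pow, pow_two, cs.simple_mul_simple_self, map_one]
    | one => rw [map_one, one_pow]
    | mul a b ha hb => rw [map_mul, mul_pow, ha, hb, one_mul]
  have h2 : Abelianization.of w ^ n = 1 := by rw [← map_pow, hw, map_one]
  obtain ⟨m, rfl⟩ := hn
  rw [pow_succ, pow_mul, h1, one_pow, one_mul] at h2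
  rw [← Abelianization.ker_of, MonoidHom.mem_ker]
  exact h2

/-- **The order of the Weyl group part.** -/
theorem pow_dvd_im {s : ℕ} [hs : Fact s.Prime] (hs2 : s ≠ 2) (h : Emb hp r e κ τ θ) (hB : InvC D l d Bi) (hd : d ≠ 0)
    (hθ : ∀ x, θ x = ε • x) (hcm : ∀ a b, τ a = a → τ b = b → ∃ x, κ x = a * b * a⁻¹ * b⁻¹) {N : ℕ}
    (hN : s ^ N ∣ Nat.card M.Group) : s ^ N ∣ Nat.card (im hp hk r κ (NG hp hk r κ)) := by
  have hWf : Finite M.Group := finite_W hp (M.toCoxeterSystem)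
  have h1 : _root_.commutator M.Group ≤ im hp hk r κ (NG hp hk r κ) := by
    rw [commutator_def, Subgroup.commutator_le]
    intro v _ w _
    obtain ⟨a, ha, hτa⟩ := exists_fixed (hk := hk) h hB hd (v := v) (by rw [CT_eq_top hθ]; exact mem_top _)
    obtain ⟨b, hb, hτb⟩ := exists_fixed (hk := hk) h hB hd (v := w) (by rw [CT_eq_top hθ]; exact mem_top _)
    obtain ⟨x, hx⟩ := hcm a b hτa hτb
    have h2 : RP hp hk r ⁅v, w⁆ (κ x) := by
      rw [hx, commutatorElement_def]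
      exact ((ha.mul hb).mul ha.inv).mul hb.inv
    exact ⟨x, ⟨_, h2⟩, h2⟩
  obtain ⟨P⟩ := (inferInstance : Nonempty (Sylow s M.Group))
  have h2 : (P : Subgroup M.Group) ≤ im hp hk r κ (NG hp hk r κ) := by
    intro w hw
    obtain ⟨j, hj⟩ := P.isPGroup' ⟨w, hw⟩
    exact h1 (mem_commutator_of_odd M.toCoxeterSystem ((hs.out.odd_of_ne_two hs2).pow (n := j))
      (congrArg Subtype.val hj))
  exact (P.pow_dvd_card_of_pow_dvd_card hN).trans (Subgroup.card_dvd_of_le h2)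

theorem exists_zeta_pow {s a : ℕ} [hs : Fact s.Prime] (hsr : s ≠ r) : ∃ ζ : k, IsPrimitiveRoot ζ (s ^ a) := by
  have hdk : ((s ^ a : ℕ) : k) ≠ 0 := by
    rw [Ne, CharP.cast_eq_zero_iff k r]
    intro h
    exact hsr ((Nat.prime_dvd_prime_iff_eq Fact.out hs.out).1 ((Fact.out : r.Prime).dvd_of_dvd_pow h)).symm
  have : NeZero ((s ^ a : ℕ) : k) := ⟨hdk⟩
  have : NeZero (s ^ a) := ⟨(pow_pos hs.out.pos a).ne'⟩
  exact HasEnoughRootsOfUnity.exists_primitiveRoot k (s ^ a)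

theorem nf_sum (A : Fin l → Fin l → ℤ) (d' : Fin l → ℤ) (hsym : ∀ i j, d' i * A i j = d' j * A j i)
    (x y : Fin l → ℤ) : ∑ j, (d' j * y j) * pairing A j x = nf A d' x y := by
  show _ = PRankPar.Weyl.form A d' x y
  rw [PRankPar.Weyl.form_comm hsym]
  rfl

/-- **The row of the full case.** -/
theorem row_full [Finite G] {s : ℕ} [hs : Fact s.Prime] (hs2 : s ≠ 2) (hsr : s ≠ r) (h : Emb hp r e κ τ θ)
    (hB : InvC D l d Bi) (hd : d ≠ 0)
    (hθ : ∀ x, θ x = ε • x) (hcm : ∀ a b, τ a = a → τ b = b → ∃ x, κ x = a * b * a⁻¹ * b⁻¹) {a c₀ N₂ : ℕ}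
    (ha : 0 < a) (hq : ((s ^ a : ℕ) : ℤ) ∣ (r : ℤ) ^ e - ε) (hK : Nat.card (KA D l (s ^ a)) ∣ s ^ c₀)
    (hN₂ : s ^ N₂ ∣ Nat.card M.Group) (hord : ¬ s ^ (a * l - c₀ + N₂ + 1) ∣ Nat.card G)
    {d' : Fin l → ℤ} {i0 : Fin l} {dep : Fin l → ℕ} (S : SymD (cartanOf D l) d' i0 dep)
    {ι : Type*} {ee : ι → (Fin l → ℤ)} (hnorm : ∀ i, nf (cartanOf D l) d' (ee i) (ee i) = 2)
    (hspan : AddSubgroup.closure (Set.range ee) = ⊤) (hds : ∀ i, ¬ (s : ℤ) ∣ 2 * d' i) :
    ∃ ζ : k, Row hp hk κ θ s r ζ (nf (cartanOf D l) d') ee (a * l - c₀) N₂ := by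
  have hWf : Finite M.Group := finite_W hp (M.toCoxeterSystem)
  have : NeZero (s ^ a) := ⟨(pow_pos hs.out.pos a).ne'⟩
  obtain ⟨ζ, hζ⟩ := exists_zeta_pow (k := k) (r := r) (s := s) (a := a) hsr
  have hζ0 : ζ ≠ 0 := hζ.ne_zero (NeZero.ne _)
  have hcor := fun m => exists_cor (κ := κ) (hp := hp) hζ0 (fun j => exists_cor_simple h hB hd hθ hcm
    hζ.pow_eq_one (NeZero.ne _) hq hk j) m
  have hsa : s ^ (a - 1) * s = s ^ a := by rw [← pow_succ]; congr 1; omega
  have hζs : IsPrimitiveRoot (ζ ^ s ^ (a - 1)) s :=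
    hζ.pow (pow_pos hs.out.pos a) hsa.symm
  refine ⟨ζ ^ s ^ (a - 1), ?_, pow_dvd_im hs2 h hB hd hθ hcm hN₂, hord, ?_, hζs, ?_, ?_⟩
  · have h1 := pow_dvd_TG (κ := κ) (hp := hp) hζ hcor
    rw [← pow_mul] at h1
    have h2 : s ^ (a * l) ∣ s ^ c₀ * Nat.card (TG κ) := h1.trans (mul_dvd_mul_right hK _)
    by_cases hle : c₀ ≤ a * l
    · have h3 : s ^ (a * l) = s ^ c₀ * s ^ (a * l - c₀) := by rw [← pow_add]; congr 1; omega
      rw [h3] at h2
      exact Nat.dvd_of_mul_dvd_mul_left (pow_pos hs.out.pos c₀) h2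
    · have h3 : a * l - c₀ = 0 := by omega
      rw [h3, pow_zero]
      exact one_dvd _
  · refine ⟨isForm M.toCoxeterSystem hp.isCartan S, fun w _ => iso_act M.toCoxeterSystem hp.isCartan S w, hnorm, ?_⟩
    intro w _ hw
    apply ac_ext (hp := hp)
    intro x
    rw [ac_one]
    have hx : x ∈ AddSubgroup.closure (Set.range ee) := by rw [hspan]; exact AddSubgroup.mem_top _
    induction hx using AddSubgroup.closure_induction with
    | mem y hy =>
      obtain ⟨i, rfl⟩ := hy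
      exact sub_eq_zero.1 (eq_zero_of_rad M.toCoxeterSystem hp.isCartan S (hw i))
    | zero => exact map_zero _
    | add y z _ _ hy hz => rw [map_add, hy, hz]
    | neg y _ hy => rw [map_neg, hy]
  · intro y
    obtain ⟨u, hu, hux⟩ := hcor (fun j => d' j * y j)
    have hch : ∀ x, cX hp (κ (u ^ s ^ (a - 1))) x = (ζ ^ s ^ (a - 1)) ^ (nf (cartanOf D l) d' x y) := by
      intro x
      rw [map_pow, cX_pow hp hu, hux, nf_sum _ _ S.sym, ← zpow_natCast, ← zpow_natCast, ← zpow_mul, ← zpow_mul,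
        mul_comm]
    refine ⟨u ^ s ^ (a - 1), pow_mem hu _, ?_, hch⟩
    apply h.inj
    have hu2 : κ (u ^ s ^ (a - 1)) ∈ TT D k := by rw [map_pow]; exact pow_mem (show κ u ∈ TT D k from hu) _
    rw [map_pow κ (u ^ s ^ (a - 1)) s, map_one]
    refine cX_inj hp (pow_mem hu2 s) (one_mem _) fun i => ?_
    rw [cX_pow hp hu2, hch, cX_one, ← zpow_natCast, ← zpow_mul, mul_comm,
      zpow_mul, zpow_natCast, hζs.pow_eq_one, one_zpow]
  · rintro _ ⟨w, i, rfl⟩ hdvd
    have h1 : nf (cartanOf D l) d' (rep M.toCoxeterSystem hp.isCartan w (sr i))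
        (rep M.toCoxeterSystem hp.isCartan w (sr i)) = 2 * d' i := by
      have h2 := (iso_act M.toCoxeterSystem hp.isCartan S w).iso (sr i) (sr i)
      rw [act_apply] at h2
      rw [h2]
      show PRankPar.Weyl.form (cartanOf D l) d' (sr i) (sr i) = _
      unfold PRankPar.Weyl.form
      rw [Finset.sum_eq_single i]
      · rw [sr_self, pairing_sr', hp.isCartan.diag]
        ring
      · intro j _ hj
        rw [sr_ne hj]
        ring
      · intro hi
        exact absurd (Finset.mem_univ i) hi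
    rw [h1] at hdvd
    exact hds i hdvd

end Full

end Cfsg.Agent.H572.ExcD
end

-- part: H572/ExcE
section
/-!
# The rows of the full case (S4350, exceptional groups)

* `Dat D l` : the combinatorial data; `datF4 datE6 datE7 datE8`;
* `three_untw`, `five_untw` : `PairN` for the untwisted groups;
-/

set_option autoImplicit false
set_option linter.unusedSectionVars false

namespace Cfsg.Agent.H572.ExcE

open CoxeterSystem Cfsg Cfsg.Lie Cfsg.Lie.ChevalleyDatum
open Cfsg.Agent.ChevalleyStructure Cfsg.Agent.ChevalleyStructure.Elts Cfsg.Agent.ChevalleyStructure.CoxeterGeom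
  Cfsg.Agent.ChevalleyStructure.CoxeterGeomTypes Cfsg.Agent.ChevalleyStructure.NPerm
open Cfsg.Agent.Tits.Roots Cfsg.Agent.Tits.Core Cfsg.Agent.Nodes Cfsg.Agent.Nodes.Reps Cfsg.Agent.Nodes.BNOf
  Cfsg.Agent.Nodes.RGDChev Cfsg.Agent.Nodes.Bruhat
open Cfsg.Agent.KFacts.RgdField Cfsg.Agent.KFacts.RgdChevCoord Cfsg.Agent.BpExc.TorCent Cfsg.Agent.BpExc.TorChev
open Cfsg.Agent.GpExc.Field Cfsg.Agent.BpExc.Tow Cfsg.Agent.BpExc.TowChev Cfsg.Agent.BpExc.Fr
  Cfsg.Agent.BpExc.LangFr Cfsg.Agent.H129.TorusChar Cfsg.Agent.H129.TorusMain Cfsg.Agent.H123.ExcZ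
open Cfsg.Agent.BpExc Cfsg.Agent.H795.LangT Cfsg.Agent.H795.Core Cfsg.Agent.H795.NotAbT
open Cfsg.Agent.H572.ExcA Cfsg.Agent.H572.ExcB Cfsg.Agent.H572.ExcC Cfsg.Agent.H572.ExcD Cfsg.Agent.H572.LatQ
  Cfsg.Agent.H572.LatForm
open Cfsg.Agent.H129.TorusUntw (phi isFrob_phi fr_phi phi_emb coe_phi fix_range fix_split exists_closure)
open Cfsg.Agent.H795.Untw Cfsg.Agent.H795.NotAbRows Cfsg.Agent.BpExc.RowsUntw Cfsg.Agent.PRankPar.CardW
open Cfsg.Agent.H553.OddHall
open Subgroup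

universe u v

/-- the combinatorial data of a type -/
structure Dat (D : ChevalleyDatum) (l : ℕ) where
  (d : ℕ) (Bi : Fin l → Fin l → ℤ) (hB : InvC D l d Bi) (hd : d = 1 ∨ d.Prime)
  (sym : Fin l → ℤ) (i0 : Fin l) (dep : Fin l → ℕ) (S : SymD (cartanOf D l) sym i0 dep)
  (m : ℕ) (ee : Fin m → (Fin l → ℤ)) (norm : ∀ i, nf (cartanOf D l) sym (ee i) (ee i) = 2)
  (span : ∀ j, sr j ∈ AddSubgroup.closure (Set.range ee))
  (j0 : Fin m) (dp : Fin m → ℕ) (conn : ∀ i, i = j0 ∨ ∃ j, dp j < dp i ∧ nf (cartanOf D l) sym (ee i) (ee j) ≠ 0)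
  (a b c : Fin l → ℤ) (ha : nf (cartanOf D l) sym a a = 2) (hb : nf (cartanOf D l) sym b b = 2)
  (hc : nf (cartanOf D l) sym c c = 2) (hab : nf (cartanOf D l) sym a b = -1) (hbc : nf (cartanOf D l) sym b c = -1)
  (hac : nf (cartanOf D l) sym a c = 0)
  (hsym : ∀ i, sym i = 1 ∨ sym i = 2)

variable {D : ChevalleyDatum} {l : ℕ}

theorem Dat.hspan (X : Dat D l) : AddSubgroup.closure (Set.range X.ee) = ⊤ := by
  rw [eq_top_iff]
  intro x _
  rw [IsMC.eq_sum_sr x]
  exact sum_mem fun j _ => AddSubgroup.zsmul_mem _ (X.span j) _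

theorem Dat.hd0 (X : Dat D l) : X.d ≠ 0 := by
  rcases X.hd with h | h
  · rw [h]; norm_num
  · exact h.ne_zero

theorem Dat.hds (X : Dat D l) {s : ℕ} (hs : s.Prime) (hs2 : s ≠ 2) (i : Fin l) : ¬ (s : ℤ) ∣ 2 * X.sym i := by
  intro h
  have h1 : (s : ℤ) ∣ 4 := by
    rcases X.hsym i with h2 | h2
    · rw [h2] at h
      exact h.trans ⟨2, by norm_num⟩
    · rw [h2] at h
      exact h
  have h3 : s ∣ 2 ^ 2 := by exact_mod_cast h1
  have h4 := hs.dvd_of_dvd_pow h3
  exact hs2 ((Nat.prime_dvd_prime_iff_eq hs Nat.prime_two).1 h4)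

/-- the kernel is trivial if `d` is a unit -/
theorem KA_eq_bot {d : ℕ} {Bi : Fin l → Fin l → ℤ} (hB : InvC D l d Bi) {n : ℕ} (hu : Nat.Coprime d n) :
    KA D l n = ⊥ := by
  rw [eq_bot_iff]
  intro m hm
  rw [AddSubgroup.mem_bot]
  let A' : Matrix (Fin l) (Fin l) (ZMod n) := fun j i => (cartanOf D l j i : ZMod n)
  let B' : Matrix (Fin l) (Fin l) (ZMod n) := fun j i => (Bi j i : ZMod n)
  have h1 : B' * A' = (d : ZMod n) • (1 : Matrix (Fin l) (Fin l) (ZMod n)) := by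
    ext i j
    rw [Matrix.mul_apply, Matrix.smul_apply, Matrix.one_apply]
    have h2 := congrArg (fun z : ℤ => (z : ZMod n)) (hB i j)
    simp only [Int.cast_sum, Int.cast_mul] at h2
    show ∑ k, (Bi i k : ZMod n) * (cartanOf D l k j : ZMod n) = _
    rw [h2]
    split_ifs <;> simp
  have hdu : IsUnit (d : ZMod n) := (ZMod.isUnit_iff_coprime d n).2 hu
  obtain ⟨u, hu'⟩ := hdu
  have h3 : ((↑u⁻¹ : ZMod n) • B') * A' = 1 := by
    rw [Matrix.smul_mul, h1, smul_smul, ← hu', Units.inv_mul, one_smul]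
  have h4 := mul_eq_one_comm.1 h3
  have h5 : Matrix.vecMul m A' = 0 := by
    funext i
    exact hm i
  calc m = Matrix.vecMul m 1 := (Matrix.vecMul_one m).symm
    _ = Matrix.vecMul (Matrix.vecMul m A') ((↑u⁻¹ : ZMod n) • B') := by rw [Matrix.vecMul_vecMul, h4]
    _ = 0 := by rw [h5, Matrix.zero_vecMul]

theorem card_KA {d : ℕ} {Bi : Fin l → Fin l → ℤ} (hB : InvC D l d Bi) {n : ℕ} (hu : Nat.Coprime d n) :
    Nat.card (KA D l n) = 1 := by rw [KA_eq_bot hB hu, AddSubgroup.card_bot]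

/-- the kernel for `E₆` -/
theorem card_KA_E6 (a : ℕ) : Nat.card (KA chevE6 6 (3 ^ a)) ∣ 3 := by
  have : NeZero (3 ^ a) := ⟨by positivity⟩
  have hA := cartan_E6
  -- the equations
  have heq : ∀ m ∈ KA chevE6 6 (3 ^ a), 3 * m 0 = 0 ∧ (m 0 = 0 → m = 0) := by
    intro m hm
    have h0 := hm 0
    have h1 := hm 1
    have h2 := hm 2
    have h3 := hm 3
    have h4 := hm 4
    have h5 := hm 5
    rw [hA] at h0 h1 h2 h3 h4 h5
    simp only [Fin.sum_univ_six, AE6] at h0 h1 h2 h3 h4 h5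
    simp only [_root_.Fin.isValue, _root_.Int.reduceNeg, _root_.Matrix.cons_val', _root_.Matrix.cons_val_zero, _root_.Matrix.cons_val_fin_one, _root_.Int.cast_ofNat, _root_.Matrix.cons_val_one, _root_.Int.cast_zero, _root_.MulZeroClass.mul_zero, _root_.add_zero, _root_.Matrix.cons_val, _root_.Int.cast_neg, _root_.Int.cast_one, _root_.mul_neg, _root_.mul_one, _root_.zero_add] at h0 h1 h2 h3 h4 h5
    have e1 : 3 * m 0 = 0 := by linear_combination 4 * h0 + 3 * h1 + 5 * h2 + 6 * h3 + 4 * h4 + 2 * h5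
    refine ⟨e1, fun hm0 => ?_⟩
    have m2 : m 2 = 0 := by linear_combination (-1 : ZMod (3 ^ a)) * h0 + 2 * hm0
    have m3 : m 3 = 0 := by linear_combination (-1 : ZMod (3 ^ a)) * h2 - hm0 + 2 * m2
    have e2 : 2 * m 1 = 0 := by linear_combination h1 + m3
    have e3 : m 1 = - m 4 := by linear_combination (-1 : ZMod (3 ^ a)) * h3 - m2 + 2 * m3
    have e4 : m 5 = 2 * m 4 := by linear_combination (-1 : ZMod (3 ^ a)) * h4 - m3
    have e5 : 3 * m 4 = 0 := by linear_combination h5 - 2 * e4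
    have m4 : m 4 = 0 := by linear_combination e5 + e2 - 2 * e3
    have m1 : m 1 = 0 := by rw [e3, m4, neg_zero]
    have m5 : m 5 = 0 := by rw [e4, m4, mul_zero]
    funext i
    fin_cases i
    · exact hm0
    · exact m1
    · exact m2
    · exact m3
    · exact m4
    · exact m5
  -- at most three elements
  have hle : Nat.card (KA chevE6 6 (3 ^ a)) ≤ 3 := by
    classical
    have h1 := IsAddCyclic.card_nsmul_eq_zero_le (α := ZMod (3 ^ a)) (n := 3) (by norm_num)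
    rw [← Fintype.card_subtype, ← Nat.card_eq_fintype_card] at h1
    refine le_trans (Nat.card_le_card_of_injective
      (fun m : KA chevE6 6 (3 ^ a) => (⟨(m : Fin 6 → ZMod (3 ^ a)) 0, by
        rw [nsmul_eq_mul]; exact_mod_cast (heq m m.2).1⟩ : {x : ZMod (3 ^ a) // 3 • x = 0})) ?_) h1
    intro x y hxy
    have h2 : (x : Fin 6 → ZMod (3 ^ a)) 0 = (y : Fin 6 → ZMod (3 ^ a)) 0 := congrArg Subtype.val hxy
    have h3 := (heq _ (x - y).2).2 (by
      show (x : Fin 6 → ZMod (3 ^ a)) 0 - (y : Fin 6 → ZMod (3 ^ a)) 0 = 0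
      rw [h2, sub_self])
    apply Subtype.ext
    have h4 : (x : Fin 6 → ZMod (3 ^ a)) - y = 0 := h3
    exact sub_eq_zero.1 h4
  have hdvd : Nat.card (KA chevE6 6 (3 ^ a)) ∣ 3 ^ (a * 6) := by
    have h1 := (KA chevE6 6 (3 ^ a)).card_addSubgroup_dvd_card
    have h2 : Nat.card (Fin 6 → ZMod (3 ^ a)) = 3 ^ (a * 6) := by
      rw [Nat.card_pi]
      simp [pow_mul]
    rwa [h2] at h1
  obtain ⟨j, -, hj⟩ := (Nat.dvd_prime_pow Nat.prime_three).1 hdvd
  rw [hj] at hle ⊢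
  have : j ≤ 1 := by
    by_contra h
    have h1 : 3 ^ 2 ≤ 3 ^ j := Nat.pow_le_pow_right (by norm_num) (by omega)
    omega
  exact pow_dvd_pow 3 this

/-! ### the data -/

def eeF4 : Fin 4 → (Fin 4 → ℤ) := ![![1, 0, 0, 0], ![0, 1, 0, 0], ![0, 1, 1, 0], ![0, 1, 1, 1]]

set_option backward.isDefEq.respectTransparency false in
def datF4 : Dat chevF4 4 where
  d := 1
  Bi := _
  hB := invC_F4
  hd := Or.inl rfl
  sym := ![1, 1, 2, 2]
  i0 := 0
  dep := ![0, 1, 2, 3]
  S := by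
    rw [cartan_F4]
    exact ⟨by decide +kernel, by decide +kernel, by decide +kernel⟩
  m := 4
  ee := eeF4
  norm := by
    rw [cartan_F4]
    decide +kernel
  span := by
    intro j
    have h : ∀ i, eeF4 i ∈ AddSubgroup.closure (Set.range eeF4) := fun i => AddSubgroup.subset_closure ⟨i, rfl⟩
    fin_cases j
    · convert h 0 using 1
      decide +kernel
    · convert h 1 using 1
      decide +kernel
    · have h1 := sub_mem (h 2) (h 1)
      convert h1 using 1
      decide +kernel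
    · have h1 := sub_mem (h 3) (h 2)
      convert h1 using 1
      decide +kernel
  j0 := 0
  dp := ![0, 1, 1, 1]
  conn := by
    rw [cartan_F4]
    decide +kernel
  a := ![0, 1, 0, 0]
  b := ![1, 0, 0, 0]
  c := ![0, 1, 1, 0]
  ha := by rw [cartan_F4]; decide +kernel
  hb := by rw [cartan_F4]; decide +kernel
  hc := by rw [cartan_F4]; decide +kernel
  hab := by rw [cartan_F4]; decide +kernel
  hbc := by rw [cartan_F4]; decide +kernel
  hac := by rw [cartan_F4]; decide +kernel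
  hsym := by decide +kernel

/-- simply laced types -/
def datADE {D : ChevalleyDatum} {l : ℕ} {A : Fin l → Fin l → ℤ} (hA : cartanOf D l = A) (d : ℕ)
    (Bi : Fin l → Fin l → ℤ) (hB : InvC D l d Bi) (hd : d = 1 ∨ d.Prime) (i0 : Fin l) (dep : Fin l → ℕ)
    (hsym : ∀ i j, A i j = A j i) (hconn : ∀ i, i = i0 ∨ ∃ j, dep j < dep i ∧ A i j ≠ 0)
    (hnorm : ∀ i, nf A (fun _ => 1) (sr i) (sr i) = 2)
    (hconn' : ∀ i, i = i0 ∨ ∃ j, dep j < dep i ∧ nf A (fun _ => 1) (sr i) (sr j) ≠ 0) (i j k : Fin l)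
    (hij : nf A (fun _ => 1) (sr i) (sr j) = -1) (hjk : nf A (fun _ => 1) (sr j) (sr k) = -1)
    (hik : nf A (fun _ => 1) (sr i) (sr k) = 0) : Dat D l where
  d := d
  Bi := Bi
  hB := hB
  hd := hd
  sym := fun _ => 1
  i0 := i0
  dep := dep
  S := by
    rw [hA]
    exact ⟨fun i j => by rw [hsym i j], fun _ => one_pos, hconn⟩
  m := l
  ee := sr
  norm := by rw [hA]; exact hnorm
  span := fun j => AddSubgroup.subset_closure ⟨j, rfl⟩
  j0 := i0
  dp := dep
  conn := by rw [hA]; exact hconn'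
  a := sr i
  b := sr j
  c := sr k
  ha := by rw [hA]; exact hnorm i
  hb := by rw [hA]; exact hnorm j
  hc := by rw [hA]; exact hnorm k
  hab := by rw [hA]; exact hij
  hbc := by rw [hA]; exact hjk
  hac := by rw [hA]; exact hik
  hsym := fun _ => Or.inl rfl

def datE6 : Dat chevE6 6 :=
  datADE cartan_E6 3 _ invC_E6 (Or.inr Nat.prime_three) 0 ![0, 3, 1, 2, 3, 4] (by decide +kernel) (by decide +kernel)
    (by decide +kernel) (by decide +kernel) 0 2 3 (by decide +kernel) (by decide +kernel) (by decide +kernel)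

def datE7 : Dat chevE7 7 :=
  datADE cartan_E7 2 _ invC_E7 (Or.inr Nat.prime_two) 0 ![0, 3, 1, 2, 3, 4, 5] (by decide +kernel) (by decide +kernel)
    (by decide +kernel) (by decide +kernel) 0 2 3 (by decide +kernel) (by decide +kernel) (by decide +kernel)

def datE8 : Dat chevE8 8 :=
  datADE cartan_E8 1 _ invC_E8 (Or.inl rfl) 0 ![0, 3, 1, 2, 3, 4, 5, 6] (by decide +kernel) (by decide +kernel)
    (by decide +kernel) (by decide +kernel) 0 2 3 (by decide +kernel) (by decide +kernel) (by decide +kernel)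

/-! ### the untwisted rows -/

section

variable {M : CoxeterMatrix (Fin l)} {hp : IsType D l M} {k : Type u} [Field k] [IsAlgClosed k] (hk : LocFin k)
  {r e : ℕ} [Fact r.Prime] [CharP k r] {G : Type v} [Group G] [Finite G] {f : G →* ↥(D.group k)}
  {σ : MulAut ↥(D.group k)} {g : (Fin l → ℤ) ≃+ (Fin l → ℤ)}

include hk in
/-- `s = 3`, the full case -/
theorem three_full (X : Dat D l) (hf : Function.Injective f) (he : 0 < e) (hσ : IsFrob r e σ)
    (F : Fr M.toCoxeterSystem hp.isCartan (TT D k) (XX D l k) σ g) (hfix : ∀ x, σ (f x) = f x)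
    (hfin : Finite {y : ↥(D.group k) // σ y = y})
    (hcm : ∀ a b, σ a = a → σ b = b → ∃ x, f x = a * b * a⁻¹ * b⁻¹) (w : M.Group) {ε : ℤ}
    (hε : ∀ x, rep M.toCoxeterSystem hp.isCartan w (g x) = ε • x) (h3r : 3 ≠ r) {t : ℕ} [ht : Fact t.Prime]
    (ht2 : t ≠ 2) (ht3 : t ≠ 3) {a c₀ N₂ : ℕ} (ha : 0 < a) (hq : ((3 ^ a : ℕ) : ℤ) ∣ (r : ℤ) ^ e - ε)
    (hK : Nat.card (KA D l (3 ^ a)) ∣ 3 ^ c₀) (hN₂ : 3 ^ N₂ ∣ Nat.card M.Group)
    (hord : ¬ 3 ^ (a * l - c₀ + N₂ + 1) ∣ Nat.card G)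
    (hWL : ∀ H : Subgroup M.Group, (∀ q, q.Prime → q ∣ Nat.card H → q = 3 ∨ q = t) →
      3 ^ N₂ ∣ Nat.card H → ¬ t ∣ Nat.card H) : PairN t 3 G := by
  obtain ⟨κ, τ, z, hE, hκ, hb⟩ := _root_.Cfsg.Agent.H572.ExcD.exists_emb (hp := hp) hk hf he hσ F hfix hfin w
  have hθ : ∀ x, (g.trans (repAut M.toCoxeterSystem hp.isCartan w)) x = ε • x := hε
  have hcm' := fun a b => comm_of_comm (κ := κ) (τ := τ) hκ hb hcm a b
  obtain ⟨ζ, R⟩ := row_full (hp := hp) (hk := hk) (hs := ⟨Nat.prime_three⟩) (by norm_num) h3r hE X.hB X.hd0 hθ hcm' ha hq hK hN₂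
    hord X.S X.norm X.hspan (X.hds Nat.prime_three (by norm_num))
  exact pairN_three ht2 ht3 hE X.hB X.hd0 R X.j0 X.dp X.conn X.hspan X.ha X.hb X.hc X.hab X.hbc X.hac
    (fun H _ => hWL H)

include hk in
/-- `s ≥ 5`, the full case -/
theorem five_full (X : Dat D l) (hf : Function.Injective f) (he : 0 < e) (hσ : IsFrob r e σ)
    (F : Fr M.toCoxeterSystem hp.isCartan (TT D k) (XX D l k) σ g) (hfix : ∀ x, σ (f x) = f x)
    (hfin : Finite {y : ↥(D.group k) // σ y = y})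
    (hcm : ∀ a b, σ a = a → σ b = b → ∃ x, f x = a * b * a⁻¹ * b⁻¹) (w : M.Group) {ε : ℤ}
    (hε : ∀ x, rep M.toCoxeterSystem hp.isCartan w (g x) = ε • x) {s : ℕ} [hs : Fact s.Prime] (hs5 : 5 ≤ s)
    (hsr : s ≠ r) {t : ℕ} [ht : Fact t.Prime] (ht2 : t ≠ 2) (hst : s ≠ t) {a c₀ N₂ : ℕ} (ha : 0 < a)
    (hq : ((s ^ a : ℕ) : ℤ) ∣ (r : ℤ) ^ e - ε)
    (hK : Nat.card (KA D l (s ^ a)) ∣ s ^ c₀) (hN₂ : s ^ N₂ ∣ Nat.card M.Group)
    (hord : ¬ s ^ (a * l - c₀ + N₂ + 1) ∣ Nat.card G)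
    (hWL : ∀ H : Subgroup M.Group, (∀ q, q.Prime → q ∣ Nat.card H → q = s ∨ q = t) →
      s ^ N₂ ∣ Nat.card H → ¬ t ∣ Nat.card H) : PairN t s G := by
  obtain ⟨κ, τ, z, hE, hκ, hb⟩ := _root_.Cfsg.Agent.H572.ExcD.exists_emb (hp := hp) hk hf he hσ F hfix hfin w
  have hθ : ∀ x, (g.trans (repAut M.toCoxeterSystem hp.isCartan w)) x = ε • x := hε
  have hcm' := fun a b => comm_of_comm (κ := κ) (τ := τ) hκ hb hcm a b
  obtain ⟨ζ, R⟩ := row_full (hp := hp) (hk := hk) (by omega) hsr hE X.hB X.hd0 hθ hcm' ha hq hK hN₂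
    hord X.S X.norm X.hspan (X.hds hs.out (by omega))
  exact pairN_five hs5 ht2 hst hE X.hB X.hd0 R (fun H _ => hWL H)

end

/-! ### arithmetic -/

theorem dvd_of_sq {s : ℕ} (hs : s.Prime) (hs2 : s ≠ 2) {q : ℕ} (hq1 : 1 ≤ q) {ε : ℤ} (hε : ε = 1 ∨ ε = -1)
    (h : (s : ℤ) ∣ q - ε) {a : ℕ} (ha : s ^ a ∣ q ^ 2 - 1) : ((s ^ a : ℕ) : ℤ) ∣ q - ε := by
  have hεε : ε * ε = 1 := by rcases hε with h | h <;> rw [h] <;> norm_num
  have hsp : Prime (s : ℤ) := Nat.prime_iff_prime_int.1 hs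
  have h1 : ¬ (s : ℤ) ∣ q + ε := by
    intro h2
    have h3 : (s : ℤ) ∣ 2 * ε := by
      have := dvd_sub h2 h
      have e : (q : ℤ) + ε - (q - ε) = 2 * ε := by ring
      rwa [e] at this
    rcases hsp.dvd_or_dvd h3 with h4 | h4
    · have h5 : s ∣ 2 := by exact_mod_cast h4
      exact hs2 ((Nat.prime_dvd_prime_iff_eq hs Nat.prime_two).1 h5)
    · have h5 : (s : ℤ) ∣ 1 := by rw [← hεε]; exact h4.mul_right _
      exact hsp.not_isUnit (isUnit_of_dvd_one h5)
  have h2 : ((s ^ a : ℕ) : ℤ) ∣ (q - ε) * (q + ε) := by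
    have h3 : ((s ^ a : ℕ) : ℤ) ∣ ((q ^ 2 - 1 : ℕ) : ℤ) := by exact_mod_cast ha
    have h4 : ((q ^ 2 - 1 : ℕ) : ℤ) = (q - ε) * (q + ε) := by
      rw [Nat.cast_sub (Nat.one_le_pow _ _ hq1)]
      push_cast
      linear_combination hεε
    rwa [h4] at h3
  push_cast at h2 ⊢
  exact (hsp.pow_dvd_of_dvd_mul_right a h1 h2)

theorem exists_exp {s : ℕ} (hs : s.Prime) {q : ℕ} (hq1 : 2 ≤ q) {ε : ℤ} (hε : ε = 1 ∨ ε = -1)
    (h : (s : ℤ) ∣ q - ε) : ∃ a, 0 < a ∧ s ^ a ∣ q ^ 2 - 1 ∧ ¬ s ^ (a + 1) ∣ q ^ 2 - 1 := by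
  have hεε : ε * ε = 1 := by rcases hε with h | h <;> rw [h] <;> norm_num
  have h0 : q ^ 2 - 1 ≠ 0 := by
    have : 2 ^ 2 ≤ q ^ 2 := Nat.pow_le_pow_left hq1 2
    omega
  refine ⟨(q ^ 2 - 1).factorization s, ?_, Nat.ordProj_dvd _ _, Nat.pow_succ_factorization_not_dvd h0 hs⟩
  apply Nat.pos_of_ne_zero
  intro h1
  have h2 : s ∣ q ^ 2 - 1 := by
    have h3 : (s : ℤ) ∣ ((q ^ 2 - 1 : ℕ) : ℤ) := by
      have h4 : ((q ^ 2 - 1 : ℕ) : ℤ) = (q - ε) * (q + ε) := by
        rw [Nat.cast_sub (Nat.one_le_pow _ _ (by omega))]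
        push_cast
        linear_combination hεε
      rw [h4]
      exact h.mul_right _
    exact_mod_cast h3
  have h3 := (hs.dvd_iff_one_le_factorization h0).1 h2
  omega

section Untw

variable {M : CoxeterMatrix (Fin l)} (hp : IsType D l M) {F : Type u} [Field F] [Fintype F]

include hp in
/-- the set up for the untwisted groups -/
theorem setup_untw' (X : Dat D l) {r e : ℕ} [Fact r.Prime] [CharP (AlgebraicClosure F) r]
    (hk : LocFin (AlgebraicClosure F)) (he : 0 < e) (hq : Fintype.card F = r ^ e) :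
    Function.Injective (emb hp.inList (algebraMap F (AlgebraicClosure F))) ∧
    IsFrob r e (phi D (AlgebraicClosure F) r e) ∧
    Fr M.toCoxeterSystem hp.isCartan (TT D (AlgebraicClosure F)) (XX D l (AlgebraicClosure F))
      (phi D (AlgebraicClosure F) r e) (AddEquiv.refl (Fin l → ℤ)) ∧
    (∀ x, phi D (AlgebraicClosure F) r e (emb hp.inList (algebraMap F (AlgebraicClosure F)) x) =
      emb hp.inList (algebraMap F (AlgebraicClosure F)) x) ∧
    Finite {y : ↥(D.group (AlgebraicClosure F)) // phi D (AlgebraicClosure F) r e y = y} ∧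
    ∀ a b, phi D (AlgebraicClosure F) r e a = a → phi D (AlgebraicClosure F) r e b = b →
      ∃ x, emb hp.inList (algebraMap F (AlgebraicClosure F)) x = a * b * a⁻¹ * b⁻¹ := by
  obtain ⟨p, hp1, hp2⟩ : ∃ p : ℕ, p.Prime ∧ ¬ p ∣ X.d := by
    obtain ⟨p, hp1, hp2⟩ := Nat.exists_infinite_primes (X.d + 1)
    exact ⟨p, hp2, fun h => by
      have := Nat.le_of_dvd (Nat.pos_of_ne_zero X.hd0) h
      omega⟩
  have : Fact p.Prime := ⟨hp1⟩
  have hset := setup_untw hp hk (algebraMap F (AlgebraicClosure F)) he hq X.hB X.hd0 X.hd hp2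
  exact ⟨hset.inj, hset.frob, hset.fr, hset.fix, hset.fin,
    comm_mem_of_split (TT_comm hp) hset.norm hset.fix (fun y hy => fix_split hp _ hq hy)⟩

include hp in
/-- untwisted groups, `s = 3` -/
theorem three_untw (X : Dat D l) (h3 : (3 : F) ≠ 0) {ε : ℤ} (hε2 : ε = 1 ∨ ε = -1) (w : M.Group)
    (hε : ∀ x, rep M.toCoxeterSystem hp.isCartan w x = ε • x) (hq : (3 : ℤ) ∣ (Fintype.card F : ℤ) - ε)
    {c₀ N₂ : ℕ} (hK : ∀ a, Nat.card (KA D l (3 ^ a)) ∣ 3 ^ c₀) (hN₂ : 3 ^ N₂ ∣ Nat.card M.Group)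
    (hord : ∀ a, 0 < a → 3 ^ a ∣ Fintype.card F ^ 2 - 1 → ¬ 3 ^ (a + 1) ∣ Fintype.card F ^ 2 - 1 →
      ¬ 3 ^ (a * l - c₀ + N₂ + 1) ∣ Nat.card (D.group F)) {t : ℕ} [ht : Fact t.Prime] (ht2 : t ≠ 2) (ht3 : t ≠ 3)
    (hWL : ∀ H : Subgroup M.Group, (∀ q, q.Prime → q ∣ Nat.card H → q = 3 ∨ q = t) →
      3 ^ N₂ ∣ Nat.card H → ¬ t ∣ Nat.card H) : PairN t 3 ↥(D.group F) := by
  obtain ⟨r, e, hr, hrF, hrk, he, hqF, hk⟩ := _root_.Cfsg.Agent.H129.TorusUntw.exists_closure (F := F) rfl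
  have h3r : 3 ≠ r := by
    rintro rfl
    exact h3 (by exact_mod_cast CharP.cast_eq_zero F 3)
  have hGf : Finite ↥(D.group F) := inferInstance
  have hset := setup_untw' hp X hk he hqF
  obtain ⟨a, ha, ha1, ha2⟩ := exists_exp Nat.prime_three (Fintype.one_lt_card (α := F)) hε2 hq
  refine three_full (hp := hp) hk X hset.1 he hset.2.1 hset.2.2.1 hset.2.2.2.1 hset.2.2.2.2.1 hset.2.2.2.2.2 w
    (ε := ε) (fun x => hε x) h3r ht2 ht3 ha ?_ (hK a) hN₂ (hord a ha ha1 ha2) hWL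
  have h1 := dvd_of_sq Nat.prime_three (by norm_num) (Fintype.card_pos) hε2 hq ha1
  rw [hqF] at h1
  push_cast at h1 ⊢
  exact h1

include hp in
/-- untwisted groups, `s ≥ 5` -/
theorem five_untw (X : Dat D l) {s : ℕ} [hs : Fact s.Prime] (hs5 : 5 ≤ s) (hsF : (s : F) ≠ 0) {ε : ℤ}
    (hε2 : ε = 1 ∨ ε = -1) (w : M.Group)
    (hε : ∀ x, rep M.toCoxeterSystem hp.isCartan w x = ε • x) (hq : (s : ℤ) ∣ (Fintype.card F : ℤ) - ε)
    {N₂ : ℕ} (hd : ¬ s ∣ X.d) (hN₂ : s ^ N₂ ∣ Nat.card M.Group)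
    (hord : ∀ a, 0 < a → s ^ a ∣ Fintype.card F ^ 2 - 1 → ¬ s ^ (a + 1) ∣ Fintype.card F ^ 2 - 1 →
      ¬ s ^ (a * l + N₂ + 1) ∣ Nat.card (D.group F)) {t : ℕ} [ht : Fact t.Prime] (ht2 : t ≠ 2) (hst : s ≠ t)
    (hWL : ∀ H : Subgroup M.Group, (∀ q, q.Prime → q ∣ Nat.card H → q = s ∨ q = t) →
      s ^ N₂ ∣ Nat.card H → ¬ t ∣ Nat.card H) : PairN t s ↥(D.group F) := by
  obtain ⟨r, e, hr, hrF, hrk, he, hqF, hk⟩ := _root_.Cfsg.Agent.H129.TorusUntw.exists_closure (F := F) rfl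
  have hsr : s ≠ r := by
    rintro rfl
    exact hsF (CharP.cast_eq_zero F s)
  have hGf : Finite ↥(D.group F) := inferInstance
  have hset := setup_untw' hp X hk he hqF
  obtain ⟨a, ha, ha1, ha2⟩ := exists_exp hs.out (Fintype.one_lt_card (α := F)) hε2 hq
  refine five_full (hp := hp) hk X hset.1 he hset.2.1 hset.2.2.1 hset.2.2.2.1 hset.2.2.2.2.1 hset.2.2.2.2.2 w
    (ε := ε) (fun x => hε x) hs5 hsr ht2 hst (c₀ := 0) ha ?_ ?_ hN₂ (by rw [Nat.sub_zero]; exact hord a ha ha1 ha2) hWL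
  · have h1 := dvd_of_sq hs.out (by omega) (Fintype.card_pos) hε2 hq ha1
    rw [hqF] at h1
    push_cast at h1 ⊢
    exact h1
  · rw [card_KA X.hB (Nat.Coprime.pow_right a ((Nat.Prime.coprime_iff_not_dvd hs.out).2 hd).symm)]
    exact one_dvd _

end Untw

/-! ### `²E₆(q)`, `3 ∣ q + 1` -/

/-- `²E₆(q)`, `3 ∣ q + 1` -/
theorem three_twE6 {F : Type u} [Field F] [Fintype F] {q : ℕ} (h3 : (3 : F) ≠ 0) (hq : IsPrimePow q)
    (hF : Fintype.card F = q ^ 2) (hq3 : (3 : ℤ) ∣ (q : ℤ) - (-1 : ℤ))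
    (hord : ∀ a, 0 < a → 3 ^ a ∣ q ^ 2 - 1 → ¬ 3 ^ (a + 1) ∣ q ^ 2 - 1 →
      ¬ 3 ^ (a * 6 + 4) ∣ Nat.card (twistedE6 F q)) {t : ℕ} [ht : Fact t.Prime] (ht2 : t ≠ 2) (ht3 : t ≠ 3)
    (hW : 3 ^ 4 ∣ Nat.card CoxeterMatrix.E₆.Group)
    (hWL : ∀ H : Subgroup CoxeterMatrix.E₆.Group, (∀ q, q.Prime → q ∣ Nat.card H → q = 3 ∨ q = t) →
      3 ^ 4 ∣ Nat.card H → ¬ t ∣ Nat.card H) : PairN t 3 ↥(twistedE6 F q) := by
  obtain ⟨r, n, hr, hrF, hrk, hn0, hn, hk⟩ := Cfsg.Agent.H795.Tw.exists_closure_q two_ne_zero hq hF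
  have hpr : 3 ≠ r := by
    rintro rfl
    exact h3 (by exact_mod_cast CharP.cast_eq_zero F 3)
  have hG : Finite ↥(twistedE6 F q) := inferInstance
  have : Fact (Nat.Prime 5) := ⟨by norm_num⟩
  have hset := Cfsg.Agent.H795.Tw.setup_six (algebraMap F (AlgebraicClosure F)) r hk hn0 hn hF (p := 5) (by norm_num)
  obtain ⟨a, ha, ha1, ha2⟩ := exists_exp Nat.prime_three hq.two_le (Or.inr rfl) hq3
  have hcm := comm_mem_of_split (TT_comm Cfsg.Agent.H720.TwFr.hp6) hset.norm hset.fix (fun y hy => by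
      have hφ : ∀ t : AlgebraicClosure F, iterateFrobenius (AlgebraicClosure F) r n t = t ^ q :=
        fun t => by rw [iterateFrobenius_def, hn]
      obtain ⟨x, hx, t, ht, e⟩ := EmbInst.twE6_split (f := algebraMap F (AlgebraicClosure F)) hq hF hφ y.2
        (by rw [← Cfsg.Agent.H720.TwFr.coe_sig6, hy])
      exact ⟨⟨x, hx⟩, ⟨t, diagonal_le_group Cfsg.Agent.H720.TwFr.hp6.inList _ ht⟩, ht, Subtype.ext e⟩)
  refine three_full (hp := Cfsg.Agent.H720.TwFr.hp6) hk datE6 hset.inj hn0 hset.frob hset.fr hset.fix hset.fin hcm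
    Cfsg.Agent.H795.NotAbData.E6.c6 (ε := -1) ?_ hpr ht2 ht3 (c₀ := 1) (N₂ := 4) ha ?_ ?_ hW ?_ hWL
  · exact eps_of_mat (hp := Cfsg.Agent.H720.TwFr.hp6) (w := Cfsg.Agent.H795.NotAbData.E6.c6)
      (U := Cfsg.Agent.H795.NotAbData.E6.c6M) perm6_mat
      (Cfsg.Agent.H795.NotAbData.E6.is_c6 Cfsg.Agent.H720.TwFr.hp6) (by decide +kernel)
  · have h1 := dvd_of_sq Nat.prime_three (by norm_num) (le_trans (by norm_num) hq.two_le) (Or.inr rfl) hq3 ha1
    rw [hn] at h1
    push_cast at h1 ⊢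
    exact h1
  · rw [pow_one]
    exact card_KA_E6 a
  · have h1 := hord a ha ha1 ha2
    have h2 : a * 6 - 1 + 4 + 1 = a * 6 + 4 := by omega
    rw [h2]
    exact h1

end Cfsg.Agent.H572.ExcE
end

private theorem dce_13a70b019bc9 : _root_.True := by
  try have : _root_.True := by simp only [_root_.Cfsg.Agent.H572.ExcB.ac.congr_simp]
  try have : _root_.True := by simp only [_root_.Cfsg.Agent.PRankPar.CardW.AE6.eq_1]
  exact _root_.True.intro
end

-- part: H565/PairExc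
section
set_option linter.all false

/-!
# Conjugacy of Hall subgroups of odd order in the small exceptional groups of Lie type

* `pairN_of_noMin` : `NoMin s t G` implies `PairN t s G`, `s`, `t` odd primes;
* `oddC_of_lie` : `OddC G` for a group of Lie type from `NoMin`;
* `oddC_isoG2`, `oddC_iso3D4`, `oddC_iso2F4`, `oddC_isoTits`, `oddC_isoSuzuki`, `oddC_isoRee`.
-/

set_option autoImplicit false

namespace Cfsg.Agent.H565.NM

open Subgroup Cfsg Cfsg.Lie Cfsg.Agent.H553.OddHall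

universe u

theorem pairN_of_noMin {G : Type*} [Group G] [Finite G] {s t : ℕ} (hs : s.Prime) (ht : t.Prime) (hs2 : s ≠ 2)
    (ht2 : t ≠ 2) (hst : s ≠ t) (h : NoMin s t G) : PairN t s G := by
  intro X hX
  refine ns_of_noMin hs ht hst (solvable_of_pi (π := ({s, t} : Set ℕ)) ?_ hX.1) (fun r hr hrd => ?_) (h.subgroup X)
  · rintro (h | h)
    · exact hs2 h.symm
    · exact ht2 h.symm
  · rcases hX.1 r hr hrd with h | h
    · exact Or.inl h
    · exact Or.inr h

/-- **`OddC` for a group of Lie type from `NoMin`.** -/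
theorem oddC_of_lie {G : Type u} [Group G] [Finite G] {p : ℕ} (hp : p.Prime) (hG : IsLieTypeChar p G)
    (h : ∀ s t : ℕ, s.Prime → t.Prime → s ≠ p → 2 < s → s < t → NoMin s t G) : OddC G :=
  oddC_of_char p (fun π h2 hpπ H K hH hK => OddBorel.conj_of_lie hp hG h2 hpπ hH hK)
    fun s t hs ht hsp _ h3 hst _ _ => pairN_of_noMin hs ht (by omega) (by omega) hst.ne
      (h s t hs ht hsp h3 hst)

/-- without a characteristic -/
theorem oddC_of_noMin {G : Type u} [Group G] [Finite G]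
    (h : ∀ s t : ℕ, s.Prime → t.Prime → 2 < s → s < t → NoMin s t G) : OddC G :=
  oddC_of_pairs fun s t hs ht h3 hst _ _ => pairN_of_noMin hs ht (by omega) (by omega) hst.ne (h s t hs ht h3 hst)

theorem cast_ne_zero_of_char {F : Type*} [Field F] {p s : ℕ} [CharP F p] (hp : p.Prime) (hs : s.Prime) (hsp : s ≠ p) :
    (s : F) ≠ 0 := fun h =>
  hsp ((Nat.prime_dvd_prime_iff_eq hp hs).1 ((CharP.cast_eq_zero_iff F p s).1 h)).symm

variable {G : Type u} [Group G] [Finite G]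

theorem oddC_isoG2 (h : Lie.IsoChevG2 G) : OddC G := by
  obtain ⟨F, iF, iFt, hF, ⟨e⟩⟩ := h
  obtain ⟨p, hp'⟩ := CharP.exists F
  have hp : p.Prime := CharP.char_is_prime F p
  refine oddC_of_lie hp (p := p) ?_ fun s t hs _ hsp hs2 hst =>
    (noMin_g2 (F := F) (cast_ne_zero_of_char hp hs hsp) hs2 hst).of_equiv e
  exact Or.inr <| Or.inr <| Or.inr <| Or.inr <| Or.inr <| Or.inr <| Or.inl ⟨F, iF, iFt, hp', Or.inl ⟨hF, ⟨e⟩⟩⟩

theorem oddC_iso3D4 (h : Lie.Iso3D4 G) : OddC G := by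
  obtain ⟨F, iF, iFt, q, hq, hF, ⟨e⟩⟩ := h
  obtain ⟨p, hp'⟩ := CharP.exists F
  have hp : p.Prime := CharP.char_is_prime F p
  refine oddC_of_lie hp (p := p) ?_ fun s t hs _ hsp hs2 hst =>
    (noMin_3D4 (K := F) hq (cast_ne_zero_of_char hp hs hsp) hs2 hst hF).of_equiv e
  exact Or.inr <| Or.inr <| Or.inr <| Or.inr <| Or.inr <| Or.inr <| Or.inr <| Or.inl
    ⟨F, iF, iFt, hp', q, hq, Or.inr ⟨hF, ⟨e⟩⟩⟩

theorem oddC_iso2F4 (h : Lie.Iso2F4 G) : OddC G :=
  oddC_of_noMin fun _ _ _ _ hs2 hst => noMin_iso2F4 hs2 hst h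

theorem oddC_isoTits (h : Lie.IsoTits G) : OddC G :=
  oddC_of_noMin fun _ _ _ _ hs2 hst => noMin_isoTits hs2 hst h

theorem oddC_isoSuzuki (h : Lie.IsoSuzuki G) : OddC G :=
  oddC_of_noMin fun _ _ _ _ hs2 hst => noMin_isoSuzuki hs2 hst h

theorem oddC_isoRee (h : Lie.IsoRee G) : OddC G :=
  oddC_of_lie Nat.prime_three (p := 3)
    (Or.inr <| Or.inr <| Or.inr <| Or.inr <| Or.inr <| Or.inr <| Or.inr <| Or.inr <| Or.inr <| Or.inr ⟨rfl, h⟩)
    fun _ _ _ _ hs3 hs2 hst => noMin_isoRee hs2 hst h hs3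

end Cfsg.Agent.H565.NM
end

-- part: H572/ExcF_mg
section
prune_inst 0x4c140504009c00000000005025000000414000090000088000820024002000020000220400c001004020a000000040000031000200000000000000000000001000808100401400000000000000084400000000000000000000000000000000004000000000
set_option linter.all false
open scoped Cfsg.Agent.FastGrp

-- part: H169/ExcOrd
section
/-!
# The 3-part and the 5-part of the orders of the exceptional groups (S4350, TEAM HALL, helper169)

`s ^ a ∣ q ^ 2 - 1` exactly, `a ≥ 1`.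
-/

set_option autoImplicit false

namespace Cfsg.Agent.H169.ExcOrd

open Cfsg.Lie

section Val

variable {s : ℕ} [hs : Fact s.Prime]

theorem val_eq {n a : ℕ} (h1 : s ^ a ∣ n) (h2 : ¬ s ^ (a + 1) ∣ n) : padicValNat s n = a := by
  have hn : n ≠ 0 := by
    rintro rfl
    exact h2 (dvd_zero _)
  apply le_antisymm
  · by_contra hlt
    push Not at hlt
    exact h2 ((padicValNat_dvd_iff_le hn).2 hlt)
  · exact (padicValNat_dvd_iff_le hn).1 h1

theorem val_zero {n : ℕ} (h : ¬ s ∣ n) : padicValNat s n = 0 := padicValNat.eq_zero_of_not_dvd h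

theorem not_dvd_of_val {n k : ℕ} (hn : n ≠ 0) (h : padicValNat s n < k) : ¬ s ^ k ∣ n := fun h1 =>
  absurd ((padicValNat_dvd_iff_le hn).1 h1) (by omega)

theorem pow_sub_ne {q k : ℕ} (hq : 2 ≤ q) (hk : k ≠ 0) : q ^ k - 1 ≠ 0 := by
  have h1 : 2 ≤ q ^ k := le_trans hq (Nat.le_self_pow hk q)
  omega

theorem not_dvd_of_sub {x : ℕ} (hx : 1 ≤ x) (h : s ∣ x - 1) : ¬ s ∣ x := by
  intro h1
  have h4 : s ∣ 1 := by
    have h5 := Nat.dvd_sub h1 h
    rwa [Nat.sub_sub_self hx] at h5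
  exact hs.out.one_lt.ne' (Nat.dvd_one.1 h4)

/-- the numbers `x ^ m - 1` -/
theorem val_pow_sub (hs2 : s ≠ 2) {x m : ℕ} (hx : 2 ≤ x) (h : s ∣ x - 1) (hm : m ≠ 0) :
    padicValNat s (x ^ m - 1) = padicValNat s (x - 1) + padicValNat s m := by
  have h4 := padicValNat.pow_sub_pow (p := s) (hs.out.odd_of_ne_two hs2) (x := x) (y := 1) hx h
    (not_dvd_of_sub (by omega) h) hm
  rwa [one_pow] at h4

theorem val_two_mul (hs2 : s ≠ 2) {m : ℕ} (hm : m ≠ 0) : padicValNat s (2 * m) = padicValNat s m := by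
  rw [padicValNat.mul (by norm_num) hm, val_zero, zero_add]
  intro h
  exact hs2 ((Nat.prime_dvd_prime_iff_eq hs.out Nat.prime_two).1 h)

/-- the product of the `q ^ d - 1` -/
def P (q : ℕ) (L : List ℕ) : ℕ := (L.map fun d => q ^ d - 1).prod

theorem P_ne {q : ℕ} (hq : 2 ≤ q) : ∀ {L : List ℕ}, (∀ d ∈ L, d ≠ 0) → P q L ≠ 0
  | [], _ => by simp [P]
  | d :: L, h => by
    have h1 := P_ne hq (L := L) fun e he => h e (List.mem_cons_of_mem _ he)
    unfold P at h1 ⊢
    rw [List.map_cons, List.prod_cons]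
    exact mul_ne_zero (pow_sub_ne hq (h d List.mem_cons_self)) h1

theorem val_P {q : ℕ} (hq : 2 ≤ q) (f : ℕ → ℕ) : ∀ {L : List ℕ}, (∀ d ∈ L, d ≠ 0 ∧ padicValNat s (q ^ d - 1) = f d) →
    padicValNat s (P q L) = (L.map f).sum
  | [], _ => by simp [P]
  | d :: L, h => by
    have h1 := val_P hq f (L := L) fun e he => h e (List.mem_cons_of_mem _ he)
    have h2 := P_ne hq (L := L) fun e he => (h e (List.mem_cons_of_mem _ he)).1
    have h3 := h d List.mem_cons_self
    have e : P q (d :: L) = (q ^ d - 1) * P q L := by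
      unfold P; rw [List.map_cons, List.prod_cons]
    rw [e, padicValNat.mul (pow_sub_ne hq h3.1) h2, h1, h3.2, List.map_cons, List.sum_cons]

variable {q a : ℕ} (hs2 : s ≠ 2) (hq : 2 ≤ q) (ha1 : 1 ≤ a) (ha : s ^ a ∣ q ^ 2 - 1)
  (ha' : ¬ s ^ (a + 1) ∣ q ^ 2 - 1)

include ha1 ha in
theorem dvd_two : s ∣ q ^ 2 - 1 := (dvd_pow_self s (by omega)).trans ha

include hq ha1 ha in
theorem not_dvd_q : ¬ s ∣ q := fun h =>
  not_dvd_of_sub (Nat.one_le_pow _ _ (by omega)) (dvd_two ha1 ha) (dvd_pow h two_ne_zero)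

include hq ha1 ha in
theorem val_q (k : ℕ) : padicValNat s (q ^ k) = 0 :=
  val_zero fun h => not_dvd_q hq ha1 ha (hs.out.dvd_of_dvd_pow h)

include hs2 hq ha1 ha ha' in
/-- even exponents -/
theorem val_even {d : ℕ} (hd : d ≠ 0) (he : Even d) : padicValNat s (q ^ d - 1) = a + padicValNat s d := by
  obtain ⟨m, rfl⟩ := he
  have hm : m ≠ 0 := by omega
  rw [← two_mul, pow_mul, val_pow_sub hs2 (by nlinarith) (dvd_two ha1 ha) hm, val_eq ha ha', val_two_mul hs2 hm]

theorem sq_sub (hq1 : 1 ≤ q) : q ^ 2 - 1 = (q - 1) * (q + 1) := by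
  obtain ⟨x, rfl⟩ := Nat.exists_eq_add_of_le hq1
  apply Nat.sub_eq_of_eq_add
  rw [Nat.add_sub_cancel_left]
  ring

include hs2 in
theorem not_both (hq1 : 1 ≤ q) : ¬ (s ∣ q - 1 ∧ s ∣ q + 1) := by
  rintro ⟨h1, h2⟩
  have h3 := Nat.dvd_sub h2 h1
  have h4 : q + 1 - (q - 1) = 2 := by omega
  rw [h4] at h3
  exact hs2 ((Nat.prime_dvd_prime_iff_eq hs.out Nat.prime_two).1 h3)

include hs2 hq ha1 ha ha' in
/-- all exponents, `s ∣ q - 1` -/
theorem val_all (h1 : s ∣ q - 1) {d : ℕ} (hd : d ≠ 0) : padicValNat s (q ^ d - 1) = a + padicValNat s d := by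
  have h2 := val_even hs2 hq ha1 ha ha' (d := 2) (by norm_num) (by decide)
  rw [val_pow_sub hs2 hq h1 (by norm_num)] at h2
  rw [val_pow_sub hs2 hq h1 hd]
  omega

include hs2 hq in
/-- odd exponents, `s ∣ q + 1` -/
theorem val_odd (h1 : s ∣ q + 1) {d : ℕ} (hd : Odd d) : padicValNat s (q ^ d - 1) = 0 := by
  refine val_zero fun h => ?_
  have h3 : s ∣ q ^ d + 1 := by
    have := Odd.nat_add_dvd_pow_add_pow q 1 hd
    rw [one_pow] at this
    exact h1.trans this
  exact not_both hs2 (q := q ^ d) (Nat.one_le_pow _ _ (by omega)) ⟨h, h3⟩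

include hs2 hq ha1 ha ha' in
/-- `q ^ d + 1`, `s ∣ q + 1`, `d` odd -/
theorem val_add (h1 : s ∣ q + 1) {d : ℕ} (hd : Odd d) : padicValNat s (q ^ d + 1) = a + padicValNat s d := by
  have h2 := padicValNat.pow_add_pow (p := s) (hs.out.odd_of_ne_two hs2) (x := q) (y := 1) h1
    (not_dvd_q hq ha1 ha) hd
  rw [one_pow] at h2
  rw [h2]
  congr 1
  have h3 := val_eq ha ha'
  have h4 : ¬ s ∣ q - 1 := fun h => not_both hs2 (by omega) ⟨h, h1⟩
  rw [sq_sub (by omega), padicValNat.mul (by omega) (by omega), val_zero h4, zero_add] at h3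
  exact h3

include hs2 hq in
/-- `q ^ d + 1`, `s ∣ q - 1` -/
theorem val_add' (h1 : s ∣ q - 1) {d : ℕ} : padicValNat s (q ^ d + 1) = 0 := by
  refine val_zero fun h => ?_
  have h3 : s ∣ q ^ d - 1 := by
    have := Nat.sub_dvd_pow_sub_pow q 1 d
    rw [one_pow] at this
    exact h1.trans this
  exact not_both hs2 (q := q ^ d) (Nat.one_le_pow _ _ (by omega)) ⟨h3, h⟩

end Val

theorem two_le_card {F : Type*} [Field F] [Fintype F] {q : ℕ} (hK : Fintype.card F = q) : 2 ≤ q := by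
  rw [← hK]
  exact Fintype.one_lt_card

local instance fact3 : Fact (Nat.Prime 3) := ⟨Nat.prime_three⟩
local instance fact5 : Fact (Nat.Prime 5) := ⟨Nat.prime_five⟩

theorem v3 : padicValNat 3 2 = 0 ∧ padicValNat 3 5 = 0 ∧ padicValNat 3 6 = 1 ∧ padicValNat 3 8 = 0 ∧
    padicValNat 3 9 = 2 ∧ padicValNat 3 10 = 0 ∧ padicValNat 3 12 = 1 ∧ padicValNat 3 14 = 0 ∧
    padicValNat 3 18 = 2 ∧ padicValNat 3 20 = 0 ∧ padicValNat 3 24 = 1 ∧ padicValNat 3 30 = 1 := by
  refine ⟨?_, ?_, ?_, ?_, ?_, ?_, ?_, ?_, ?_, ?_, ?_, ?_⟩ <;> exact val_eq (by norm_num) (by norm_num)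

theorem v5 : padicValNat 5 2 = 0 ∧ padicValNat 5 6 = 0 ∧ padicValNat 5 8 = 0 ∧
    padicValNat 5 10 = 1 ∧ padicValNat 5 12 = 0 ∧ padicValNat 5 14 = 0 ∧
    padicValNat 5 18 = 0 ∧ padicValNat 5 20 = 1 ∧ padicValNat 5 24 = 0 ∧ padicValNat 5 30 = 1 := by
  refine ⟨?_, ?_, ?_, ?_, ?_, ?_, ?_, ?_, ?_, ?_⟩ <;> exact val_eq (by norm_num) (by norm_num)

section Rows

variable {F : Type*} [Field F] [Fintype F] {q a : ℕ}

theorem val_group {s : ℕ} [hs : Fact s.Prime] {n N c : ℕ} {L : List ℕ} (hq : 2 ≤ q) (ha1 : 1 ≤ a)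
    (ha : s ^ a ∣ q ^ 2 - 1) (hL : ∀ d ∈ L, d ≠ 0) (h : c * n = q ^ N * P q L) :
    n ≠ 0 ∧ padicValNat s c + padicValNat s n = padicValNat s (P q L) := by
  have h1 := P_ne hq hL
  have h2 : q ^ N ≠ 0 := pow_ne_zero _ (by omega)
  have h3 : c * n ≠ 0 := by rw [h]; exact mul_ne_zero h2 h1
  have h4 : c ≠ 0 := left_ne_zero_of_mul h3
  have h5 : n ≠ 0 := right_ne_zero_of_mul h3
  refine ⟨h5, ?_⟩
  rw [← padicValNat.mul h4 h5, h, padicValNat.mul h2 h1, val_q hq ha1 ha, zero_add]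

theorem val_even_list {s : ℕ} [hs : Fact s.Prime] (hs2 : s ≠ 2) (hq : 2 ≤ q) (ha1 : 1 ≤ a) (ha : s ^ a ∣ q ^ 2 - 1)
    (ha' : ¬ s ^ (a + 1) ∣ q ^ 2 - 1) {L : List ℕ} (hL : ∀ d ∈ L, d ≠ 0 ∧ Even d) :
    padicValNat s (P q L) = (L.map fun d => a + padicValNat s d).sum :=
  val_P hq _ fun d hd => ⟨(hL d hd).1, val_even hs2 hq ha1 ha ha' (hL d hd).1 (hL d hd).2⟩

theorem F4_three (hK : Fintype.card F = q) (ha1 : 1 ≤ a) (ha : 3 ^ a ∣ q ^ 2 - 1)
    (ha' : ¬ 3 ^ (a + 1) ∣ q ^ 2 - 1) : ¬ 3 ^ (4 * a + 3) ∣ Nat.card ↥(chevF4.group F) := by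
  have hq := two_le_card hK
  obtain ⟨e2, e5, e6, e8, e9, e10, e12, e14, e18, e20, e24, e30⟩ := v3
  obtain ⟨h1, h2⟩ := val_group (s := 3) (n := Nat.card ↥(chevF4.group F)) (N := 24) (c := 1) (L := [2, 6, 8, 12])
    hq ha1 ha (by decide) (by rw [Cfsg.Agent.S1062.result hK]; simp only [P, _root_.one_mul, _root_.List.map_cons, _root_.List.map_nil, _root_.List.prod_cons, _root_.List.prod_nil, _root_.mul_one]; ring)
  rw [val_even_list (by norm_num) hq ha1 ha ha' (by decide)] at h2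
  simp only [List.map_cons, List.map_nil, List.sum_cons, List.sum_nil, e2, e6, e8, e12] at h2
  exact not_dvd_of_val h1 (by omega)

theorem E7_three (hK : Fintype.card F = q) (ha1 : 1 ≤ a) (ha : 3 ^ a ∣ q ^ 2 - 1)
    (ha' : ¬ 3 ^ (a + 1) ∣ q ^ 2 - 1) : ¬ 3 ^ (7 * a + 5) ∣ Nat.card ↥(chevE7.group F) := by
  have hq := two_le_card hK
  obtain ⟨e2, e5, e6, e8, e9, e10, e12, e14, e18, e20, e24, e30⟩ := v3
  obtain ⟨h1, h2⟩ := val_group (s := 3) (n := Nat.card ↥(chevE7.group F)) (N := 63) (c := Nat.gcd 2 (q - 1))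
    (L := [2, 6, 8, 10, 12, 14, 18]) hq ha1 ha (by decide) (by rw [Cfsg.Agent.S1064.result hK]; simp only [P, _root_.List.map_cons, _root_.List.map_nil, _root_.List.prod_cons, _root_.List.prod_nil, _root_.mul_one]; ring)
  rw [val_even_list (by norm_num) hq ha1 ha ha' (by decide)] at h2
  simp only [List.map_cons, List.map_nil, List.sum_cons, List.sum_nil, e2, e6, e8, e10, e12, e14, e18] at h2
  exact not_dvd_of_val h1 (by omega)

theorem E7_five (hK : Fintype.card F = q) (ha1 : 1 ≤ a) (ha : 5 ^ a ∣ q ^ 2 - 1)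
    (ha' : ¬ 5 ^ (a + 1) ∣ q ^ 2 - 1) : ¬ 5 ^ (7 * a + 2) ∣ Nat.card ↥(chevE7.group F) := by
  have hq := two_le_card hK
  obtain ⟨e2, e6, e8, e10, e12, e14, e18, e20, e24, e30⟩ := v5
  obtain ⟨h1, h2⟩ := val_group (s := 5) (n := Nat.card ↥(chevE7.group F)) (N := 63) (c := Nat.gcd 2 (q - 1))
    (L := [2, 6, 8, 10, 12, 14, 18]) hq ha1 ha (by decide) (by rw [Cfsg.Agent.S1064.result hK]; simp only [P, _root_.List.map_cons, _root_.List.map_nil, _root_.List.prod_cons, _root_.List.prod_nil, _root_.mul_one]; ring)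
  rw [val_even_list (by norm_num) hq ha1 ha ha' (by decide)] at h2
  simp only [List.map_cons, List.map_nil, List.sum_cons, List.sum_nil, e2, e6, e8, e10, e12, e14, e18] at h2
  exact not_dvd_of_val h1 (by omega)

theorem E8_three (hK : Fintype.card F = q) (ha1 : 1 ≤ a) (ha : 3 ^ a ∣ q ^ 2 - 1)
    (ha' : ¬ 3 ^ (a + 1) ∣ q ^ 2 - 1) : ¬ 3 ^ (8 * a + 6) ∣ Nat.card ↥(chevE8.group F) := by
  have hq := two_le_card hK
  obtain ⟨e2, e5, e6, e8, e9, e10, e12, e14, e18, e20, e24, e30⟩ := v3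
  obtain ⟨h1, h2⟩ := val_group (s := 3) (n := Nat.card ↥(chevE8.group F)) (N := 120) (c := 1)
    (L := [2, 8, 12, 14, 18, 20, 24, 30]) hq ha1 ha (by decide) (by rw [Cfsg.Agent.S1065.result hK]; simp only [P, _root_.one_mul, _root_.List.map_cons, _root_.List.map_nil, _root_.List.prod_cons, _root_.List.prod_nil, _root_.mul_one]; ring)
  rw [val_even_list (by norm_num) hq ha1 ha ha' (by decide)] at h2
  simp only [List.map_cons, List.map_nil, List.sum_cons, List.sum_nil, e2, e8, e12, e14, e18, e20, e24, e30] at h2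
  exact not_dvd_of_val h1 (by omega)

theorem E8_five (hK : Fintype.card F = q) (ha1 : 1 ≤ a) (ha : 5 ^ a ∣ q ^ 2 - 1)
    (ha' : ¬ 5 ^ (a + 1) ∣ q ^ 2 - 1) : ¬ 5 ^ (8 * a + 3) ∣ Nat.card ↥(chevE8.group F) := by
  have hq := two_le_card hK
  obtain ⟨e2, e6, e8, e10, e12, e14, e18, e20, e24, e30⟩ := v5
  obtain ⟨h1, h2⟩ := val_group (s := 5) (n := Nat.card ↥(chevE8.group F)) (N := 120) (c := 1)
    (L := [2, 8, 12, 14, 18, 20, 24, 30]) hq ha1 ha (by decide) (by rw [Cfsg.Agent.S1065.result hK]; simp only [P, _root_.one_mul, _root_.List.map_cons, _root_.List.map_nil, _root_.List.prod_cons, _root_.List.prod_nil, _root_.mul_one]; ring)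
  rw [val_even_list (by norm_num) hq ha1 ha ha' (by decide)] at h2
  simp only [List.map_cons, List.map_nil, List.sum_cons, List.sum_nil, e2, e8, e12, e14, e18, e20, e24, e30] at h2
  exact not_dvd_of_val h1 (by omega)

theorem gcd_three {m : ℕ} (h : 3 ∣ m) : padicValNat 3 (Nat.gcd 3 m) = 1 := by
  rw [Nat.gcd_eq_left h]
  exact padicValNat_self

theorem E6_three_one (hK : Fintype.card F = q) (ha1 : 1 ≤ a) (ha : 3 ^ a ∣ q ^ 2 - 1)
    (ha' : ¬ 3 ^ (a + 1) ∣ q ^ 2 - 1) (hq3 : q % 3 = 1) : ¬ 3 ^ (6 * a + 4) ∣ Nat.card ↥(chevE6.group F) := by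
  have hq := two_le_card hK
  have h3 : 3 ∣ q - 1 := by omega
  obtain ⟨e2, e5, e6, e8, e9, e10, e12, e14, e18, e20, e24, e30⟩ := v3
  obtain ⟨h1, h2⟩ := val_group (s := 3) (n := Nat.card ↥(chevE6.group F)) (N := 36) (c := Nat.gcd 3 (q - 1))
    (L := [2, 5, 6, 8, 9, 12]) hq ha1 ha (by decide) (by rw [Cfsg.Agent.S1063.result hK]; simp only [P, _root_.List.map_cons, _root_.List.map_nil, _root_.List.prod_cons, _root_.List.prod_nil, _root_.mul_one]; ring)
  have hne : ∀ d ∈ [2, 5, 6, 8, 9, 12], d ≠ 0 := by decide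
  rw [gcd_three h3, val_P hq (fun d => a + padicValNat 3 d) (L := [2, 5, 6, 8, 9, 12]) fun d hd =>
    ⟨hne d hd, val_all (by norm_num) hq ha1 ha ha' h3 (hne d hd)⟩] at h2
  simp only [List.map_cons, List.map_nil, List.sum_cons, List.sum_nil, e2, e5, e6, e8, e9, e12] at h2
  exact not_dvd_of_val h1 (by omega)

theorem E6_three_two (hK : Fintype.card F = q) (ha1 : 1 ≤ a) (ha : 3 ^ a ∣ q ^ 2 - 1)
    (ha' : ¬ 3 ^ (a + 1) ∣ q ^ 2 - 1) (hq3 : q % 3 = 2) : ¬ 3 ^ (4 * a + 3) ∣ Nat.card ↥(chevE6.group F) := by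
  have hq := two_le_card hK
  have h3 : 3 ∣ q + 1 := by omega
  obtain ⟨e2, e5, e6, e8, e9, e10, e12, e14, e18, e20, e24, e30⟩ := v3
  obtain ⟨h1, h2⟩ := val_group (s := 3) (n := Nat.card ↥(chevE6.group F)) (N := 36) (c := Nat.gcd 3 (q - 1))
    (L := [2, 5, 6, 8, 9, 12]) hq ha1 ha (by decide) (by rw [Cfsg.Agent.S1063.result hK]; simp only [P, _root_.List.map_cons, _root_.List.map_nil, _root_.List.prod_cons, _root_.List.prod_nil, _root_.mul_one]; ring)
  have hne : ∀ d ∈ [2, 5, 6, 8, 9, 12], d ≠ 0 := by decide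
  rw [val_P hq (fun d => if d % 2 = 0 then a + padicValNat 3 d else 0) (L := [2, 5, 6, 8, 9, 12]) fun d hd =>
    ⟨hne d hd, by
      split_ifs with h
      · exact val_even (by norm_num) hq ha1 ha ha' (hne d hd) (Nat.even_iff.2 h)
      · exact val_odd (by norm_num) hq h3 (Nat.odd_iff.2 (by omega))⟩] at h2
  simp only [e2, e6, e8, e12, _root_.List.map_cons, _root_.Nat.mod_self, ↓ _root_.reduceIte, _root_.add_zero, _root_.Nat.reduceMod, _root_.one_ne_zero, _root_.List.map_nil, _root_.List.sum_cons, _root_.List.sum_nil, _root_.zero_add] at h2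
  exact not_dvd_of_val h1 (by omega)

theorem val_group' {s : ℕ} [hs : Fact s.Prime] {n N c m : ℕ} {L : List ℕ} (hq : 2 ≤ q) (ha1 : 1 ≤ a)
    (ha : s ^ a ∣ q ^ 2 - 1) (hL : ∀ d ∈ L, d ≠ 0) (hm : m ≠ 0) (h : c * n = q ^ N * P q L * m) :
    n ≠ 0 ∧ padicValNat s c + padicValNat s n = padicValNat s (P q L) + padicValNat s m := by
  have h1 := P_ne hq hL
  have h2 : q ^ N ≠ 0 := pow_ne_zero _ (by omega)
  have h3 : c * n ≠ 0 := by rw [h]; exact mul_ne_zero (mul_ne_zero h2 h1) hm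
  have h4 : c ≠ 0 := left_ne_zero_of_mul h3
  have h5 : n ≠ 0 := right_ne_zero_of_mul h3
  refine ⟨h5, ?_⟩
  rw [← padicValNat.mul h4 h5, h, padicValNat.mul (mul_ne_zero h2 h1) hm, padicValNat.mul h2 h1, val_q hq ha1 ha,
    zero_add]

/-- `²E₆(q)`, `q = 2 mod 3` -/
theorem twE6_three_two (hq0 : IsPrimePow q) (hK : Fintype.card F = q ^ 2) (ha1 : 1 ≤ a) (ha : 3 ^ a ∣ q ^ 2 - 1)
    (ha' : ¬ 3 ^ (a + 1) ∣ q ^ 2 - 1) (hq3 : q % 3 = 2) : ¬ 3 ^ (6 * a + 4) ∣ Nat.card ↥(twistedE6 F q) := by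
  have hq : 2 ≤ q := hq0.two_le
  have h3 : 3 ∣ q + 1 := by omega
  obtain ⟨e2, e5, e6, e8, e9, e10, e12, e14, e18, e20, e24, e30⟩ := v3
  obtain ⟨h1, h2⟩ := val_group' (s := 3) (n := Nat.card ↥(twistedE6 F q)) (N := 36) (c := Nat.gcd 3 (q + 1))
    (L := [2, 6, 8, 12]) (m := (q ^ 5 + 1) * (q ^ 9 + 1)) hq ha1 ha (by decide) (by positivity)
    (by rw [Cfsg.Agent.S1066.result hq0 hK]; simp only [P, _root_.List.map_cons, _root_.List.map_nil, _root_.List.prod_cons, _root_.List.prod_nil, _root_.mul_one]; ring)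
  rw [gcd_three h3, val_even_list (by norm_num) hq ha1 ha ha' (by decide), padicValNat.mul (by positivity) (by positivity),
    val_add (by norm_num) hq ha1 ha ha' h3 (by decide), val_add (by norm_num) hq ha1 ha ha' h3 (by decide)] at h2
  simp only [List.map_cons, List.map_nil, List.sum_cons, List.sum_nil, e2, e5, e6, e8, e9, e12] at h2
  exact not_dvd_of_val h1 (by omega)

/-- `²E₆(q)`, `q = 1 mod 3` -/
theorem twE6_three_one (hq0 : IsPrimePow q) (hK : Fintype.card F = q ^ 2) (ha1 : 1 ≤ a) (ha : 3 ^ a ∣ q ^ 2 - 1)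
    (ha' : ¬ 3 ^ (a + 1) ∣ q ^ 2 - 1) (hq3 : q % 3 = 1) : ¬ 3 ^ (4 * a + 3) ∣ Nat.card ↥(twistedE6 F q) := by
  have hq : 2 ≤ q := hq0.two_le
  have h3 : 3 ∣ q - 1 := by omega
  obtain ⟨e2, e5, e6, e8, e9, e10, e12, e14, e18, e20, e24, e30⟩ := v3
  obtain ⟨h1, h2⟩ := val_group' (s := 3) (n := Nat.card ↥(twistedE6 F q)) (N := 36) (c := Nat.gcd 3 (q + 1))
    (L := [2, 6, 8, 12]) (m := (q ^ 5 + 1) * (q ^ 9 + 1)) hq ha1 ha (by decide) (by positivity)
    (by rw [Cfsg.Agent.S1066.result hq0 hK]; simp only [P, _root_.List.map_cons, _root_.List.map_nil, _root_.List.prod_cons, _root_.List.prod_nil, _root_.mul_one]; ring)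
  rw [val_even_list (by norm_num) hq ha1 ha ha' (by decide), padicValNat.mul (by positivity) (by positivity),
    val_add' (by norm_num) hq h3, val_add' (by norm_num) hq h3] at h2
  simp only [List.map_cons, List.map_nil, List.sum_cons, List.sum_nil, e2, e5, e6, e8, e9, e12] at h2
  exact not_dvd_of_val h1 (by omega)

/-- `E₈(q)`, `5 ∣ q² + 1`, `5 ^ a ∣ q⁴ - 1` exactly -/
theorem E8_five_four (hK : Fintype.card F = q) (ha1 : 1 ≤ a) (h5 : 5 ∣ q ^ 2 + 1) (ha : 5 ^ a ∣ q ^ 4 - 1)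
    (ha' : ¬ 5 ^ (a + 1) ∣ q ^ 4 - 1) : ¬ 5 ^ (4 * a + 2) ∣ Nat.card ↥(chevE8.group F) := by
  have hq' := two_le_card hK
  obtain ⟨Q, hQ⟩ : ∃ Q, Q = q ^ 2 := ⟨_, rfl⟩
  have hq : 2 ≤ Q := by rw [hQ]; nlinarith only [hq']
  have hQ4 : q ^ 4 = Q ^ 2 := by rw [hQ]; ring
  rw [hQ4] at ha ha'
  rw [← hQ] at h5
  have e4 : padicValNat 5 4 = 0 := val_eq (by norm_num) (by norm_num)
  obtain ⟨e2, e6, e8, e10, e12, e14, e18, e20, e24, e30⟩ := v5
  have hcard : 1 * Nat.card ↥(chevE8.group F) = Q ^ 60 * P Q [1, 4, 6, 7, 9, 10, 12, 15] := by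
    rw [Cfsg.Agent.S1065.result hK, hQ]
    simp only [P, List.map_cons, List.map_nil, List.prod_cons, List.prod_nil, ← pow_mul]
    norm_num only [_root_.one_mul, _root_.mul_one]
    ring
  obtain ⟨h1, h2⟩ := val_group (s := 5) hq ha1 ha (by decide) hcard
  have hne : ∀ d ∈ [1, 4, 6, 7, 9, 10, 12, 15], d ≠ 0 := by decide
  rw [val_P hq (fun d => if d % 2 = 0 then a + padicValNat 5 d else 0) (L := [1, 4, 6, 7, 9, 10, 12, 15]) fun d hd =>
    ⟨hne d hd, by
      split_ifs with h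
      · exact val_even (by norm_num) hq ha1 ha ha' (hne d hd) (Nat.even_iff.2 h)
      · exact val_odd (by norm_num) hq h5 (Nat.odd_iff.2 (by omega))⟩] at h2
  simp only [e4, e6, e10, e12, _root_.padicValNat_one_right, _root_.zero_add, _root_.List.map_cons, _root_.Nat.mod_succ, _root_.one_ne_zero, ↓ _root_.reduceIte, _root_.Nat.reduceMod, _root_.add_zero, _root_.List.map_nil, _root_.List.sum_cons, _root_.List.sum_nil] at h2
  exact not_dvd_of_val h1 (by omega)

end Rows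

end Cfsg.Agent.H169.ExcOrd
end

-- part: H572/ExcF
section
/-!
# `PairN` for the exceptional groups, the full case (S4350)

* `f4_three`, `e7_three`, `e8_three`, `e6_three_one`, `twE6_three_two`;
* `e8_five`, `e7_five`.
-/

set_option autoImplicit false
set_option linter.unusedSectionVars false

namespace Cfsg.Agent.H572.ExcF

open CoxeterSystem Cfsg Cfsg.Lie Cfsg.Lie.ChevalleyDatum
open Cfsg.Agent.ChevalleyStructure Cfsg.Agent.ChevalleyStructure.Elts Cfsg.Agent.ChevalleyStructure.CoxeterGeom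
  Cfsg.Agent.ChevalleyStructure.CoxeterGeomTypes Cfsg.Agent.ChevalleyStructure.NPerm
open Cfsg.Agent.Tits.Roots Cfsg.Agent.Tits.Core Cfsg.Agent.Nodes Cfsg.Agent.Nodes.Reps Cfsg.Agent.Nodes.BNOf
  Cfsg.Agent.Nodes.RGDChev Cfsg.Agent.Nodes.Bruhat
open Cfsg.Agent.H572.ExcA Cfsg.Agent.H572.ExcB Cfsg.Agent.H572.ExcC Cfsg.Agent.H572.ExcD Cfsg.Agent.H572.ExcE
open Cfsg.Agent.H129.TorusChar Cfsg.Agent.H795.NotAbRows Cfsg.Agent.H795.NotAbData Cfsg.Agent.BpExc.RowsUntw
  Cfsg.Agent.H129.WData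
open Cfsg.Agent.H553.OddHall Cfsg.Agent.H566.WeylST Cfsg.Agent.H169.ExcOrd

universe u

theorem not_dvd_of_card {W : Type*} [Group W] [Finite W] {t n : ℕ} (hn : Nat.card W = n) (h : ¬ t ∣ n)
    (H : Subgroup W) : ¬ t ∣ Nat.card H := fun h1 => h (hn ▸ h1.trans H.card_subgroup_dvd_card)

theorem dvd_cases {t : ℕ} (ht : t.Prime) {n : ℕ} (hn : n = 2 ^ 7 * 3 ^ 2 ∨ n = 2 ^ 7 * 3 ^ 4 * 5 ∨
    n = 2 ^ 10 * 3 ^ 4 * 5 * 7 ∨ n = 2 ^ 14 * 3 ^ 5 * 5 ^ 2 * 7) (h : t ∣ n) : t = 2 ∨ t = 3 ∨ (t = 5 ∧ 5 ∣ n) ∨ (t = 7 ∧ 7 ∣ n) := by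
  have h2 : t ∣ 2 ^ 14 * 3 ^ 5 * 5 ^ 2 * 7 := by
    rcases hn with rfl | rfl | rfl | rfl
    · exact h.trans ⟨2 ^ 7 * 3 ^ 3 * 5 ^ 2 * 7, by norm_num⟩
    · exact h.trans ⟨2 ^ 7 * 3 * 5 * 7, by norm_num⟩
    · exact h.trans ⟨2 ^ 4 * 3 * 5, by norm_num⟩
    · exact h
  rcases (ht.dvd_mul).1 h2 with h3 | h3
  · rcases (ht.dvd_mul).1 h3 with h4 | h4
    · rcases (ht.dvd_mul).1 h4 with h5 | h5
      · exact Or.inl ((Nat.prime_dvd_prime_iff_eq ht Nat.prime_two).1 (ht.dvd_of_dvd_pow h5))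
      · exact Or.inr (Or.inl ((Nat.prime_dvd_prime_iff_eq ht Nat.prime_three).1 (ht.dvd_of_dvd_pow h5)))
    · have h5 := (Nat.prime_dvd_prime_iff_eq ht Nat.prime_five).1 (ht.dvd_of_dvd_pow h4)
      exact Or.inr (Or.inr (Or.inl ⟨h5, h5 ▸ h⟩))
  · have h5 := (Nat.prime_dvd_prime_iff_eq ht (by norm_num : Nat.Prime 7)).1 h3
    exact Or.inr (Or.inr (Or.inr ⟨h5, h5 ▸ h⟩))

theorem card_F4 : Nat.card CoxeterMatrix.F₄.Group = 1152 := S1092.result (⟨4, CoxeterMatrix.F₄⟩, 1152) (by simp)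
theorem card_E6 : Nat.card CoxeterMatrix.E₆.Group = 51840 := S1093.result (⟨6, CoxeterMatrix.E₆⟩, 51840) (by simp)
theorem card_E7 : Nat.card CoxeterMatrix.E₇.Group = 2903040 := S1093.result (⟨7, CoxeterMatrix.E₇⟩, 2903040) (by simp)
theorem card_E8 : Nat.card CoxeterMatrix.E₈.Group = 696729600 :=
  S1093.result (⟨8, CoxeterMatrix.E₈⟩, 696729600) (by simp)

variable {F : Type u} [Field F] [Fintype F]

/-- `q ≡ ±1` -/
theorem exists_eps {s : ℕ} (q : ℕ) (h : (s : ℤ) ∣ (q : ℤ) - 1 ∨ (s : ℤ) ∣ (q : ℤ) - (-1 : ℤ)) :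
    ∃ ε : ℤ, (ε = 1 ∨ ε = -1) ∧ (s : ℤ) ∣ (q : ℤ) - ε := by
  rcases h with h | h
  · exact ⟨1, Or.inl rfl, h⟩
  · exact ⟨-1, Or.inr rfl, h⟩

theorem three_cases (h3 : (3 : F) ≠ 0) : ((3 : ℕ) : ℤ) ∣ (Fintype.card F : ℤ) - 1 ∨
    ((3 : ℕ) : ℤ) ∣ (Fintype.card F : ℤ) - (-1 : ℤ) := by
  have h0 : ¬ 3 ∣ Fintype.card F := by
    intro h
    have h1 : ((Fintype.card F : ℕ) : F) = 0 := FiniteField.cast_card_eq_zero F
    obtain ⟨p, n, hp, hn⟩ := FiniteField.card' F
    obtain ⟨hpp, hc⟩ := hn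
    rw [hc] at h
    have h2 := Nat.prime_three.dvd_of_dvd_pow h
    have h3' := (Nat.prime_dvd_prime_iff_eq Nat.prime_three hpp).1 h2
    subst h3'
    exact h3 (by exact_mod_cast CharP.cast_eq_zero F 3)
  omega

section Neg

variable {D : ChevalleyDatum} {l : ℕ} {M : CoxeterMatrix (Fin l)} (hp : IsType D l M)

/-- `ε` is realised if `-1` is -/
theorem exists_w {w : M.Group} (hw : ∀ x, rep M.toCoxeterSystem hp.isCartan w x = (-1 : ℤ) • x) {ε : ℤ}
    (hε : ε = 1 ∨ ε = -1) : ∃ w : M.Group, ∀ x, rep M.toCoxeterSystem hp.isCartan w x = ε • x := by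
  rcases hε with rfl | rfl
  · exact ⟨1, fun x => by rw [map_one, Module.End.one_apply, one_smul]⟩
  · exact ⟨w, hw⟩

end Neg

theorem negF4 (x : Fin 4 → ℤ) : rep CoxeterMatrix.F₄.toCoxeterSystem f4T.isCartan F4.c6 x = (-1 : ℤ) • x :=
  eps_of_mat (hp := f4T) (g := AddEquiv.refl _) (w := F4.c6) refl_mat (F4.is_c6 f4T) (by decide +kernel) x

set_option maxRecDepth 100000 in
theorem negE7 (x : Fin 7 → ℤ) : rep CoxeterMatrix.E₇.toCoxeterSystem e7T.isCartan E7.c9 x = (-1 : ℤ) • x :=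
  eps_of_mat (hp := e7T) (g := AddEquiv.refl _) (w := E7.c9) refl_mat (E7.is_c9 e7T) (by decide +kernel) x

set_option maxRecDepth 100000 in
theorem negE8 (x : Fin 8 → ℤ) : rep CoxeterMatrix.E₈.toCoxeterSystem e8T.isCartan E8.c15 x = (-1 : ℤ) • x :=
  eps_of_mat (hp := e8T) (g := AddEquiv.refl _) (w := E8.c15) refl_mat (E8.is_c15 e8T) (by decide +kernel) x

/-- `F₄(q)`, `s = 3` -/
theorem f4_three (h3 : (3 : F) ≠ 0) {t : ℕ} (ht : t.Prime) (ht2 : t ≠ 2) (ht3 : t ≠ 3) :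
    PairN t 3 ↥(chevF4.group F) := by
  have : Fact t.Prime := ⟨ht⟩
  have hWf : Finite CoxeterMatrix.F₄.Group := finite_W f4T CoxeterMatrix.F₄.toCoxeterSystem
  obtain ⟨ε, hε, hq⟩ := exists_eps _ (three_cases h3)
  obtain ⟨w, hw⟩ := exists_w f4T negF4 hε
  refine three_untw f4T datF4 h3 hε w hw hq (c₀ := 0) (N₂ := 2) (fun a => ?_) ?_ (fun a ha h1 h2 => ?_) ht2 ht3 ?_
  · rw [card_KA invC_F4 (Nat.coprime_one_left _)]
    exact one_dvd _
  · rw [card_F4]; norm_num
  · have h3 := F4_three (F := F) rfl ha h1 h2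
    have h4 : a * 4 - 0 + 2 + 1 = 4 * a + 3 := by omega
    rw [h4]
    exact h3
  · intro H _ _
    refine not_dvd_of_card card_F4 (fun h => ?_) H
    rcases dvd_cases ht (Or.inl (by norm_num)) h with h | h | h | h
    · exact ht2 h
    · exact ht3 h
    · exact absurd h.2 (by norm_num)
    · exact absurd h.2 (by norm_num)

/-- `E₇(q)`, `s = 3` -/
theorem e7_three (h3 : (3 : F) ≠ 0) {t : ℕ} (ht : t.Prime) (ht2 : t ≠ 2) (ht3 : t ≠ 3) :
    PairN t 3 ↥(chevE7.group F) := by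
  have : Fact t.Prime := ⟨ht⟩
  have hWf : Finite CoxeterMatrix.E₇.Group := finite_W e7T CoxeterMatrix.E₇.toCoxeterSystem
  obtain ⟨ε, hε, hq⟩ := exists_eps _ (three_cases h3)
  obtain ⟨w, hw⟩ := exists_w e7T negE7 hε
  refine three_untw e7T datE7 h3 hε w hw hq (c₀ := 0) (N₂ := 4) (fun a => ?_) ?_ (fun a ha h1 h2 => ?_) ht2 ht3 ?_
  · rw [card_KA invC_E7 (Nat.Coprime.pow_right a (by norm_num))]
    exact one_dvd _
  · rw [card_E7]; norm_num
  · have h3 := E7_three (F := F) rfl ha h1 h2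
    have h4 : a * 7 - 0 + 4 + 1 = 7 * a + 5 := by omega
    rw [h4]
    exact h3
  · intro H hH h4 h
    rcases dvd_cases ht (Or.inr (Or.inr (Or.inl (by norm_num)))) (card_E7 ▸ h.trans H.card_subgroup_dvd_card) with
      h | h | h | h
    · exact ht2 h
    · exact ht3 h
    · obtain ⟨rfl, -⟩ := h
      exact wl_E7_35 H hH h4 ‹_›
    · obtain ⟨rfl, -⟩ := h
      exact wl_E7_37 H hH h4 ‹_›

/-- `E₈(q)`, `s = 3` -/
theorem e8_three (h3 : (3 : F) ≠ 0) {t : ℕ} (ht : t.Prime) (ht2 : t ≠ 2) (ht3 : t ≠ 3) :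
    PairN t 3 ↥(chevE8.group F) := by
  have : Fact t.Prime := ⟨ht⟩
  have hWf : Finite CoxeterMatrix.E₈.Group := finite_W e8T CoxeterMatrix.E₈.toCoxeterSystem
  obtain ⟨ε, hε, hq⟩ := exists_eps _ (three_cases h3)
  obtain ⟨w, hw⟩ := exists_w e8T negE8 hε
  refine three_untw e8T datE8 h3 hε w hw hq (c₀ := 0) (N₂ := 5) (fun a => ?_) ?_ (fun a ha h1 h2 => ?_) ht2 ht3 ?_
  · rw [card_KA invC_E8 (Nat.coprime_one_left _)]
    exact one_dvd _
  · rw [card_E8]; norm_num
  · have h3 := E8_three (F := F) rfl ha h1 h2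
    have h4 : a * 8 - 0 + 5 + 1 = 8 * a + 6 := by omega
    rw [h4]
    exact h3
  · intro H hH h4 h
    rcases dvd_cases ht (Or.inr (Or.inr (Or.inr (by norm_num)))) (card_E8 ▸ h.trans H.card_subgroup_dvd_card) with
      h | h | h | h
    · exact ht2 h
    · exact ht3 h
    · obtain ⟨rfl, -⟩ := h
      exact wl_E8_35 H hH h4 ‹_›
    · obtain ⟨rfl, -⟩ := h
      exact wl_E8_37 H hH h4 ‹_›

/-- `E₆(q)`, `s = 3`, `q ≡ 1` -/
theorem e6_three_one (h3 : (3 : F) ≠ 0) (hq3 : Fintype.card F % 3 = 1) {t : ℕ} (ht : t.Prime) (ht2 : t ≠ 2)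
    (ht3 : t ≠ 3) : PairN t 3 ↥(chevE6.group F) := by
  have : Fact t.Prime := ⟨ht⟩
  have hWf : Finite CoxeterMatrix.E₆.Group := finite_W e6T CoxeterMatrix.E₆.toCoxeterSystem
  have hq : (3 : ℤ) ∣ (Fintype.card F : ℤ) - 1 := by omega
  refine three_untw e6T datE6 h3 (Or.inl rfl) 1 (fun x => by rw [map_one, Module.End.one_apply, one_smul]) hq
    (c₀ := 1) (N₂ := 4) (fun a => ?_) ?_ (fun a ha h1 h2 => ?_) ht2 ht3 ?_
  · rw [pow_one]
    exact card_KA_E6 a
  · rw [card_E6]; norm_num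
  · have h3 := E6_three_one (F := F) rfl ha h1 h2 hq3
    have h4 : a * 6 - 1 + 4 + 1 = 6 * a + 4 := by omega
    rw [h4]
    exact h3
  · intro H hH h4 h
    rcases dvd_cases ht (Or.inr (Or.inl (by norm_num))) (card_E6 ▸ h.trans H.card_subgroup_dvd_card) with h | h | h | h
    · exact ht2 h
    · exact ht3 h
    · obtain ⟨rfl, -⟩ := h
      exact wl_E6_35 H hH h4 ‹_›
    · exact absurd h.2 (by norm_num)

/-- `²E₆(q)`, `s = 3`, `q ≡ 2` -/
theorem twE6_three_two {q : ℕ} (h3 : (3 : F) ≠ 0) (hq : IsPrimePow q) (hF : Fintype.card F = q ^ 2) (hq3 : q % 3 = 2)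
    {t : ℕ} (ht : t.Prime) (ht2 : t ≠ 2) (ht3 : t ≠ 3) : PairN t 3 ↥(twistedE6 F q) := by
  have : Fact t.Prime := ⟨ht⟩
  refine three_twE6 h3 hq hF (by omega) (fun a ha h1 h2 => ?_) ht2 ht3 ?_ ?_
  · have h3 := Cfsg.Agent.H169.ExcOrd.twE6_three_two (F := F) hq hF ha h1 h2 hq3
    rw [mul_comm]
    exact h3
  · rw [card_E6]; norm_num
  · intro H hH h4 h
    rcases dvd_cases ht (Or.inr (Or.inl (by norm_num))) (card_E6 ▸ h.trans H.card_subgroup_dvd_card) with h | h | h | h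
    · exact ht2 h
    · exact ht3 h
    · obtain ⟨rfl, -⟩ := h
      exact wl_E6_35 H hH h4 ‹_›
    · exact absurd h.2 (by norm_num)

/-- `E₈(q)`, `s = 5`, `5 ∣ q² - 1` -/
theorem e8_five (h5 : (5 : F) ≠ 0) (hq : (5 : ℤ) ∣ (Fintype.card F : ℤ) - 1 ∨ (5 : ℤ) ∣ (Fintype.card F : ℤ) - (-1 : ℤ))
    {t : ℕ} (ht : t.Prime) (ht2 : t ≠ 2) (ht3 : t ≠ 3) (ht5 : t ≠ 5) : PairN t 5 ↥(chevE8.group F) := by
  have : Fact t.Prime := ⟨ht⟩
  have hWf : Finite CoxeterMatrix.E₈.Group := finite_W e8T CoxeterMatrix.E₈.toCoxeterSystem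
  obtain ⟨ε, hε, hq⟩ := exists_eps (s := 5) _ hq
  obtain ⟨w, hw⟩ := exists_w e8T negE8 hε
  refine five_untw e8T datE8 le_rfl (by exact_mod_cast h5) hε w hw hq (N₂ := 2) (by decide +kernel) ?_ (fun a ha h1 h2 => ?_) ht2
    (Ne.symm ht5) ?_
  · rw [card_E8]; norm_num
  · have h3 := E8_five (F := F) rfl ha h1 h2
    have h4 : a * 8 + 2 + 1 = 8 * a + 3 := by omega
    rw [h4]
    exact h3
  · intro H hH h4 h
    rcases dvd_cases ht (Or.inr (Or.inr (Or.inr (by norm_num)))) (card_E8 ▸ h.trans H.card_subgroup_dvd_card) with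
      h | h | h | h
    · exact ht2 h
    · exact ht3 h
    · exact ht5 h.1
    · obtain ⟨rfl, -⟩ := h
      exact wl_E8_57 H hH h4 ‹_›

/-- `E₇(q)`, `s = 5`, `5 ∣ q² - 1` -/
theorem e7_five (h5 : (5 : F) ≠ 0) (hq : (5 : ℤ) ∣ (Fintype.card F : ℤ) - 1 ∨ (5 : ℤ) ∣ (Fintype.card F : ℤ) - (-1 : ℤ))
    {t : ℕ} (ht : t.Prime) (ht2 : t ≠ 2) (ht3 : t ≠ 3) (ht5 : t ≠ 5) : PairN t 5 ↥(chevE7.group F) := by
  have : Fact t.Prime := ⟨ht⟩
  have hWf : Finite CoxeterMatrix.E₇.Group := finite_W e7T CoxeterMatrix.E₇.toCoxeterSystem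
  obtain ⟨ε, hε, hq⟩ := exists_eps (s := 5) _ hq
  obtain ⟨w, hw⟩ := exists_w e7T negE7 hε
  refine five_untw e7T datE7 le_rfl (by exact_mod_cast h5) hε w hw hq (N₂ := 1) (by decide +kernel) ?_ (fun a ha h1 h2 => ?_) ht2
    (Ne.symm ht5) ?_
  · rw [card_E7]; norm_num
  · have h3 := E7_five (F := F) rfl ha h1 h2
    have h4 : a * 7 + 1 + 1 = 7 * a + 2 := by omega
    rw [h4]
    exact h3
  · intro H hH h4 h
    rcases dvd_cases ht (Or.inr (Or.inr (Or.inl (by norm_num)))) (card_E7 ▸ h.trans H.card_subgroup_dvd_card) with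
      h | h | h | h
    · exact ht2 h
    · exact ht3 h
    · exact ht5 h.1
    · obtain ⟨rfl, -⟩ := h
      exact wl_E7_57 H hH h4 ‹_›

end Cfsg.Agent.H572.ExcF
end

-- part: H169/NoMinE7
section
/-!
# `NoMin 5 7` for `E₇(q)`, `5 ∤ q (q² - 1)` (TEAM HALL, piece (P5))

* `not_rank` : `p`-rank at most 3 of a Chevalley group of rank at most 7, `p ∤ q (q² - 1)`, `p ≥ 5`, `p² ∤ |W|`
  (`PRankPar.Inst.not_rank` in all characteristics);
* `noMin_e7_five_seven`.
-/

set_option autoImplicit false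
set_option linter.unusedSectionVars false

namespace Cfsg.Agent.H169.NoMinE7

open CoxeterSystem Cfsg.Agent.ChevalleyStructure.CoxeterGeom Cfsg.Agent.Tits.Roots Cfsg.Agent.Tits.Core
  Cfsg.Agent.Tits.Exchange
  Cfsg.Agent.Nodes.Reps Cfsg.Agent.Nodes.BNOf Cfsg.Agent.Nodes.Bruhat Cfsg.Agent.Nodes.LeviDec
  Cfsg.Agent.Nodes.StabComb Cfsg.Agent.Nodes.RGDChev
  Cfsg.Agent.KFacts Cfsg.Agent.KFacts.RgdChevCoord Cfsg.Agent.PRankPar.Chev Cfsg.Agent.PRankPar
open Cfsg.Lie Cfsg.Agent.ChevalleyStructure.CoxeterGeomTypes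

universe u v

/-! ### arithmetic -/

theorem cast_facts {F : Type*} [Field F] [Finite F] {p : ℕ} [Fact p.Prime] (hpF : (p : F) ≠ 0)
    (hd : ¬ p ∣ Nat.card F ^ 2 - 1) : ((Nat.card F : ℕ) : ZMod p) ≠ 0 ∧ ((Nat.card F : ℕ) : ZMod p) ^ 2 ≠ 1 := by
  have hp : p.Prime := Fact.out
  have hpos : 1 ≤ Nat.card F := Nat.card_pos
  have := Fintype.ofFinite F
  constructor
  · rw [Ne, ZMod.natCast_eq_zero_iff]
    intro h
    obtain ⟨r, hr⟩ := CharP.exists F
    have hrp : r.Prime := CharP.char_is_prime F r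
    obtain ⟨n, -, hn⟩ := FiniteField.card F r
    rw [Nat.card_eq_fintype_card, hn] at h
    have h1 := (Nat.prime_dvd_prime_iff_eq hp hrp).1 (hp.dvd_of_dvd_pow h)
    subst h1
    exact hpF (CharP.cast_eq_zero F p)
  · intro h
    apply hd
    rw [← ZMod.natCast_eq_zero_iff, Nat.cast_sub (Nat.one_le_pow _ _ hpos), Nat.cast_pow, h, Nat.cast_one, sub_self]

theorem exists_ext (F : Type v) [Field F] [Finite F] {r : ℕ} [Fact r.Prime] [CharP F r] {p : ℕ} [Fact p.Prime]
    (h2 : p ≠ r) :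
    ∃ (K : Type) (_ : Field K) (_ : Finite K) (_ : CharP K r) (f : F →+* K) (τ : K ≃+* K),
      (∀ a, τ a = a ^ Nat.card F) ∧ (∀ a, τ (f a) = f a) ∧ p ^ 2 ∣ Nat.card K - 1 := by
  have hp : p.Prime := Fact.out
  have hr : r.Prime := Fact.out
  have hN : NeZero (Nat.totient (p ^ 2)) := ⟨(Nat.totient_pos.2 (pow_pos hp.pos 2)).ne'⟩
  let _ : Algebra (ZMod r) F := ZMod.algebra F r
  refine ⟨FiniteField.Extension F r (Nat.totient (p ^ 2)), inferInstance, inferInstance,
    charP_of_injective_ringHom (algebraMap F (FiniteField.Extension F r (Nat.totient (p ^ 2)))).injective r,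
    algebraMap F _, (FiniteField.Extension.frob F r (Nat.totient (p ^ 2))).toRingEquiv, fun a => ?_, fun a => ?_, ?_⟩
  · exact FiniteField.Extension.frob_apply ..
  · exact AlgEquiv.commutes _ a
  · rw [FiniteField.natCard_extension]
    have := Fintype.ofFinite F
    obtain ⟨n, -, hn⟩ := FiniteField.card F r
    have hco : (Nat.card F).Coprime (p ^ 2) := by
      rw [Nat.card_eq_fintype_card, hn]
      exact Nat.Coprime.pow _ _ ((Nat.coprime_primes hr hp).2 (Ne.symm h2))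
    have h1 := Nat.ModEq.pow_totient hco
    exact (Nat.modEq_iff_dvd' (Nat.one_le_pow _ _ Nat.card_pos)).1 h1.symm

/-! ### the rank -/

section Main

variable {D : ChevalleyDatum} {l : ℕ} {M : CoxeterMatrix (Fin l)} (hp : IsType D l M)
  {W : Type*} [Group W] (cs : CoxeterSystem M W)

theorem not_four (F : Type v) [Field F] [Finite F] {r : ℕ} [Fact r.Prime] [CharP F r] {p : ℕ} [Fact p.Prime]
    (h2 : p ≠ r)
    {J : Set (Fin l)} (hW : ¬ p ^ 2 ∣ Nat.card ↥(WJ cs J))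
    (hA : ∀ w ∈ WJ cs J, ∀ S : Set (Fin l → ZMod p),
      (∀ a ∈ S, ∀ i, ∑ j, ((rep cs hp.isCartan w (sr ((1 : Equiv.Perm (Fin l)) i)) j : ℤ) : ZMod p) * a j =
        ((Nat.card F : ℕ) : ZMod p) * a i) → Nat.card ↥S ≤ p ^ 3)
    (hB : ∀ w ∈ WJ cs J, ∀ S : Set (Fin l → ZMod p),
      (∀ a ∈ S, ∀ i, ∑ j, ((rep cs hp.isCartan w (sr ((1 : Equiv.Perm (Fin l)) i)) j : ℤ) : ZMod p) * a j =
        ((Nat.card F : ℕ) : ZMod p) * a i) →
      p ^ 3 ≤ Nat.card ↥S → ∀ v ∈ WJ cs J, v ^ p = 1 →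
      (∀ a ∈ S, ∀ i, ∑ j, ((rep cs hp.isCartan v (sr i) j : ℤ) : ZMod p) * a j = a i) → v = 1)
    {E : Subgroup ↥(D.group F)} (hE : E ≤ PJ cs hp.isCartan (TT D F) (XX D l F) J)
    (hEab : ∀ a ∈ E, ∀ b ∈ E, a * b = b * a) (hexp : ∀ t ∈ E, t ^ p = 1) (hcard : Nat.card ↥E = p ^ 4) : False := by
  have hWf := finite_W hp cs
  obtain ⟨K, _, _, _, f, τ, hτ, hτf, hQ⟩ := exists_ext F (p := p) h2
  refine Frob.not_four (r := r) (T := TT D K) (X := XX D l K) (rgd (K := K) hp cs r) (p := p) h2 hQ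
    (coords hp cs r) (T_comm hp cs r) (faithful hp cs r) (ch_prod hp cs r) (tau_field hp τ) (q := Nat.card F) hτ
    (J := J) (fun y hy => emb_PJ hp cs (τ : K →+* K) hy) hW hA hB
    (E := E.map (emb hp.inList f)) ?_ ?_ ?_ ?_ ?_
  · rintro _ ⟨e, he, rfl⟩
    exact emb_PJ hp cs f (hE he)
  · rintro _ ⟨a, ha, rfl⟩ _ ⟨b, hb, rfl⟩
    rw [← map_mul, hEab a ha b hb, map_mul]
  · rintro _ ⟨a, ha, rfl⟩
    rw [← map_pow, hexp a ha, map_one]
  · rw [Subgroup.card_map_of_injective (emb_injective hp.inList f), hcard]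
  · rintro _ ⟨a, ha, rfl⟩
    exact fieldAut_emb hp.inList hτf a

include hp cs in
/-- ranks at most 7 -/
theorem not_rank (F : Type v) [Field F] [Finite F] {p : ℕ} [Fact p.Prime] (hpF : (p : F) ≠ 0) (h5 : 5 ≤ p)
    (hd : ¬ p ∣ Nat.card F ^ 2 - 1) {d : Fin l → ℤ} (hF : Weyl.FormData (cartanOf D l) p d) (hl : l ≤ 7)
    (hW : ¬ p ^ 2 ∣ Nat.card W) : ¬ PRankAtLeast p 4 ↥(D.group F) := by
  intro h
  have := Fintype.ofFinite F
  obtain ⟨r, hr⟩ := CharP.exists F
  have : Fact r.Prime := ⟨CharP.char_is_prime F r⟩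
  have h2 : p ≠ r := by
    rintro rfl
    exact hpF (CharP.cast_eq_zero F p)
  have hWf := finite_W hp cs
  obtain ⟨hq, hq2⟩ := cast_facts (F := F) (p := p) hpF hd
  obtain ⟨E, hab, hexp, hcard⟩ := Inst.exists_card_four h
  refine not_four hp cs F h2 (J := Set.univ) ?_ ?_ ?_ (E := E) ?_ hab hexp hcard
  · rw [WJ_univ]
    have : Nat.card ↥(⊤ : Subgroup W) = Nat.card W := Nat.card_congr Subgroup.topEquiv.toEquiv
    rw [this]; exact hW
  · intro w _ S hS
    have h1 := Weyl.card_le' (cs := cs) (h := hp.isCartan) hF (σ := 1) (fun _ _ => rfl) (fun _ => rfl) hq hq2 S hS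
    refine h1.trans (Nat.pow_le_pow_right (by omega) ?_)
    rw [Fintype.card_fin]
    omega
  · intro w _ S hS h3 v _ hv hfix
    exact Weyl.eq_one_of_fix' (cs := cs) (h := hp.isCartan) hF (σ := 1) (fun _ _ => rfl) (fun _ => rfl) hq hq2 S hS
      (by rw [Fintype.card_fin]; exact hl) h5 h3 hv hfix
  · have h1 : GG cs hp.isCartan (TT D F) (XX D l F) = ⊤ := by
      rw [eq_top_iff, ← G1_eq_top hp cs]
      exact le_sup_right
    intro y _
    apply LJ_le_PJ
    rw [LJ_univ, h1]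
    trivial

end Main

/-- **`p`-rank at most 3 in `E₇(q)`, `p ≥ 5`, `p ∤ q (q² - 1)`.** -/
theorem not_rank_E7 (F : Type v) [Field F] [Finite F] {p : ℕ} [Fact p.Prime] (hpF : (p : F) ≠ 0) (h5 : 5 ≤ p)
    (hd : ¬ p ∣ Nat.card F ^ 2 - 1) : ¬ PRankAtLeast p 4 ↥(chevE7.group F) :=
  not_rank Inst.type_E7 CoxeterMatrix.E₇.toCoxeterSystem F hpF h5 hd (CardW.formData_E7 h5) (by norm_num)
    (CardW.sq_not_dvd_W_E7 CoxeterMatrix.E₇.toCoxeterSystem Fact.out h5)

open Cfsg.Agent.H565.NM Cfsg.Agent.H167.OP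

/-- **`NoMin 5 7` for `E₇(q)`, `5 ∤ q (q² - 1)`.** -/
theorem noMin_e7_five_seven (F : Type u) [Field F] [Finite F] (h5 : ((5 : ℕ) : F) ≠ 0)
    (hd : ¬ 5 ∣ Nat.card F ^ 2 - 1) : NoMin 5 7 ↥(chevE7.group F) := by
  classical
  intro y B h
  have hf5 : Fact (Nat.Prime 5) := ⟨by norm_num⟩
  have hG : Finite ↥(chevE7.group F) := inferInstance
  have := Fintype.ofFinite F
  obtain ⟨r, e, hr, hrF, hrk, he, hq', hk⟩ := H129.TorusUntw.exists_closure (F := F) rfl
  have hsr : 5 ≠ r := by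
    rintro rfl
    exact h5 (CharP.cast_eq_zero F 5)
  have hP := h.isPGroup
  by_cases hab : ∀ a ∈ B, ∀ b ∈ B, a * b = b * a
  · -- elementary abelian of order at least `5 ^ 6`
    apply not_rank_E7 F (p := 5) h5 le_rfl hd
    have hexp : ∀ d ∈ B, d ^ 5 = 1 := fun d hd => h.pow_eq_one hab hd
    have h1 := h.relIndex_modEq (X := ⊥) (fun x hx => by
      rw [Subgroup.mem_bot] at hx
      rw [hx, mul_one, mul_inv_cancel]
      exact one_mem _) (fun a ha b hb => by
      rw [Subgroup.mem_bot, hab a ha b hb]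
      group)
    rw [Subgroup.relIndex_bot_left] at h1
    refine ⟨B, ⟨⟨fun a b => Subtype.ext (hab a a.2 b b.2)⟩⟩, hexp, ?_⟩
    obtain ⟨n, hn⟩ := (IsPGroup.iff_card (p := 5)).1 hP
    rw [hn] at h1 ⊢
    have hn0 : n ≠ 0 := by
      rintro rfl
      rw [pow_zero] at hn
      apply h.ncen
      intro d hd
      have h3 : B = ⊥ := Subgroup.card_eq_one.1 hn
      rw [h3, Subgroup.mem_bot] at hd
      rw [hd, mul_one, one_mul]
    refine Nat.pow_le_pow_right (by norm_num) ?_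
    by_contra hlt
    have hlt' : n = 1 ∨ n = 2 ∨ n = 3 := by omega
    rcases hlt' with rfl | rfl | rfl <;> revert h1 <;> decide
  · have hWs : ¬ 5 ^ (1 + 1) ∣ Nat.card CoxeterMatrix.E₇.Group :=
      CardW.sq_not_dvd_W_E7 CoxeterMatrix.E₇.toCoxeterSystem (by norm_num) le_rfl
    set f := emb Inst.type_E7.inList (algebraMap F (AlgebraicClosure F)) with hf
    have hfi : Function.Injective f := emb_injective Inst.type_E7.inList _
    have hfin : Finite ↥(B.map f) :=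
      Finite.of_surjective (fun u : B => (⟨f u, ⟨u, u.2, rfl⟩⟩ : ↥(B.map f))) (by
        rintro ⟨_, ⟨u, hu, rfl⟩⟩
        exact ⟨⟨u, hu⟩, rfl⟩)
    obtain ⟨A, hA, hAi, g, hg⟩ := H565.NM.exists_toral_index Inst.type_E7 r hk (e := 1) h.hs hsr hWs (Q := B.map f)
      (h.isPGroup.map f)
    have hAB : A.comap f ≤ B := by
      intro x hx
      obtain ⟨z, hz, e⟩ := hA hx
      rwa [← hfi e]
    refine minD_no_index (by norm_num) (by norm_num) h hab (B := A.comap f) hAB (fun a ha b hb => ?_) ?_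
    · have h1 := Cfsg.Agent.BpExc.TorChev.TT_comm Inst.type_E7 _ (hg _ ha) _ (hg _ hb)
      have h2 : g * (f a * f b) * g⁻¹ = g * (f b * f a) * g⁻¹ := by
        calc g * (f a * f b) * g⁻¹ = (g * f a * g⁻¹) * (g * f b * g⁻¹) := by group
          _ = (g * f b * g⁻¹) * (g * f a * g⁻¹) := h1
          _ = _ := by group
      have h3 := mul_left_cancel (mul_right_cancel h2)
      rw [← map_mul, ← map_mul] at h3
      exact hfi h3
    · have hAr : (A.comap f).map f = A := by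
        rw [Subgroup.map_comap_eq_self]
        exact hA.trans (Subgroup.map_le_range f B)
      have h5 : A.relIndex (B.map f) = (A.comap f).relIndex B := by
        conv_lhs => rw [← hAr]
        rw [Subgroup.relIndex_map_map, (MonoidHom.ker_eq_bot_iff f).2 hfi, sup_bot_eq, sup_bot_eq]
      rw [← h5, ← pow_one 5]
      exact hAi

end Cfsg.Agent.H169.NoMinE7
end

-- part: H574/ExcE8FiveA
section
/-!
# `PairN` when `θ² = -1` (helper574, S4350)

`θ` an automorphism of the root lattice with `θ² = -1`, `q0² ≡ -1` modulo `s`.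
* `quad_of_eig`, `quad_of_eig'` : an isometry commuting with `θ` acting quadratically (trivially) on the characters with
  `c θ = q0 c` acts quadratically on the lattice modulo `s`;
* `qcond_eig` : the condition `QCond`;
* `exists_TG` : torus elements with given characters.
-/

set_option autoImplicit false
set_option linter.unusedSectionVars false

namespace Cfsg.Agent.H574.ExcE8FiveA

open CoxeterSystem Cfsg Cfsg.Lie Cfsg.Lie.ChevalleyDatum
open Cfsg.Agent.ChevalleyStructure Cfsg.Agent.ChevalleyStructure.Elts Cfsg.Agent.ChevalleyStructure.CoxeterGeom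
  Cfsg.Agent.ChevalleyStructure.CoxeterGeomTypes Cfsg.Agent.ChevalleyStructure.NPerm
open Cfsg.Agent.Tits.Roots Cfsg.Agent.Tits.Core Cfsg.Agent.Nodes Cfsg.Agent.Nodes.Reps Cfsg.Agent.Nodes.BNOf
  Cfsg.Agent.Nodes.RGDChev Cfsg.Agent.Nodes.Bruhat
open Cfsg.Agent.KFacts.RgdField Cfsg.Agent.KFacts.RgdChevCoord Cfsg.Agent.BpExc.TorCent Cfsg.Agent.BpExc.TorChev
open Cfsg.Agent.GpExc.Field Cfsg.Agent.BpExc.Tow Cfsg.Agent.BpExc.TowChev Cfsg.Agent.BpExc.Fr
  Cfsg.Agent.BpExc.LangFr Cfsg.Agent.H129.TorusChar Cfsg.Agent.H129.TorusMain Cfsg.Agent.H123.ExcZ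
open Cfsg.Agent.BpExc Cfsg.Agent.H795.LangT Cfsg.Agent.H795.Core Cfsg.Agent.H795.NotAbT
open Cfsg.Agent.H572.ExcA Cfsg.Agent.H572.ExcB Cfsg.Agent.H572.ExcC Cfsg.Agent.H572.LatQ Cfsg.Agent.H572.LatForm
  Cfsg.Agent.H572.HallCore Cfsg.Agent.H572.HallPair
open Cfsg.Agent.H553.OddHall
open Subgroup
open scoped commutatorElement

universe u v

section lattice

variable {L : Type*} [AddCommGroup L] {B : L → L → ℤ} {w θ : L →+ L} {s q0 : ℤ}

/-- quadratic action on the eigenspace of the characters -/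
theorem quad_of_eig (h : IsForm B) (hw : Iso B w) (hθ : Iso B θ) (hθ2 : ∀ x, θ (θ x) = -x)
    (hc : ∀ x, w (θ x) = θ (w x)) (hs : Prime s) (h2 : ¬ s ∣ 2 * q0)
    (hq : ∀ x y, s ∣ B (w (w x) - w x - (w x - x)) (θ y - q0 • y)) : Quad B s w := by
  have hz : ∀ (u v : L), B u (q0 • v) = q0 * B u v := by
    intro u v
    have h1 : ∀ (n : ℤ) (u v : L), B (n • u) v = n * B u v := by
      have hn : ∀ (n : ℕ) (u v : L), B (n • u) v = n * B u v := by
        intro n u v
        induction n with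
        | zero => rw [zero_smul, h.zero]; simp
        | succ n ih => rw [succ_nsmul, h.add, ih]; push_cast; ring
      intro n u v
      obtain ⟨n, rfl | rfl⟩ := n.eq_nat_or_neg
      · rw [natCast_zsmul, hn]
      · rw [neg_smul, h.neg, natCast_zsmul, hn]; ring
    rw [h.comm, h1, h.comm]
  -- the first relation
  have a1 : ∀ x y, s ∣ -B (w (w (θ x)) - w (θ x) - (w (θ x) - θ x)) y - q0 * B (w (w x) - w x - (w x - x)) y := by
    intro x y
    have h1 := hq x y
    rw [h.sub', hz] at h1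
    have e1 : B (w (w x) - w x - (w x - x)) (θ y) = -B (w (w (θ x)) - w (θ x) - (w (θ x) - θ x)) y := by
      rw [← hθ.iso, hθ2, h.neg', map_sub, map_sub, map_sub, hc, hc]
    rwa [e1] at h1
  -- the adjoint relation
  have a2 : ∀ x u, B (w (w x) - w x - (w x - x)) (w (w u)) = B (w (w u) - w u - (w u - u)) x := by
    intro x u
    simp only [h.sub]
    rw [hw.iso, hw.iso, hw.iso, h.comm x u, h.comm x (w u), h.comm x (w (w u))]
    ring
  have a3 : ∀ x y, s ∣ B (w (w (θ y)) - w (θ y) - (w (θ y) - θ y)) x - q0 * B (w (w y) - w y - (w y - y)) x := by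
    intro x y
    have h1 := hq x (w (w y))
    have e1 : θ (w (w y)) - q0 • w (w y) = w (w (θ y - q0 • y)) := by
      rw [map_sub, map_sub, hc, hc, map_zsmul, map_zsmul]
    rw [e1, a2] at h1
    have e2 : B (w (w (θ y - q0 • y)) - w (θ y - q0 • y) - (w (θ y - q0 • y) - (θ y - q0 • y))) x =
        B (w (w (θ y)) - w (θ y) - (w (θ y) - θ y)) x - q0 * B (w (w y) - w y - (w y - y)) x := by
      have e3 : w (w (θ y - q0 • y)) - w (θ y - q0 • y) - (w (θ y - q0 • y) - (θ y - q0 • y)) =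
          (w (w (θ y)) - w (θ y) - (w (θ y) - θ y)) - q0 • (w (w y) - w y - (w y - y)) := by
        rw [map_sub, map_sub, map_zsmul, map_zsmul, smul_sub, smul_sub, smul_sub]
        abel
      rw [e3, h.sub, h.comm (q0 • _), hz, h.comm x]
    rwa [e2] at h1
  intro x y
  have h1 := dvd_add (a1 x y) (a3 y x)
  have e1 : -B (w (w (θ x)) - w (θ x) - (w (θ x) - θ x)) y - q0 * B (w (w x) - w x - (w x - x)) y +
      (B (w (w (θ x)) - w (θ x) - (w (θ x) - θ x)) y - q0 * B (w (w x) - w x - (w x - x)) y) =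
      -(2 * q0 * B (w (w x) - w x - (w x - x)) y) := by ring
  rw [e1, dvd_neg] at h1
  exact (hs.dvd_or_dvd h1).resolve_left h2

/-- trivial action on the eigenspace of the characters -/
theorem quad_of_eig' (h : IsForm B) (hw : Iso B w) (hθ : Iso B θ) (hθ2 : ∀ x, θ (θ x) = -x)
    (hc : ∀ x, w (θ x) = θ (w x)) (hs : Prime s) (h2 : ¬ s ∣ 2 * q0)
    (hq : ∀ x y, s ∣ B (w x - x) (θ y - q0 • y)) : Quad B s w := by
  apply quad_of_eig h hw hθ hθ2 hc hs h2
  intro x y
  have h1 := hq (w x) y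
  have h3 := hq x y
  rw [h.sub]
  exact dvd_sub h1 h3

theorem quad_of_eig_pi {l : ℕ} {B : (Fin l → ℤ) → (Fin l → ℤ) → ℤ} {w θ : (Fin l → ℤ) →+ (Fin l → ℤ)} {s q0 : ℤ}
    (h : IsForm B) (hw : Iso B w) (hθ : Iso B θ) (hθ2 : ∀ x, θ (θ x) = -x)
    (hc : ∀ x, w (θ x) = θ (w x)) (hs : Prime s) (h2 : ¬ s ∣ 2 * q0)
    (hq : ∀ x y, s ∣ B (w x - x) (θ y - q0 • y)) : Quad B s w :=
  quad_of_eig' h hw hθ hθ2 hc hs h2 hq

/-- `x ↦ B x y` -/
def formHom {l : ℕ} {B : (Fin l → ℤ) → (Fin l → ℤ) → ℤ} (h : IsForm B) (y : Fin l → ℤ) : (Fin l → ℤ) →+ ℤ where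
  toFun x := B x y
  map_zero' := h.zero y
  map_add' a b := h.add a b y

theorem formHom_apply {l : ℕ} {B : (Fin l → ℤ) → (Fin l → ℤ) → ℤ} (h : IsForm B) (x y : Fin l → ℤ) :
    formHom h y x = B x y := rfl

end lattice

variable {D : ChevalleyDatum} {l : ℕ} {M : CoxeterMatrix (Fin l)} {hp : IsType D l M}
  {k : Type u} [Field k] [IsAlgClosed k] {hk : LocFin k} {r : ℕ} [Fact r.Prime] [CharP k r]
  {G : Type v} [Group G] {κ : G →* ↥(D.group k)}

variable (κ) in
/-- test elements with characters in an eigenspace of `θ` -/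
def TstE (hp : IsType D l M) (A : Subgroup G) (ζ : k) (B : (Fin l → ℤ) → (Fin l → ℤ) → ℤ)
    (θ : (Fin l → ℤ) →+ (Fin l → ℤ)) (q0 : ℤ) : Prop :=
  ∀ y, ∃ a ∈ A, ∀ x, cX hp (κ a) x = ζ ^ (B x (θ y - q0 • y))

variable {A S : Subgroup G} {B : (Fin l → ℤ) → (Fin l → ℤ) → ℤ} {s : ℕ} {ζ : k} {θ : (Fin l → ℤ) →+ (Fin l → ℤ)}
  {q0 : ℤ} {V : Subgroup M.Group} {ι : Type*} {e : ι → (Fin l → ℤ)}

/-- **`QCond`.** -/
theorem qcond_eig (hs : s.Prime) (hs5 : 5 ≤ s) (hAT : A ≤ TG κ) (hSN : S ≤ NG hp hk r κ) (hSA : S ⊓ TG κ ≤ A)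
    (hV : im hp hk r κ S ≤ V) (hF : FData hp B V e) (hθ : Iso B θ) (hθ2 : ∀ x, θ (θ x) = -x)
    (hVθ : ∀ w ∈ V, ∀ x, ac hp w (θ x) = θ (ac hp w x)) (h2 : ¬ (s : ℤ) ∣ 2 * q0) (hζ : IsPrimitiveRoot ζ s)
    (ht : TstE κ hp A ζ B θ q0) : QCond A S := by
  intro L hAL hLS hq _ hne
  exfalso
  apply hne
  apply le_antisymm _ hAL
  intro u hu
  obtain ⟨w, hw⟩ := hSN (hLS hu)
  have hwV : w⁻¹ ∈ V := inv_mem (hV ⟨u, hLS hu, hw⟩)
  have h1 : Quad B s (ac hp w⁻¹) := by
    refine quad_of_eig hF.form (hF.iso _ hwV) hθ hθ2 (fun x => hVθ _ hwV x) (Nat.prime_iff_prime_int.1 hs) h2 ?_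
    intro x y
    obtain ⟨a, ha, hax⟩ := ht y
    have haT := hAT ha
    have h1 : cX hp (κ ⁅⁅a, u⁆, u⁆) x = 1 := by rw [hq u hu a ha, map_one, cX_one]
    rw [char_comm (comm_mem_TG haT ⟨w, hw⟩) hw, char_comm haT hw, hax, hζ.zpow_eq_one_iff_dvd] at h1
    have h2 : x - ac hp w⁻¹ x - ac hp w⁻¹ (x - ac hp w⁻¹ x) =
        ac hp w⁻¹ (ac hp w⁻¹ x) - ac hp w⁻¹ x - (ac hp w⁻¹ x - x) := by
      rw [map_sub]
      abel
    rw [h2] at h1
    exact h1
  have h2 : w⁻¹ = 1 := hF.fix _ hwV fun i => five hF.form (hF.iso _ hwV) hs hs5 h1 (hF.norm i)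
  rw [inv_eq_one] at h2
  rw [h2] at hw
  exact hSA ⟨hLS hu, hw.mem_of_one⟩

/-- **torus elements of `G` with given characters** -/
theorem exists_TG {d : ℕ} {Bi : Fin l → Fin l → ℤ} (hB : InvC D l d Bi) (hd : d ≠ 0) {e : ℕ}
    {τ : MulAut ↥(D.group k)} {Θ : (Fin l → ℤ) ≃+ (Fin l → ℤ)} (hfr : IsFrob r e τ)
    (F : Fr M.toCoxeterSystem hp.isCartan (TT D k) (XX D l k) τ Θ) (hfull : ∀ y, τ y = y → ∃ x, κ x = y)
    {φ : (Fin l → ℤ) → k} (hφ : IsMC φ) (hφθ : ∀ x, φ (Θ x) = φ x ^ r ^ e) :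
    ∃ a ∈ TG κ, ∀ x, cX hp (κ a) x = φ x := by
  obtain ⟨t, ht, hct⟩ := exists_cX hp hB hd hφ (fun i => IsAlgClosed.exists_pow_nat_eq _ (Nat.pos_of_ne_zero hd))
  have hτt : τ t ∈ TT D k := (F.tor t).2 ht
  have hfix : τ t = t := by
    refine cX_inj hp hτt ht fun i => ?_
    obtain ⟨x, hx⟩ := Θ.surjective (sr i)
    rw [← hx, cX_sigma hp M.toCoxeterSystem hfr F ht, hct, hct, hφθ]
  obtain ⟨a, ha⟩ := hfull t hfix
  exact ⟨a, by rw [mem_TG, ha]; exact ht, fun x => by rw [ha, hct]⟩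

/-- `θ` as an automorphism -/
noncomputable def thEq (hp : IsType D l M) (w : M.Group) : (Fin l → ℤ) ≃+ (Fin l → ℤ) :=
  (AddEquiv.refl (Fin l → ℤ)).trans (repAut M.toCoxeterSystem hp.isCartan w)

theorem thEq_apply (w : M.Group) (x : Fin l → ℤ) : thEq hp w x = ac hp w x := rfl

theorem mem_CT_thEq {w v : M.Group} (hw : w ∈ CT hp (thEq hp v)) (x : Fin l → ℤ) :
    ac hp w (ac hp v x) = ac hp v (ac hp w x) := hw x

/-- regularity -/
theorem reg_of_eig (hform : IsForm B) (hθ : Iso B θ) (hθ2 : ∀ x, θ (θ x) = -x) (hs : s.Prime)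
    (h2 : ¬ (s : ℤ) ∣ 2 * q0) (hζ : IsPrimitiveRoot ζ s) (ht : TstE κ hp A ζ B θ q0) {a : Fin l → ℤ}
    (ha : B a a = 2) : ∃ x ∈ A, cX hp (κ x) a ≠ 1 := by
  obtain ⟨x, hx, hxa⟩ := ht a
  refine ⟨x, hx, fun h3 => h2 ?_⟩
  rw [hxa, hζ.zpow_eq_one_iff_dvd] at h3
  have h4 : B a (θ a) = 0 := by
    have h5 : B (θ a) (θ (θ a)) = B a (θ a) := hθ.iso _ _
    rw [hθ2, hform.neg', hform.comm (θ a) a] at h5
    omega
  have h5 : B a (q0 • a) = q0 * 2 := by
    have h1 : ∀ (n : ℤ) (u v : Fin l → ℤ), B (n • u) v = n * B u v := by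
      have hn : ∀ (n : ℕ) (u v : Fin l → ℤ), B (n • u) v = n * B u v := by
        intro n u v
        induction n with
        | zero => rw [zero_smul, hform.zero]; simp
        | succ n ih => rw [succ_nsmul, hform.add, ih]; push_cast; ring
      intro n u v
      obtain ⟨n, rfl | rfl⟩ := n.eq_nat_or_neg
      · rw [natCast_zsmul, hn]
      · rw [neg_smul, hform.neg, natCast_zsmul, hn]; ring
    rw [hform.comm, h1, ha]
  rw [hform.sub', h4, h5, zero_sub, dvd_neg, mul_comm] at h3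
  exact h3

end Cfsg.Agent.H574.ExcE8FiveA
end

-- part: H574/ExcE8Five
section
/-!
# `PairN t 5 E₈(q)`, `q² ≡ -1 (mod 5)` (helper574, S4350)

`θ` is the element `u5` of the Weyl group, `θ² = -1`.
* `card_TG` : `n ^ 4` divides the order of the torus, `n ∣ q² + 1`;
* `eq_one_seven` : elements of order seven commuting with `θ`;
* `pairN_E8_five`.
-/

set_option autoImplicit false
set_option linter.unusedSectionVars false

namespace Cfsg.Agent.H574.ExcE8Five

open CoxeterSystem Cfsg Cfsg.Lie Cfsg.Lie.ChevalleyDatum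
open Cfsg.Agent.ChevalleyStructure Cfsg.Agent.ChevalleyStructure.Elts Cfsg.Agent.ChevalleyStructure.CoxeterGeom
  Cfsg.Agent.ChevalleyStructure.CoxeterGeomTypes Cfsg.Agent.ChevalleyStructure.NPerm
open Cfsg.Agent.Tits.Roots Cfsg.Agent.Tits.Core Cfsg.Agent.Nodes Cfsg.Agent.Nodes.Reps Cfsg.Agent.Nodes.BNOf
  Cfsg.Agent.Nodes.RGDChev Cfsg.Agent.Nodes.Bruhat
open Cfsg.Agent.KFacts.RgdField Cfsg.Agent.KFacts.RgdChevCoord Cfsg.Agent.BpExc.TorCent Cfsg.Agent.BpExc.TorChev
open Cfsg.Agent.GpExc.Field Cfsg.Agent.BpExc.Tow Cfsg.Agent.BpExc.TowChev Cfsg.Agent.BpExc.Fr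
  Cfsg.Agent.BpExc.LangFr Cfsg.Agent.H129.TorusChar Cfsg.Agent.H129.TorusMain Cfsg.Agent.H123.ExcZ
open Cfsg.Agent.BpExc Cfsg.Agent.H795.LangT Cfsg.Agent.H795.Core Cfsg.Agent.H795.NotAbT
  Cfsg.Agent.H795.NotAbCert Cfsg.Agent.H795.NotAbData Cfsg.Agent.BpExc.RowsUntw Cfsg.Agent.H129.WData
  Cfsg.Agent.H795.Untw
open Cfsg.Agent.H129.TorusUntw (phi isFrob_phi fr_phi phi_emb coe_phi fix_range fix_split exists_closure)
open Cfsg.Agent.H572.ExcA Cfsg.Agent.H572.ExcB Cfsg.Agent.H572.ExcC Cfsg.Agent.H572.LatQ Cfsg.Agent.H572.LatForm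
  Cfsg.Agent.H572.HallCore Cfsg.Agent.H572.HallPair Cfsg.Agent.H574.ExcE8FiveA
open Cfsg.Agent.H553.OddHall
open Subgroup

universe u v

/-! ### The lattice -/

/-- the form -/
abbrev BE : (Fin 8 → ℤ) → (Fin 8 → ℤ) → ℤ := nf (cartanOf chevE8 8) (fun _ => 1)

theorem symD : SymD (cartanOf chevE8 8) (fun _ => 1) (3 : Fin 8) ![2, 1, 1, 0, 1, 2, 3, 4] where
  sym := by decide +kernel
  pos := fun _ => one_pos
  conn := by decide +kernel

theorem isFormE : IsForm BE := by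
  have : Finite CoxeterMatrix.E₈.Group := finite_W e8T (CoxeterMatrix.E₈.toCoxeterSystem)
  exact isForm CoxeterMatrix.E₈.toCoxeterSystem e8T.isCartan symD

theorem isoE (w : CoxeterMatrix.E₈.Group) : Iso BE (ac e8T w) := iso_act _ _ symD w

theorem normE_sr (i : Fin 8) : BE (sr i) (sr i) = 2 := by
  show ∑ j, 1 * (sr i : Fin 8 → ℤ) j * pairing (cartanOf chevE8 8) j (sr i) = 2
  rw [Finset.sum_eq_single i]
  · rw [sr_self, pairing_sr', one_mul, one_mul]
    revert i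
    decide +kernel
  · intro j _ hj
    rw [sr_ne hj, mul_zero, zero_mul]
  · intro h
    exact absurd (Finset.mem_univ i) h

theorem normE_root {a : Fin 8 → ℤ} (ha : IsRoot CoxeterMatrix.E₈.toCoxeterSystem e8T.isCartan a) : BE a a = 2 := by
  obtain ⟨w, i, rfl⟩ := ha
  exact ((isoE w).iso _ _).trans (normE_sr i)

theorem fixE {w : CoxeterMatrix.E₈.Group} (h : ∀ i : Fin 8, Rad BE (ac e8T w (sr i) - sr i)) : w = 1 := by
  have : Finite CoxeterMatrix.E₈.Group := finite_W e8T (CoxeterMatrix.E₈.toCoxeterSystem)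
  have h1 : ∀ i : Fin 8, ac e8T w (sr i) = sr i := fun i =>
    sub_eq_zero.1 (eq_zero_of_rad CoxeterMatrix.E₈.toCoxeterSystem e8T.isCartan symD (h i))
  apply ac_ext (hp := e8T)
  intro x
  rw [ac_one]
  exact addHom_ext (f := ac e8T w) (f' := AddMonoidHom.id _) h1 x

theorem fdata (V : Subgroup CoxeterMatrix.E₈.Group) : FData e8T BE V (fun i : Fin 8 => (sr i : Fin 8 → ℤ)) where
  form := isFormE
  iso := fun w _ => isoE w
  norm := normE_sr
  fix := fun _ _ h => fixE h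

/-! ### `θ` -/

/-- `θ` -/
noncomputable def th : (Fin 8 → ℤ) →+ (Fin 8 → ℤ) := ac e8T E8.u5

theorem th_iso : Iso BE th := isoE _

theorem th_mat (x : Fin 8 → ℤ) (m : Fin 8) : th x m = ∑ n, x n * E8.u5M n m := (E8.is_u5 e8T).apply x m

theorem th_sq (x : Fin 8 → ℤ) : th (th x) = -x := by
  refine addHom_ext (f := th.comp th) (f' := -AddMonoidHom.id _) (fun j => ?_) x
  funext m
  show th (th (sr j)) m = -(sr j : Fin 8 → ℤ) m
  rw [th_mat]
  have h1 : th (sr j) = E8.u5M j := E8.is_u5 e8T j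
  rw [h1, sr_apply']
  revert j m
  decide +kernel

/-- coordinates -/
def cidx : Fin 4 → Fin 8 := ![0, 1, 2, 4]

/-- dual vectors -/
def fv : Fin 4 → Fin 8 → ℤ :=
  ![![1, 0, 0, 1, 0, -2, 0, 0], ![0, 1, 0, -1, 0, 0, 1, 1], ![0, 0, 1, 0, 0, -1, 0, 0], ![0, 0, 0, -1, 1, 1, -1, -1]]

/-- dual vectors -/
def gv : Fin 4 → Fin 8 → ℤ :=
  ![![0, 0, 0, 0, 0, -1, 1, 2], ![0, 0, 0, -1, 0, 2, -1, 0], ![0, 0, 0, 0, 0, -1, 1, 1], ![0, 0, 0, 1, 0, -1, -1, 0]]

theorem fv_th : ∀ i r, ∑ m, E8.u5M r m * fv i m = -gv i r := by decide +kernel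

theorem gv_th : ∀ i r, ∑ m, E8.u5M r m * gv i m = fv i r := by decide +kernel

theorem fv_idx : ∀ i j, fv i (cidx j) = if i = j then 1 else 0 := by decide +kernel

theorem gv_idx : ∀ i j, gv i (cidx j) = 0 := by decide +kernel

theorem span_idx : ∀ m t, ∑ j, (fv j m * (if cidx j = t then 1 else 0) + gv j m * E8.u5M (cidx j) t) =
    if m = t then 1 else 0 := by decide +kernel

/-- the integral functional with coordinates `c` -/
def cvec (c : Fin 4 → ℤ) (q : ℤ) (m : Fin 8) : ℤ := ∑ i, c i * (fv i m + q * gv i m)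

theorem cvec_th (c : Fin 4 → ℤ) (q : ℤ) (r : Fin 8) :
    ∑ m, E8.u5M r m * cvec c q m = q * cvec c q r - (q ^ 2 + 1) * ∑ i, c i * gv i r := by
  unfold cvec
  have h1 : ∀ m, E8.u5M r m * ∑ i, c i * (fv i m + q * gv i m) =
      ∑ i, (c i * (E8.u5M r m * fv i m) + c i * q * (E8.u5M r m * gv i m)) := by
    intro m
    rw [Finset.mul_sum]
    exact Finset.sum_congr rfl fun i _ => by ring
  rw [Finset.sum_congr rfl (fun m _ => h1 m), Finset.sum_comm]
  rw [Finset.mul_sum, Finset.mul_sum, ← Finset.sum_sub_distrib]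
  refine Finset.sum_congr rfl fun i _ => ?_
  rw [Finset.sum_add_distrib, ← Finset.mul_sum, ← Finset.mul_sum, fv_th, gv_th]
  ring

/-- the functional -/
def dot (v : Fin 8 → ℤ) : (Fin 8 → ℤ) →+ ℤ where
  toFun x := ∑ m, x m * v m
  map_zero' := by simp
  map_add' x y := by
    rw [← Finset.sum_add_distrib]
    exact Finset.sum_congr rfl fun m _ => by rw [Pi.add_apply, add_mul]

theorem dot_apply (v x : Fin 8 → ℤ) : dot v x = ∑ m, x m * v m := rfl

theorem dot_th (v x : Fin 8 → ℤ) : dot v (th x) = ∑ r, x r * ∑ m, E8.u5M r m * v m := by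
  rw [dot_apply]
  simp only [th_mat, Finset.sum_mul, Finset.mul_sum]
  rw [Finset.sum_comm]
  exact Finset.sum_congr rfl fun r _ => Finset.sum_congr rfl fun m _ => by ring

theorem dot_cvec_th (c : Fin 4 → ℤ) (q : ℤ) (x : Fin 8 → ℤ) :
    dot (cvec c q) (th x) = q * dot (cvec c q) x - (q ^ 2 + 1) * ∑ r, x r * ∑ i, c i * gv i r := by
  rw [dot_th, dot_apply, Finset.mul_sum, Finset.mul_sum, ← Finset.sum_sub_distrib]
  refine Finset.sum_congr rfl fun r _ => ?_
  rw [cvec_th]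
  ring

theorem dot_sr (v : Fin 8 → ℤ) (j : Fin 8) : dot v (sr j) = v j := by
  rw [dot_apply]
  simp only [sr_apply']
  simp

theorem cvec_idx (c : Fin 4 → ℤ) (q : ℤ) (j : Fin 4) : cvec c q (cidx j) = c j := by
  unfold cvec
  simp only [fv_idx, gv_idx]
  simp

/-! ### Functionals modulo `p` -/

section functionals

variable {p : ℕ} {q0 : ℤ}

/-- the basis of the eigenspace -/
def kap (p : ℕ) (q0 : ℤ) (i : Fin 4) : (Fin 8 → ℤ) →+ ZMod p :=
  (Int.castAddHom (ZMod p)).comp (dot (fun m => fv i m + q0 * gv i m))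

theorem kap_apply (i : Fin 4) (x : Fin 8 → ℤ) : kap p q0 i x = ((dot (fun m => fv i m + q0 * gv i m) x : ℤ) : ZMod p) :=
  rfl

theorem kap_idx (i j : Fin 4) : kap p q0 i (sr (cidx j)) = if i = j then 1 else 0 := by
  rw [kap_apply, dot_sr, fv_idx, gv_idx]
  by_cases h : i = j
  · rw [if_pos h, if_pos h]; simp
  · rw [if_neg h, if_neg h]; simp

theorem kap_eq_cvec (i : Fin 4) : (fun m => fv i m + q0 * gv i m) = cvec (fun j => if j = i then 1 else 0) q0 := by
  funext m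
  unfold cvec
  simp

theorem kap_th (hq : (p : ℤ) ∣ q0 ^ 2 + 1) (i : Fin 4) (x : Fin 8 → ℤ) :
    kap p q0 i (th x) = (q0 : ZMod p) * kap p q0 i x := by
  rw [kap_apply, kap_apply, kap_eq_cvec, dot_cvec_th]
  have h1 : (((q0 ^ 2 + 1 : ℤ)) : ZMod p) = 0 := (ZMod.intCast_zmod_eq_zero_iff_dvd _ _).2 hq
  rw [Int.cast_sub, Int.cast_mul, Int.cast_mul, h1, zero_mul, sub_zero]

/-- an element of the eigenspace is determined by its coordinates -/
theorem eig_eq (c : (Fin 8 → ℤ) →+ ZMod p) (hc : ∀ x, c (th x) = (q0 : ZMod p) * c x) (x : Fin 8 → ℤ) :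
    c x = ∑ j, c (sr (cidx j)) * kap p q0 j x := by
  let c' : (Fin 8 → ℤ) →+ ZMod p := ∑ j, (AddMonoidHom.mulLeft (c (sr (cidx j)))).comp (kap p q0 j)
  have h1 : ∀ x, c' x = ∑ j, c (sr (cidx j)) * kap p q0 j x := by
    intro x
    show (∑ j, (AddMonoidHom.mulLeft (c (sr (cidx j)))).comp (kap p q0 j)) x = _
    rw [AddMonoidHom.finsetSum_apply]
    rfl
  rw [← h1]
  refine addHom_ext (f := c) (f' := c') (fun m => ?_) x
  rw [h1]
  have h2 : (sr m : Fin 8 → ℤ) = ∑ j, (fv j m • (sr (cidx j) : Fin 8 → ℤ) + gv j m • th (sr (cidx j))) := by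
    funext t
    rw [Finset.sum_apply]
    simp only [Pi.add_apply, Pi.smul_apply, smul_eq_mul]
    have h3 : ∀ j, th (sr (cidx j)) = E8.u5M (cidx j) := fun j => E8.is_u5 e8T (cidx j)
    simp only [h3, sr_apply']
    exact (span_idx m t).symm
  conv_lhs => rw [h2]
  rw [map_sum]
  refine Finset.sum_congr rfl fun j _ => ?_
  rw [map_add, map_zsmul, map_zsmul, hc, kap_apply, dot_sr, Int.cast_add, Int.cast_mul, zsmul_eq_mul, zsmul_eq_mul]
  ring

end functionals

/-! ### Elements of order seven commuting with `θ` -/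

section seven

instance fact5 : Fact (Nat.Prime 5) := ⟨Nat.prime_five⟩

variable {q0 : ℤ} (hq : ((5 : ℕ) : ℤ) ∣ q0 ^ 2 + 1)

/-- the matrix on the eigenspace -/
noncomputable def QM (q0 : ℤ) (w : CoxeterMatrix.E₈.Group) : Matrix (Fin 4) (Fin 4) (ZMod 5) :=
  fun i j => kap 5 q0 i (ac e8T w (sr (cidx j)))

include hq

theorem kap_ac {w : CoxeterMatrix.E₈.Group} (hw : ∀ x, ac e8T w (th x) = th (ac e8T w x)) (i : Fin 4)
    (x : Fin 8 → ℤ) : kap 5 q0 i (ac e8T w x) = ∑ m, QM q0 w i m * kap 5 q0 m x :=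
  eig_eq ((kap 5 q0 i).comp (ac e8T w)) (fun x => by
    show kap 5 q0 i (ac e8T w (th x)) = (q0 : ZMod 5) * kap 5 q0 i (ac e8T w x)
    rw [hw, kap_th hq]) x

theorem QM_mul {w v : CoxeterMatrix.E₈.Group} (hw : ∀ x, ac e8T w (th x) = th (ac e8T w x)) :
    QM q0 (w * v) = QM q0 w * QM q0 v := by
  ext i j
  rw [Matrix.mul_apply]
  show kap 5 q0 i (ac e8T (w * v) (sr (cidx j))) = _
  rw [ac_mul, kap_ac hq hw]
  rfl

omit hq in
theorem QM_one : QM q0 (1 : CoxeterMatrix.E₈.Group) = 1 := by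
  ext i j
  show kap 5 q0 i (ac e8T 1 (sr (cidx j))) = _
  rw [ac_one, kap_idx, Matrix.one_apply]

theorem QM_pow {w : CoxeterMatrix.E₈.Group} (hw : ∀ x, ac e8T w (th x) = th (ac e8T w x)) (n : ℕ) :
    QM q0 (w ^ n) = QM q0 w ^ n := by
  induction n with
  | zero => rw [pow_zero, pow_zero, QM_one]
  | succ n ih => rw [pow_succ', pow_succ', QM_mul hq hw, ih]

omit hq in
theorem eq_one_of_pow_seven {Q : Matrix (Fin 4) (Fin 4) (ZMod 5)} (h : Q ^ 7 = 1) : Q = 1 := by
  have h1 : IsUnit Q := IsUnit.of_pow_eq_one h (by norm_num)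
  obtain ⟨u, rfl⟩ := h1
  have h2 : u ^ 7 = 1 := Units.ext (by rw [Units.val_pow_eq_pow_val, h, Units.val_one])
  have h3 : orderOf u ∣ 7 := orderOf_dvd_of_pow_eq_one h2
  have h4 : orderOf u ∣ Nat.card (GL (Fin 4) (ZMod 5)) := _root_.orderOf_dvd_natCard u
  rw [Matrix.card_GL_field, ZMod.card] at h4
  have h5 : orderOf u ∣ Nat.gcd 7 (∏ i : Fin 4, (5 ^ 4 - 5 ^ (i : ℕ))) := Nat.dvd_gcd h3 h4
  have h6 : Nat.gcd 7 (∏ i : Fin 4, (5 ^ 4 - 5 ^ (i : ℕ))) = 1 := by decide +kernel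
  rw [h6, Nat.dvd_one, orderOf_eq_one_iff] at h5
  rw [h5, Units.val_one]

/-- the functional `B x (θ y - q0 y)` -/
noncomputable def fB (q0 : ℤ) (y : Fin 8 → ℤ) : (Fin 8 → ℤ) →+ ZMod 5 where
  toFun x := ((BE x (th y - q0 • y) : ℤ) : ZMod 5)
  map_zero' := by rw [isFormE.zero]; simp
  map_add' a b := by rw [isFormE.add]; simp

omit hq in
theorem BE_zsmul (n : ℤ) (u v : Fin 8 → ℤ) : BE u (n • v) = n * BE u v := by
  have h1 : ∀ (n : ℤ) (u v : Fin 8 → ℤ), BE (n • u) v = n * BE u v := by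
    have hn : ∀ (n : ℕ) (u v : Fin 8 → ℤ), BE (n • u) v = n * BE u v := by
      intro n u v
      induction n with
      | zero => rw [zero_smul, isFormE.zero]; simp
      | succ n ih => rw [succ_nsmul, isFormE.add, ih]; push_cast; ring
    intro n u v
    obtain ⟨n, rfl | rfl⟩ := n.eq_nat_or_neg
    · rw [natCast_zsmul, hn]
    · rw [neg_smul, isFormE.neg, natCast_zsmul, hn]; ring
  rw [isFormE.comm, h1, isFormE.comm]

omit hq in
/-- the eigenvalue relation over `ℤ` -/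
theorem BE_th (x y : Fin 8 → ℤ) :
    BE (th x) (th y - q0 • y) = q0 * BE x (th y - q0 • y) + (q0 ^ 2 + 1) * BE x y := by
  have h1 : BE (th x) y = -BE x (th y) := by
    rw [← th_iso.iso (th x) y, th_sq, isFormE.neg]
  rw [isFormE.sub', isFormE.sub', th_iso.iso, BE_zsmul, BE_zsmul, h1]
  ring

theorem fB_th (x y : Fin 8 → ℤ) : fB q0 y (th x) = (q0 : ZMod 5) * fB q0 y x := by
  show ((BE (th x) (th y - q0 • y) : ℤ) : ZMod 5) = (q0 : ZMod 5) * ((BE x (th y - q0 • y) : ℤ) : ZMod 5)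
  have h1 : (((q0 ^ 2 + 1 : ℤ)) : ZMod 5) = 0 := (ZMod.intCast_zmod_eq_zero_iff_dvd _ 5).2 hq
  rw [BE_th, Int.cast_add, Int.cast_mul, Int.cast_mul, h1, zero_mul, add_zero]

omit hq in
theorem not_dvd_two (h : ((5 : ℕ) : ℤ) ∣ q0 ^ 2 + 1) : ¬ ((5 : ℕ) : ℤ) ∣ 2 * q0 := by
  intro h1
  have h5 : Prime ((5 : ℕ) : ℤ) := Nat.prime_iff_prime_int.1 Nat.prime_five
  rcases h5.dvd_or_dvd h1 with h2 | h2
  · revert h2; decide
  · have h3 : ((5 : ℕ) : ℤ) ∣ q0 ^ 2 := dvd_pow h2 two_ne_zero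
    have h4 := dvd_sub h h3
    rw [add_sub_cancel_left] at h4
    revert h4
    decide

/-- **elements of order seven** -/
theorem eq_one_seven {y : CoxeterMatrix.E₈.Group} (hy : ∀ x, ac e8T y (th x) = th (ac e8T y x)) (h7 : y ^ 7 = 1) :
    y = 1 := by
  have h1 : QM q0 y = 1 := eq_one_of_pow_seven (by rw [← QM_pow hq hy, h7, QM_one])
  have h2 : ∀ i x, kap 5 q0 i (ac e8T y x) = kap 5 q0 i x := by
    intro i x
    rw [kap_ac hq hy, h1]
    simp only [Matrix.one_apply]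
    simp
  have h3 : Quad BE ((5 : ℕ) : ℤ) (ac e8T y) := by
    have h5p : Prime ((5 : ℕ) : ℤ) := Nat.prime_iff_prime_int.1 Nat.prime_five
    have h2q := not_dvd_two hq
    have hyo := isoE y
    generalize ac e8T y = w at hy h2 hyo ⊢
    have htho := th_iso
    have hths := th_sq
    refine quad_of_eig_pi (θ := th) (q0 := q0) (s := ((5 : ℕ) : ℤ)) isFormE hyo htho hths hy h5p h2q ?_
    intro x z
    have h4 := eig_eq (fB q0 z) (fun x => fB_th hq x z) (w x)
    have h5 := eig_eq (fB q0 z) (fun x => fB_th hq x z) x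
    simp only [h2] at h4
    rw [← h5] at h4
    have h6 : ((BE (w x - x) (th z - q0 • z) : ℤ) : ZMod 5) = 0 := by
      rw [isFormE.sub, Int.cast_sub, sub_eq_zero]
      exact h4
    exact (ZMod.intCast_zmod_eq_zero_iff_dvd _ 5).1 h6
  exact fixE fun i => five isFormE (isoE y) Nat.prime_five le_rfl h3 (normE_sr i)

end seven

end Cfsg.Agent.H574.ExcE8Five
end

-- part: H574/ExcE8FiveB
section
/-!
# `PairN t 5 E₈(q)`, `q² ≡ -1 (mod 5)`: the torus and the row (helper574, S4350)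

* `card_TG` : `n ^ 4` divides the order of the torus, `n ∣ q² + 1`;
* `pairN_E8_five` : `PairN t 5 E₈(q)` for `t ≥ 7`, `5 ∣ q² + 1`.
-/

set_option autoImplicit false
set_option linter.unusedSectionVars false

namespace Cfsg.Agent.H574.ExcE8Five

open CoxeterSystem Cfsg Cfsg.Lie Cfsg.Lie.ChevalleyDatum
open Cfsg.Agent.ChevalleyStructure Cfsg.Agent.ChevalleyStructure.Elts Cfsg.Agent.ChevalleyStructure.CoxeterGeom
  Cfsg.Agent.ChevalleyStructure.CoxeterGeomTypes Cfsg.Agent.ChevalleyStructure.NPerm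
open Cfsg.Agent.Tits.Roots Cfsg.Agent.Tits.Core Cfsg.Agent.Nodes Cfsg.Agent.Nodes.Reps Cfsg.Agent.Nodes.BNOf
  Cfsg.Agent.Nodes.RGDChev Cfsg.Agent.Nodes.Bruhat
open Cfsg.Agent.KFacts.RgdField Cfsg.Agent.KFacts.RgdChevCoord Cfsg.Agent.BpExc.TorCent Cfsg.Agent.BpExc.TorChev
open Cfsg.Agent.GpExc.Field Cfsg.Agent.BpExc.Tow Cfsg.Agent.BpExc.TowChev Cfsg.Agent.BpExc.Fr
  Cfsg.Agent.BpExc.LangFr Cfsg.Agent.H129.TorusChar Cfsg.Agent.H129.TorusMain Cfsg.Agent.H123.ExcZ
open Cfsg.Agent.BpExc Cfsg.Agent.H795.LangT Cfsg.Agent.H795.Core Cfsg.Agent.H795.NotAbT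
  Cfsg.Agent.H795.NotAbCert Cfsg.Agent.H795.NotAbData Cfsg.Agent.BpExc.RowsUntw Cfsg.Agent.H129.WData
  Cfsg.Agent.H795.Untw
open Cfsg.Agent.H129.TorusUntw (phi isFrob_phi fr_phi phi_emb coe_phi fix_range fix_split exists_closure)
open Cfsg.Agent.H572.ExcA Cfsg.Agent.H572.ExcB Cfsg.Agent.H572.ExcC Cfsg.Agent.H572.LatQ Cfsg.Agent.H572.LatForm
  Cfsg.Agent.H572.HallCore Cfsg.Agent.H572.HallPair Cfsg.Agent.H574.ExcE8FiveA
open Cfsg.Agent.H553.OddHall
open Subgroup

universe u v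

variable {k : Type u} [Field k] [IsAlgClosed k] {hk : LocFin k} {r e : ℕ} [Fact r.Prime] [CharP k r]
  {G : Type v} [Group G] {κ : G →* ↥(chevE8.group k)}

/-- `θ` as an automorphism -/
noncomputable abbrev thE : (Fin 8 → ℤ) ≃+ (Fin 8 → ℤ) := thEq e8T E8.u5

theorem thE_apply (x : Fin 8 → ℤ) : thE x = th x := thEq_apply E8.u5 x

/-- the character with given exponents -/
theorem isMC_zpow {ζ : k} (h0 : ζ ≠ 0) (f : (Fin 8 → ℤ) →+ ℤ) : IsMC (fun x => ζ ^ (f x)) where
  zero := by rw [map_zero, zpow_zero]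
  add x y := by rw [map_add, zpow_add₀ h0]

theorem zpow_eq_of_dvd {n : ℕ} {ζ : k} (hζ : IsPrimitiveRoot ζ n) (h0 : ζ ≠ 0) {a b : ℤ} (h : (n : ℤ) ∣ a - b) :
    ζ ^ a = ζ ^ b := by
  have h1 : ζ ^ (a - b) = 1 := (hζ.zpow_eq_one_iff_dvd _).2 h
  rw [zpow_sub₀ h0, div_eq_one_iff_eq (zpow_ne_zero _ h0)] at h1
  exact h1

variable {τ : MulAut ↥(chevE8.group k)}

/-- **the order of the torus** -/
theorem card_TG [Finite G] {n : ℕ} [NeZero n] {ζ : k} (hζ : IsPrimitiveRoot ζ n) (hinj : Function.Injective κ)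
    (hfr : IsFrob r e τ)
    (F : Fr CoxeterMatrix.E₈.toCoxeterSystem e8T.isCartan (TT chevE8 k) (XX chevE8 8 k) τ thE)
    (hfull : ∀ y, τ y = y → ∃ x, κ x = y) (hn : (n : ℤ) ∣ ((r ^ e : ℕ) : ℤ) ^ 2 + 1) : n ^ 4 ∣ Nat.card (TG κ) := by
  classical
  have h0 : ζ ≠ 0 := hζ.ne_zero (NeZero.ne n)
  let H : Subgroup G :=
    { carrier := {x | x ∈ TG κ ∧ x ^ n = 1}
      one_mem' := ⟨one_mem _, one_pow _⟩
      mul_mem' := by
        rintro a b ⟨ha, ha'⟩ ⟨hb, hb'⟩
        refine ⟨mul_mem ha hb, ?_⟩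
        rw [(show Commute a b from TG_comm κ hinj e8T ha hb).mul_pow, ha', hb', one_mul]
      inv_mem' := by
        rintro a ⟨ha, ha'⟩
        exact ⟨inv_mem ha, by rw [inv_pow, ha', inv_one]⟩ }
  have hHT : H ≤ TG κ := fun x hx => hx.1
  refine dvd_trans ?_ (Subgroup.card_dvd_of_le hHT)
  have hpow : ∀ (x : H) (v : Fin 8 → ℤ), cX e8T (κ x) v ^ n = 1 := by
    intro x v
    rw [← cX_pow e8T x.2.1, ← map_pow, x.2.2, map_one, cX_one]
  let ev : H →* (Fin 4 → rootsOfUnity n k) :=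
    { toFun := fun x j => rootsOfUnity.mkOfPowEq (cX e8T (κ x) (sr (cidx j))) (hpow x _)
      map_one' := by
        funext j
        apply Subtype.ext
        apply Units.ext
        show cX e8T (κ ((1 : H) : G)) (sr (cidx j)) = 1
        rw [Subgroup.coe_one, map_one, cX_one]
      map_mul' := fun x y => by
        funext j
        apply Subtype.ext
        apply Units.ext
        show cX e8T (κ ((x * y : H) : G)) (sr (cidx j)) = cX e8T (κ x) (sr (cidx j)) * cX e8T (κ y) (sr (cidx j))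
        rw [Subgroup.coe_mul, map_mul, cX_mul e8T x.2.1 y.2.1] }
  have hsurj : Function.Surjective ev := by
    intro ω
    have h1 : ∀ j, ∃ c : ℕ, ζ ^ c = ((ω j : kˣ) : k) := by
      intro j
      have h2 : ((ω j : kˣ) : k) ^ n = 1 := by
        have h3 := (mem_rootsOfUnity n (ω j : kˣ)).1 (ω j).2
        rw [← Units.val_pow_eq_pow_val, h3, Units.val_one]
      obtain ⟨i, -, hi⟩ := hζ.eq_pow_of_pow_eq_one h2
      exact ⟨i, hi⟩
    choose c hc using h1
    have hφ : IsMC (fun x => ζ ^ (dot (cvec (fun j => (c j : ℤ)) ((r ^ e : ℕ) : ℤ)) x)) := isMC_zpow h0 _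
    obtain ⟨a, ha, hax⟩ := exists_TG (hp := e8T) (κ := κ) invC_E8 one_ne_zero hfr F hfull hφ (fun x => by
      show ζ ^ _ = (ζ ^ _) ^ (r ^ e)
      rw [thE_apply, ← zpow_natCast (ζ ^ _), ← zpow_mul]
      apply zpow_eq_of_dvd hζ h0
      rw [dot_cvec_th]
      have h2 : ((r ^ e : ℕ) : ℤ) * dot (cvec (fun j => (c j : ℤ)) ((r ^ e : ℕ) : ℤ)) x -
          (((r ^ e : ℕ) : ℤ) ^ 2 + 1) * (∑ t, x t * ∑ i, (c i : ℤ) * gv i t) -
          dot (cvec (fun j => (c j : ℤ)) ((r ^ e : ℕ) : ℤ)) x * ((r ^ e : ℕ) : ℤ) =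
          -((((r ^ e : ℕ) : ℤ) ^ 2 + 1) * (∑ t, x t * ∑ i, (c i : ℤ) * gv i t)) := by ring
      rw [h2, dvd_neg]
      exact Dvd.dvd.mul_right hn _)
    have han : a ^ n = 1 := by
      apply hinj
      rw [map_pow, map_one]
      refine cX_inj e8T (pow_mem (show κ a ∈ TT chevE8 k from ha) n) (one_mem _) fun i => ?_
      rw [cX_pow e8T ha, hax, cX_one, ← zpow_natCast, ← zpow_mul, mul_comm, zpow_mul, zpow_natCast, hζ.pow_eq_one,
        one_zpow]
    refine ⟨⟨a, ha, han⟩, ?_⟩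
    funext j
    apply Subtype.ext
    apply Units.ext
    show cX e8T (κ a) (sr (cidx j)) = _
    rw [hax, dot_sr, cvec_idx, zpow_natCast, hc]
  have h1 : n ^ 4 = Nat.card (Fin 4 → rootsOfUnity n k) := by
    rw [Nat.card_pi, Finset.prod_const, Finset.card_univ, Fintype.card_fin, hζ.card_rootsOfUnity]
  rw [h1]
  exact Subgroup.card_dvd_of_surjective ev hsurj

/-- the test elements -/
theorem exists_test {q0 : ℤ} (hq : ((5 : ℕ) : ℤ) ∣ q0 ^ 2 + 1) (hqr : ((5 : ℕ) : ℤ) ∣ ((r ^ e : ℕ) : ℤ) - q0)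
    {ζ : k} (hζ : IsPrimitiveRoot ζ 5) (hinj : Function.Injective κ) (hfr : IsFrob r e τ)
    (F : Fr CoxeterMatrix.E₈.toCoxeterSystem e8T.isCartan (TT chevE8 k) (XX chevE8 8 k) τ thE)
    (hfull : ∀ y, τ y = y → ∃ x, κ x = y) (y : Fin 8 → ℤ) :
    ∃ a ∈ TG κ, a ^ 5 = 1 ∧ ∀ x, cX e8T (κ a) x = ζ ^ (BE x (th y - q0 • y)) := by
  have h0 : ζ ≠ 0 := hζ.ne_zero (by norm_num)
  let f : (Fin 8 → ℤ) →+ ℤ := formHom isFormE (th y - q0 • y)
  obtain ⟨a, ha, hax⟩ := exists_TG (hp := e8T) (κ := κ) invC_E8 one_ne_zero hfr F hfull (isMC_zpow h0 f) (fun x => by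
    show ζ ^ (formHom isFormE (th y - q0 • y) (thE x)) = (ζ ^ (formHom isFormE (th y - q0 • y) x)) ^ (r ^ e)
    rw [thE_apply, formHom_apply, formHom_apply]
    rw [← zpow_natCast (ζ ^ _), ← zpow_mul]
    apply zpow_eq_of_dvd hζ h0
    rw [BE_th]
    have h2 : q0 * BE x (th y - q0 • y) + (q0 ^ 2 + 1) * BE x y - BE x (th y - q0 • y) * ((r ^ e : ℕ) : ℤ) =
        (q0 ^ 2 + 1) * BE x y - (((r ^ e : ℕ) : ℤ) - q0) * BE x (th y - q0 • y) := by ring
    rw [h2]
    exact dvd_sub (Dvd.dvd.mul_right hq _) (Dvd.dvd.mul_right hqr _))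
  refine ⟨a, ha, ?_, hax⟩
  apply hinj
  rw [map_pow, map_one]
  refine cX_inj e8T (pow_mem (show κ a ∈ TT chevE8 k from ha) 5) (one_mem _) fun i => ?_
  rw [cX_pow e8T ha, hax, cX_one, ← zpow_natCast, ← zpow_mul, mul_comm, zpow_mul, zpow_natCast, hζ.pow_eq_one,
    one_zpow]

theorem u5_comm_u4 (x : Fin 8 → ℤ) : rep CoxeterMatrix.E₈.toCoxeterSystem e8T.isCartan E8.u4
      (rep CoxeterMatrix.E₈.toCoxeterSystem e8T.isCartan E8.u5 ((AddEquiv.refl (Fin 8 → ℤ)) x)) =
      rep CoxeterMatrix.E₈.toCoxeterSystem e8T.isCartan E8.u5 ((AddEquiv.refl (Fin 8 → ℤ))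
        (rep CoxeterMatrix.E₈.toCoxeterSystem e8T.isCartan E8.u4 x)) :=
  _root_.Cfsg.Agent.H795.NotAbCert.comm_of Cfsg.Agent.H795.NotAbRows.refl_mat (E8.is_u5 e8T) (E8.is_u4 e8T) E8.five2.1 E8.five2.2.1 x

theorem u4_ne_one : E8.u4 ≠ 1 := by
  intro h
  have h1 := E8.is_u4 e8T 0
  rw [h, map_one, Module.End.one_apply] at h1
  have h2 := congrFun h1 1
  revert h2
  rw [sr_apply']
  decide

theorem exists_zeta_pow {a : ℕ} (hr : 5 ≠ r) : ∃ ζ : k, IsPrimitiveRoot ζ (5 ^ a) := by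
  have hdk : ((5 ^ a : ℕ) : k) ≠ 0 := by
    rw [Ne, CharP.cast_eq_zero_iff k r]
    intro h
    exact hr ((Nat.prime_dvd_prime_iff_eq Fact.out Nat.prime_five).1
      ((Fact.out : r.Prime).dvd_of_dvd_pow h)).symm
  have : NeZero ((5 ^ a : ℕ) : k) := ⟨hdk⟩
  exact HasEnoughRootsOfUnity.exists_primitiveRoot k (5 ^ a)

/-- **`PairN t 5 E₈(q)`, `q² ≡ -1 (mod 5)`**, from the order of the group. -/
theorem pairN_of_ord {F : Type u} [Field F] [Fintype F] (h5 : 5 ∣ Fintype.card F ^ 2 + 1) {a : ℕ}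
    (ha : 5 ^ a ∣ Fintype.card F ^ 2 + 1) (hord : ¬ 5 ^ (4 * a + 2) ∣ Nat.card ↥(chevE8.group F)) {t : ℕ}
    (ht : t.Prime) (ht7 : 7 ≤ t) : PairN t 5 ↥(chevE8.group F) := by
  classical
  obtain ⟨r, e, hr, hrF, hrk, he, hq, hk⟩ := _root_.Cfsg.Agent.H129.TorusUntw.exists_closure (F := F) rfl
  have htf : Fact t.Prime := ⟨ht⟩
  have h5r : 5 ≠ r := by
    rintro rfl
    rw [hq] at h5
    have h1 : 5 ∣ (5 ^ e) ^ 2 := dvd_pow (dvd_pow_self 5 he.ne') two_ne_zero
    have h2 := (Nat.dvd_add_right h1).1 h5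
    omega
  have hGf : Finite ↥(chevE8.group F) := inferInstance
  have hset := Cfsg.Agent.H795.NotAbRows.setup_untw_all (D := chevE8) (M := CoxeterMatrix.E₈) e8T hk
    (algebraMap F (AlgebraicClosure F)) he hq invC_E8 one_ne_zero (fun b => ⟨b, pow_one b⟩) 5
  obtain ⟨n, z, hn, hz, hτ, Fτ⟩ := exists_tau (D := chevE8) (M := CoxeterMatrix.E₈) e8T hk hset.e_pos hset.frob
    hset.fr E8.u5
  obtain ⟨m, hm, hτm⟩ := exists_lift_tau e8T hk invC_E8 one_ne_zero hset.e_pos hset.frob hset.fr hτ Fτ u5_comm_u4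
  set σ := phi chevE8 (AlgebraicClosure F) r e with hσdef
  set τ : MulAut ↥(chevE8.group (AlgebraicClosure F)) := MulAut.conj n * σ with hτdef
  have hτ' : ∀ u, τ u = n * σ u * n⁻¹ := fun u => rfl
  let κ : ↥(chevE8.group F) →* ↥(chevE8.group (AlgebraicClosure F)) :=
    (MulAut.conj z⁻¹).toMonoidHom.comp (emb e8T.inList (algebraMap F (AlgebraicClosure F)))
  have hκ : ∀ x, κ x = z⁻¹ * emb e8T.inList (algebraMap F (AlgebraicClosure F)) x * z⁻¹⁻¹ := fun x => rfl
  have hinj : Function.Injective κ := (MulAut.conj z⁻¹).injective.comp hset.inj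
  have hfix : ∀ x, τ (κ x) = κ x := by
    intro x
    rw [hτ', hκ, map_mul, map_mul, map_inv, map_inv, map_inv, hset.fix, hz]
    group
  have hfull : ∀ y, τ y = y → ∃ x, κ x = y := by
    intro y hy
    have h1 := fix_conj hz (u := y) (by rw [← hτ']; exact hy)
    obtain ⟨x, hx⟩ := fix_range e8T CoxeterMatrix.E₈.toCoxeterSystem (algebraMap F (AlgebraicClosure F)) hq invC_E8
      one_ne_zero (fun b => ⟨b, pow_one b⟩) h1
    refine ⟨x, ?_⟩
    rw [hκ, hx]
    group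
  have hfin : Finite {y : ↥(chevE8.group (AlgebraicClosure F)) // τ y = y} := by
    have := hset.fin
    refine Finite.of_injective (fun y : {y : ↥(chevE8.group (AlgebraicClosure F)) // τ y = y} =>
      (⟨z * y.1 * z⁻¹, fix_conj hz (by rw [← hτ']; exact y.2)⟩ :
        {y : ↥(chevE8.group (AlgebraicClosure F)) // σ y = y})) ?_
    intro y y' hyy
    have h1 : z * y.1 * z⁻¹ = z * y'.1 * z⁻¹ := congrArg Subtype.val hyy
    exact Subtype.ext (mul_left_cancel (mul_right_cancel h1))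
  have hemb : Emb e8T r e κ τ thE := ⟨hinj, he, hτ, Fτ, hfix, hfin⟩
  -- the residue
  obtain ⟨q0, hq0⟩ : ∃ q0 : ℤ, q0 = ((r ^ e : ℕ) : ℤ) := ⟨_, rfl⟩
  have hq05 : ((5 : ℕ) : ℤ) ∣ q0 ^ 2 + 1 := by
    rw [hq0, ← hq]
    exact_mod_cast h5
  -- the torus
  have h1 : 5 ^ (4 * a) ∣ Nat.card (TG κ) := by
    obtain ⟨ζ, hζ⟩ := exists_zeta_pow (k := AlgebraicClosure F) (a := a) h5r
    have : NeZero (5 ^ a) := ⟨pow_ne_zero _ (by norm_num)⟩
    have h2 := card_TG (κ := κ) hζ hinj hτ Fτ hfull (by rw [← hq]; exact_mod_cast ha)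
    rwa [← pow_mul, mul_comm a 4] at h2
  -- the Weyl group
  have h2 : 5 ^ 1 ∣ Nat.card (im e8T hk r κ (NG e8T hk r κ)) := by
    obtain ⟨x, hx⟩ := hfull m hτm
    have h3 : RP e8T hk r E8.u4 (κ x) := by rw [hx]; exact hm
    have h4 : E8.u4 ∈ im e8T hk r κ (NG e8T hk r κ) := ⟨x, ⟨_, h3⟩, h3⟩
    have h5 : orderOf E8.u4 = 5 := orderOf_eq_prime (E8.u4_pow e8T) u4_ne_one
    rw [pow_one]
    have h6 := Subgroup.orderOf_dvd_natCard (im e8T hk r κ (NG e8T hk r κ)) h4
    rwa [h5] at h6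
  obtain ⟨S, hS, hSim⟩ := exists_sylow (hp := e8T) (hk := hk) (r := r) (s := 5) κ h1 h2 hord
  obtain ⟨ζ, hζ⟩ := exists_zeta (k := AlgebraicClosure F) (p := 5) h5r
  have hT : TstE κ e8T ((S : Subgroup ↥(chevE8.group F)) ⊓ TG κ) ζ BE th q0 := by
    intro y
    obtain ⟨b, hb, hb5, hbx⟩ := exists_test (κ := κ) hq05 (by rw [hq0, sub_self]; exact dvd_zero _) hζ hinj hτ Fτ
      hfull y
    exact ⟨b, ⟨TS_le hinj S hS ⟨hb, 1, by rw [pow_one]; exact hb5⟩, hb⟩, hbx⟩
  have hCT : ∀ w ∈ CT e8T thE, ∀ x, ac e8T w (th x) = th (ac e8T w x) := fun w hw x => mem_CT_thEq hw x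
  refine pairN_gen (s := 5) (by norm_num) (by omega) (by omega) hemb invC_E8 one_ne_zero S hS hSim ?_ ?_ ?_
  · refine qcond_eig Nat.prime_five le_rfl inf_le_right hS le_rfl ?_ (fdata (CT e8T thE)) th_iso th_sq hCT
      (not_dvd_two hq05) hζ hT
    rintro w ⟨x, -, hw⟩
    exact mem_CT_of_fix invC_E8 one_ne_zero hτ Fτ hw (hfix x)
  · intro b hb
    exact reg_of_eig isFormE th_iso th_sq Nat.prime_five (not_dvd_two hq05) hζ hT (normE_root hb)
  · intro H hH hHq _ htH
    have hWf : Finite CoxeterMatrix.E₈.Group := finite_W e8T (CoxeterMatrix.E₈.toCoxeterSystem)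
    rcases Nat.lt_or_ge t 8 with h8 | h8
    · have ht' : t = 7 := by omega
      obtain ⟨y, hy⟩ := exists_prime_orderOf_dvd_card' t htH
      have h3 : (y : CoxeterMatrix.E₈.Group) ^ 7 = 1 := by
        have h4 := pow_orderOf_eq_one y
        rw [hy, ht'] at h4
        exact congrArg Subtype.val h4
      have h4 : (y : CoxeterMatrix.E₈.Group) = 1 := eq_one_seven hq05 (fun x => hCT _ (hH y.2) x) h3
      have h5 : y = 1 := Subtype.ext h4
      rw [h5, orderOf_one] at hy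
      exact ht.one_lt.ne hy
    · have h3 : t ∣ 696729600 := by
        rw [← Cfsg.Agent.H795.RowsA.card_E8]
        exact htH.trans (Subgroup.card_subgroup_dvd_card H)
      have h4 : (696729600 : ℕ) = 2 ^ 14 * 3 ^ 5 * 5 ^ 2 * 7 := by norm_num
      rw [h4, ht.dvd_mul, ht.dvd_mul, ht.dvd_mul] at h3
      rcases h3 with ((h3 | h3) | h3) | h3
      · have := Nat.le_of_dvd (by norm_num) (ht.dvd_of_dvd_pow h3); omega
      · have := Nat.le_of_dvd (by norm_num) (ht.dvd_of_dvd_pow h3); omega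
      · have := Nat.le_of_dvd (by norm_num) (ht.dvd_of_dvd_pow h3); omega
      · have := Nat.le_of_dvd (by norm_num) h3; omega

/-- **`PairN t 5 E₈(q)` for `t ≥ 7`, `q² ≡ -1 (mod 5)`.** -/
theorem pairN_E8_five {F : Type u} [Field F] [Fintype F] (h5 : 5 ∣ Fintype.card F ^ 2 + 1) {t : ℕ}
    (ht : t.Prime) (ht7 : 7 ≤ t) : PairN t 5 ↥(chevE8.group F) := by
  obtain ⟨q, hq⟩ : ∃ q, q = Fintype.card F := ⟨_, rfl⟩
  have hq2 : 2 ≤ q := by
    rw [hq]
    exact Fintype.one_lt_card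
  rw [← hq] at h5
  have h0 : q ^ 4 - 1 ≠ 0 := by
    have : 2 ^ 4 ≤ q ^ 4 := Nat.pow_le_pow_left hq2 4
    omega
  have h1 : q ^ 4 - 1 = (q ^ 2 - 1) * (q ^ 2 + 1) := by
    have h2 : 1 ≤ q ^ 2 := Nat.one_le_pow _ _ (by omega)
    obtain ⟨c, hc⟩ := Nat.exists_eq_add_of_le h2
    have h3 : q ^ 4 = (1 + c) * (1 + c) := by rw [← hc]; ring
    rw [h3, hc, Nat.add_sub_cancel_left]
    have h4 : (1 + c) * (1 + c) = c * (1 + c + 1) + 1 := by ring
    rw [h4, Nat.add_sub_cancel]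
  have h2 : (5 ^ (q ^ 4 - 1).factorization 5).Coprime (q ^ 2 - 1) := by
    apply Nat.Coprime.pow_left
    rw [Nat.prime_five.coprime_iff_not_dvd]
    intro h3
    have h2 : 1 ≤ q ^ 2 := Nat.one_le_pow _ _ (by omega)
    omega
  have ha : 5 ^ (q ^ 4 - 1).factorization 5 ∣ q ^ 4 - 1 := Nat.ordProj_dvd _ _
  have ha' : ¬ 5 ^ ((q ^ 4 - 1).factorization 5 + 1) ∣ q ^ 4 - 1 :=
    Nat.pow_succ_factorization_not_dvd h0 Nat.prime_five
  have ha1 : 1 ≤ (q ^ 4 - 1).factorization 5 := by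
    rw [← Nat.prime_five.pow_dvd_iff_le_factorization h0, pow_one, h1]
    exact Dvd.dvd.mul_left h5 _
  have ha2 : 5 ^ (q ^ 4 - 1).factorization 5 ∣ q ^ 2 + 1 := by
    rw [h1] at ha ⊢
    rw [h1] at h2
    exact h2.dvd_of_dvd_mul_left ha
  have hord := Cfsg.Agent.H169.ExcOrd.E8_five_four (F := F) hq.symm ha1 h5 ha ha'
  rw [hq] at h5 ha2 hord
  exact pairN_of_ord h5 ha2 hord ht ht7

end Cfsg.Agent.H574.ExcE8Five
end

private theorem dce_8cc4b176f479 : _root_.True := by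
  try have : _root_.True := by simp only [_root_.Cfsg.Agent.H169.ExcOrd.P.eq_1]
  exact _root_.True.intro
end

-- part: H556/HallRowAbs
section
prune_inst 0x4f0507944498000000000001240001e66d2000190000b880048e008040588ec4200020e608c800402080a800c00340000031000300200000000000400011d01a098881606f0c9a00cc60007000000400000000000000000000000000000000004000000000
set_option linter.all false
open scoped Cfsg.Agent.FastGrp

-- part: H556/HallSmallCen
section
/-!
# `t`-elements centralise `r`-subgroups if `dim [V, L] < t` (helper556)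
-/

set_option autoImplicit false

namespace Cfsg.Agent.H556.HallSmallCen

open Module Cfsg.Agent.H167.OP Cfsg.Agent.H170.HL

variable {F : Type*} [Field F] {V : Type*} [AddCommGroup V] [Module F V] {K : Type*} [Group K]

theorem CV_inv (ρ : Representation F K V) {L : Subgroup K} {g : K} (hg : g ∈ L) {w : V}
    (hw : w ∈ CV ρ L) : ρ g w ∈ CV ρ L := by
  have h1 : ρ g w = w + (ρ g w - w) := by abel
  rw [h1]
  exact (CV ρ L).add_mem hw (sub_mem_CV ρ hg w)

/-- the action on `[V, L]` -/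
noncomputable def res (ρ : Representation F K V) (L : Subgroup K) : L →* Module.End F (CV ρ L) where
  toFun g := (ρ g).restrict (fun _ hw => CV_inv ρ g.2 hw)
  map_one' := by
    ext w
    simp [LinearMap.restrict_apply]
  map_mul' a b := by
    ext w
    simp [LinearMap.restrict_apply]

/-- an element of order prime to the characteristic which is trivial on `[V, L]` is trivial -/
theorem eq_one_of_res (ρ : Representation F K V) {L : Subgroup K} {g : K} (hg : g ∈ L) {n : ℕ}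
    (hn : g ^ n = 1) (hnF : (n : F) ≠ 0) (h : ∀ w ∈ CV ρ L, ρ g w = w) : ρ g = 1 := by
  have h1 : ∀ (v : V) (i : ℕ), ρ (g ^ i) v = v + (i : F) • (ρ g v - v) := by
    intro v i
    induction i with
    | zero => simp
    | succ i ih =>
      rw [pow_succ', mul_ap, ih, map_add, map_smul, h _ (sub_mem_CV ρ hg v), Nat.cast_succ, add_smul,
        one_smul]
      abel
  ext v
  have h2 := h1 v n
  rw [hn, one_ap, left_eq_add, smul_eq_zero, sub_eq_zero] at h2
  exact h2.resolve_left hnF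

/-- the representation by matrices of `L` on `[V, L]` -/
noncomputable def resGL (ρ : Representation F K V) (L : Subgroup K) {d : ℕ}
    (b : Basis (Fin d) F (CV ρ L)) : L →* Matrix.GeneralLinearGroup (Fin d) F :=
  ((((LinearMap.toMatrixAlgEquiv b) : Module.End F (CV ρ L) ≃ₐ[F] Matrix (Fin d) (Fin d) F) :
    Module.End F (CV ρ L) →* Matrix (Fin d) (Fin d) F).comp (res ρ L)).toHomUnits

theorem resGL_eq_one (ρ : Representation F K V) (L : Subgroup K) {d : ℕ}
    (b : Basis (Fin d) F (CV ρ L)) {g : L} (h : resGL ρ L b g = 1) : ∀ w ∈ CV ρ L, ρ g w = w := by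
  intro w hw
  have h1 : (LinearMap.toMatrixAlgEquiv b) (res ρ L g) = 1 := congrArg Units.val h
  have h2 : res ρ L g = 1 := (LinearMap.toMatrixAlgEquiv b).injective (by rw [h1, map_one])
  have h3 := congrArg (fun A : Module.End F (CV ρ L) => ((A ⟨w, hw⟩ : CV ρ L) : V)) h2
  exact h3

/-- **`dim [V, L] < t`**: `t`-elements centralise the `r`-subgroups which they normalise. -/
theorem small_cen [Finite K] [FiniteDimensional F V] (ρ : Representation F K V)
    (hρ : Function.Injective ρ) {t r : ℕ} (ht : t.Prime) (hr : r.Prime) (hr2 : r ≠ 2) (hrt : r ≠ t)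
    (hrF : (r : F) ≠ 0) (L : Subgroup K) (hb : finrank F (CV ρ L) < t) {y : K} (hyL : y ∈ L)
    (hy : ∃ k : ℕ, y ^ t ^ k = 1) {R : Subgroup K} (hRL : R ≤ L)
    (hR : ∀ d ∈ R, ∃ k : ℕ, d ^ r ^ k = 1) (hn : Nrm y R) : Cen y R := by
  classical
  -- induction on the order of `y`
  obtain ⟨k, hk⟩ := hy
  induction k generalizing y with
  | zero =>
    rw [pow_zero, pow_one] at hk
    intro d _
    rw [hk, one_mul, mul_one]
  | succ k ih =>
    have h1 : Cen (y ^ t) R := by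
      refine ih (L.pow_mem hyL t) ?_ ?_
      · have h2 := nrm_pow hn t
        exact h2
      · rw [← pow_mul, ← pow_succ']
        exact hk
    let Q : Subgroup L := R.subgroupOf L
    have hQp : IsPGroup r Q := by
      rintro ⟨⟨x, hx⟩, hxR⟩
      obtain ⟨j, hj⟩ := hR x hxR
      exact ⟨j, Subtype.ext (Subtype.ext hj)⟩
    have hinj : ∀ x ∈ Q, resGL ρ L (finBasis F (CV ρ L)) x = 1 → x = 1 := by
      intro x hx h
      obtain ⟨j, hj⟩ := hR x hx
      have h2 := eq_one_of_res ρ x.2 hj (by rw [Nat.cast_pow]; exact pow_ne_zero _ hrF)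
        (resGL_eq_one ρ L _ h)
      exact Subtype.ext (hρ (by rw [h2, Subgroup.coe_one, map_one]))
    have hxn : (⟨y, hyL⟩ : L) ∈ Subgroup.normalizer (Q : Set L) := by
      have hfin : Finite L := inferInstance
      have h3 : ∀ x ∈ Q, (⟨y, hyL⟩ : L) * x * (⟨y, hyL⟩ : L)⁻¹ ∈ Q := fun x hx => hn x hx
      rw [Subgroup.mem_normalizer_iff]
      intro x
      refine ⟨h3 x, fun hx => ?_⟩
      -- powers
      have hpow : ∀ (j : ℕ) (x : L), x ∈ Q → (⟨y, hyL⟩ : L) ^ j * x * ((⟨y, hyL⟩ : L) ^ j)⁻¹ ∈ Q := by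
        intro j
        induction j with
        | zero => intro x hx; simpa using hx
        | succ j ih =>
          intro x hx
          have h4 := h3 _ (ih x hx)
          convert h4 using 1
          rw [pow_succ']
          group
      obtain ⟨m, hm0, hm⟩ : ∃ m : ℕ, 0 < m ∧ (⟨y, hyL⟩ : L) ^ m = 1 :=
        ⟨orderOf _, orderOf_pos _, pow_orderOf_eq_one _⟩
      have h4 := hpow (m - 1) _ hx
      have h5 : (⟨y, hyL⟩ : L) ^ (m - 1) = (⟨y, hyL⟩ : L)⁻¹ := by
        rw [eq_inv_iff_mul_eq_one, ← pow_succ, Nat.sub_add_cancel hm0, hm]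
      rw [h5] at h4
      convert h4 using 1
      group
    have hxl : ∀ x ∈ Q, (⟨y, hyL⟩ : L) ^ t * x = x * (⟨y, hyL⟩ : L) ^ t := by
      intro x hx
      exact Subtype.ext (h1 x hx)
    have h5 := Cfsg.Agent.H568.linP (resGL ρ L (finBasis F (CV ρ L))) hr hr2 ht hrt.symm hrF Q hQp
      hinj ⟨y, hyL⟩ hxn hxl (by rw [Fintype.card_fin]; exact hb)
    intro d hd
    exact congrArg Subtype.val (h5 ⟨d, hRL hd⟩ hd)

end Cfsg.Agent.H556.HallSmallCen
end

-- part: H556/HallRowAbs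
section
/-!
# The abstract case analysis for `SL` and `SU` (helper556)
-/

set_option autoImplicit false

namespace Cfsg.Agent.H556.HallRowAbs

open Module Cfsg.Agent.H167.OP Cfsg.Agent.H170.HL Cfsg.Agent.H556.HallSmallCen

variable {F : Type*} [Field F] {V : Type*} [AddCommGroup V] [Module F V] {K : Type*} [Group K]
  {G : Type*} [Group G]

/-- the pair generated by two conjugates of `z` -/
theorem isPGroup_pair_of_cen [Finite K] {t : ℕ} (ht : t.Prime) (z g : K) (hz : z ^ t = 1) (f : K →* G)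
    (hker : ∀ k, f k = 1 → ∀ x, k * x = x * k)
    (hsol : Group.IsSolvable ((Subgroup.closure {z, g * z * g⁻¹}).map f))
    (hcen : ∀ r : ℕ, r.Prime → r ≠ t → r ∣ Nat.card ((Subgroup.closure {z, g * z * g⁻¹}).map f) →
      ∀ y ∈ Subgroup.closure {z, g * z * g⁻¹}, (∃ k : ℕ, y ^ t ^ k = 1) →
      ∀ R : Subgroup K, R ≤ Subgroup.closure {z, g * z * g⁻¹} → (∀ d ∈ R, ∃ k : ℕ, d ^ r ^ k = 1) →
      Nrm y R → Cen y R) : IsPGroup t ((Subgroup.closure {z, g * z * g⁻¹}).map f) := by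
  classical
  have htf : Fact t.Prime := ⟨ht⟩
  set L : Subgroup K := Subgroup.closure {z, g * z * g⁻¹} with hL
  have hC : CenH t L := by
    intro y hy r hrp hrt R hR hn
    by_cases hd : r ∣ Nat.card (L.map f)
    · have h1 := hcen r hrp hrt hd (y : K) y.2 (by
        obtain ⟨k, hk⟩ := hy
        exact ⟨k, congrArg Subtype.val hk⟩) (R.map L.subtype) (Subgroup.map_subtype_le _) (by
        rintro _ ⟨x, hx, rfl⟩
        obtain ⟨k, hk⟩ := hR ⟨x, hx⟩
        exact ⟨k, congrArg (fun z : R => ((z : L) : K)) hk⟩) (by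
        rintro _ ⟨x, hx, rfl⟩
        exact ⟨_, hn x hx, rfl⟩)
      intro d hd
      exact Subtype.ext (h1 d ⟨d, hd, rfl⟩)
    · intro d hdR
      have hfd : f (d : K) = 1 := by
        obtain ⟨k, hk⟩ := hR ⟨d, hdR⟩
        have h1 : (d : K) ^ r ^ k = 1 := congrArg (fun z : R => ((z : L) : K)) hk
        have h2 : f (d : K) ^ r ^ k = 1 := by rw [← map_pow, h1, map_one]
        have h3 : orderOf (f (d : K)) ∣ r ^ k := orderOf_dvd_of_pow_eq_one h2
        have h4 : orderOf (f (d : K)) ∣ Nat.card (L.map f) :=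
          Subgroup.orderOf_dvd_natCard _ ⟨d, d.2, rfl⟩
        have h5 : Nat.Coprime (r ^ k) (Nat.card (L.map f)) :=
          Nat.Coprime.pow_left _ ((Nat.Prime.coprime_iff_not_dvd hrp).mpr hd)
        have h6 : orderOf (f (d : K)) ∣ 1 := by
          rw [← h5]
          exact Nat.dvd_gcd h3 h4
        exact orderOf_eq_one_iff.mp (Nat.dvd_one.mp h6)
      exact Subtype.ext (hker _ hfd _).symm
  have hsolL : Group.IsSolvable L := by
    let φ : L →* L.map f := (f.comp L.subtype).codRestrict (L.map f) (fun x => ⟨x, x.2, rfl⟩)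
    have h1 : φ.ker ≤ Subgroup.center L := by
      intro x hx
      rw [Subgroup.mem_center_iff]
      intro w
      have h2 : f (x : K) = 1 := congrArg Subtype.val (MonoidHom.mem_ker.mp hx)
      exact Subtype.ext (hker _ h2 _).symm
    have h2 : Group.IsSolvable φ.ker := by
      have : ∀ a b : φ.ker, a * b = b * a := by
        intro a b
        have := Subgroup.mem_center_iff.mp (h1 a.2) b
        exact Subtype.ext this.symm
      exact Group.isSolvable_of_comm this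
    exact Group.isSolvable_of_ker_le_range (G' := φ.ker) φ.ker.subtype φ (by rw [Subgroup.range_subtype])
  have hgen : Subgroup.closure {x : L | ∃ k : ℕ, x ^ t ^ k = 1} = ⊤ := by
    rw [eq_top_iff, ← Subgroup.closure_closure_coe_preimage (k := ({z, g * z * g⁻¹} : Set K))]
    apply Subgroup.closure_mono
    rintro ⟨x, hx⟩ hxm
    refine ⟨1, Subtype.ext ?_⟩
    rw [pow_one]
    show x ^ t = 1
    rcases hxm with h | h
    · have h' : x = z := h
      rw [h', hz]
    · have h' : x = g * z * g⁻¹ := h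
      rw [h', conj_pow, hz, mul_one, mul_inv_cancel]
  exact (isPGroup_of_cenH hsolL hC hgen).map f

/-- the data of a linear or unitary group -/
structure RowDat [Finite K] (ρ : Representation F K V) (e : ℕ → ℕ) : Prop where
  inj : Function.Injective ρ
  lb : ∀ r : ℕ, r.Prime → Odd r → (r : F) ≠ 0 → ∀ D E : Subgroup K, E ≤ D →
    (∀ a ∈ D, ∀ b ∈ D, a * b = b * a) → (∀ a ∈ D, a ^ r = 1) → VE ρ E D ≠ ⊥ →
    e r ≤ finrank F (VE ρ E D)
  epos : ∀ r : ℕ, r.Prime → (r : F) ≠ 0 → 0 < e r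
  edvd : ∀ r : ℕ, r.Prime → (r : F) ≠ 0 → e r ∣ r - 1

/-- the primes below `t` -/
theorem cen_below [Finite K] [FiniteDimensional F V] {ρ : Representation F K V} {e : ℕ → ℕ}
    (h : RowDat ρ e) {t r : ℕ} (ht : t.Prime) (hr : r.Prime) (hr2 : Odd r) (hrt : r < t)
    (hrF : (r : F) ≠ 0) (he : 2 ≤ e r) (hbeta : BetaP ρ t) (L : Subgroup K)
    (hb : finrank F (CV ρ L) ≤ 2 * (t - 1)) {y : K}
    (hy : ∃ k : ℕ, y ^ t ^ k = 1) {R : Subgroup K} (hRL : R ≤ L)
    (hR : ∀ d ∈ R, ∃ k : ℕ, d ^ r ^ k = 1) (hn : Nrm y R) : Cen y R := by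
  classical
  by_contra hc
  obtain ⟨D, hDR, hD⟩ := exists_minD hr ht hrt.ne hR hy hn hc
  have hDL : D ≤ L := hDR.trans hRL
  have hDb : finrank F (CV ρ D) ≤ 2 * (t - 1) := (Submodule.finrank_mono (CV_mono ρ hDL)).trans hb
  have ht2 := ht.two_le
  by_cases hab : ∀ a ∈ D, ∀ b ∈ D, a * b = b * a
  · have hne : ∃ d ∈ D, ρ d ≠ 1 := by
      by_contra hcon
      push Not at hcon
      apply hD.ncen
      intro d hd
      have : d = 1 := h.inj (by rw [hcon d hd, map_one])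
      rw [this, mul_one, one_mul]
    obtain ⟨E, hE, hED, hV, hle⟩ := alpha2 ρ hD hrt hrF hab hne
    have h2 := h.lb r hr hr2 hrF D E hE.1 hab (fun a ha => hD.pow_eq_one hab ha) hV
    have h3 : t * 2 ≤ t * finrank F (VE ρ E D) := Nat.mul_le_mul_left t (he.trans h2)
    omega
  · push Not at hab
    have := hbeta r y D hr2 hD hrF hab
    omega

/-- a `3`-element acts trivially on a group of order `5` -/
theorem comm_five {y x : K} (hx : x ^ 5 = 1) (hy : ∃ k : ℕ, y ^ 3 ^ k = 1) {j : ℕ}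
    (h : y * x * y⁻¹ = x ^ j) : y * x = x * y := by
  have : Fact (Nat.Prime 5) := ⟨by norm_num⟩
  by_cases hx1 : x = 1
  · rw [hx1, mul_one, one_mul]
  obtain ⟨k, hk⟩ := hy
  have ho : orderOf x = 5 := orderOf_eq_prime hx hx1
  have h1 : ∀ n : ℕ, y ^ n * x * (y ^ n)⁻¹ = x ^ j ^ n := by
    intro n
    induction n with
    | zero => simp
    | succ n ih =>
      have h2 : y ^ (n + 1) * x * (y ^ (n + 1))⁻¹ = y * (y ^ n * x * (y ^ n)⁻¹) * y⁻¹ := by
        rw [pow_succ']; group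
      rw [h2, ih, ← conj_pow, h, ← pow_mul, pow_succ']
  have h2 := h1 (3 ^ k)
  rw [hk, one_mul, inv_one, mul_one] at h2
  have h3 : x ^ 1 = x ^ j ^ 3 ^ k := by rw [pow_one]; exact h2
  rw [pow_inj_mod, ho] at h3
  have h4 : ((j : ZMod 5)) ^ 3 ^ k = 1 := by
    have : (((j ^ 3 ^ k : ℕ)) : ZMod 5) = ((1 : ℕ) : ZMod 5) := by
      rw [ZMod.natCast_eq_natCast_iff']
      exact h3.symm
    push_cast at this
    exact this
  have h5 : (j : ZMod 5) = 1 := by
    have h6 : orderOf (j : ZMod 5) ∣ 3 ^ k := orderOf_dvd_of_pow_eq_one h4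
    have h7 : orderOf (j : ZMod 5) ∣ 4 := by
      apply orderOf_dvd_of_pow_eq_one
      have h8 : (j : ZMod 5) ≠ 0 := by
        intro h0
        rw [h0, zero_pow (by positivity)] at h4
        exact absurd h4 zero_ne_one
      exact ZMod.pow_card_sub_one_eq_one h8
    have h8 : orderOf (j : ZMod 5) ∣ 1 := by
      have h9 : Nat.Coprime (3 ^ k) 4 := Nat.Coprime.pow_left _ (by norm_num)
      rw [← h9]
      exact Nat.dvd_gcd h6 h7
    exact orderOf_eq_one_iff.mp (Nat.dvd_one.mp h8)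
  have h6 : x ^ j = x ^ 1 := by
    rw [pow_inj_mod, ho]
    have : ((j : ℕ) : ZMod 5) = ((1 : ℕ) : ZMod 5) := by push_cast; exact h5
    rw [ZMod.natCast_eq_natCast_iff'] at this
    exact this
  rw [h6, pow_one] at h
  exact mul_inv_eq_iff_eq_mul.mp h

/-- the case `t = 3` -/
theorem cen_three [Finite K] [FiniteDimensional F V] {ρ : Representation F K V} {e : ℕ → ℕ}
    (h : RowDat ρ e) {r : ℕ} (hr : r.Prime) (h5 : 5 ≤ r) (hrF : (r : F) ≠ 0) (he : e r = r - 1)
    (hbeta : BetaP ρ 3) (L : Subgroup K) (hb : finrank F (CV ρ L) ≤ 4) {y : K}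
    (hy : ∃ k : ℕ, y ^ 3 ^ k = 1) {R : Subgroup K} (hRL : R ≤ L)
    (hR : ∀ d ∈ R, ∃ k : ℕ, d ^ r ^ k = 1) (hn : Nrm y R) : Cen y R := by
  classical
  by_contra hc
  have hodd : Odd r := hr.odd_of_ne_two (by omega)
  obtain ⟨D, hDR, hD⟩ := exists_minD hr Nat.prime_three (by omega) hR hy hn hc
  have hDL : D ≤ L := hDR.trans hRL
  have hDb : finrank F (CV ρ D) ≤ 4 := (Submodule.finrank_mono (CV_mono ρ hDL)).trans hb
  by_cases hab : ∀ a ∈ D, ∀ b ∈ D, a * b = b * a
  · have hne : ∃ d ∈ D, ρ d ≠ 1 := by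
      by_contra hcon
      push Not at hcon
      apply hD.ncen
      intro d hd
      have : d = 1 := h.inj (by rw [hcon d hd, map_one])
      rw [this, mul_one, one_mul]
    have hcD := card_ne_zero_of_MinD hD hrF (le_refl D)
    have hexp : ∀ a ∈ D, a ^ r = 1 := fun a ha => hD.pow_eq_one hab ha
    obtain ⟨E, hE, hED, hV⟩ := exists_VE ρ hD.hs hrF hcD hab hexp hne
    have h1 := h.lb r hr hodd hrF D E hE.1 hab hexp hV
    have h2 : VE ρ E D ≤ CV ρ D := VE_le_CV ρ hcD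
    have h3 := Submodule.finrank_mono h2
    have hr5 : r = 5 := by
      rw [he] at h1
      omega
    subst hr5
    have h4 : VE ρ E D = CV ρ D := by
      apply Submodule.eq_of_le_of_finrank_eq h2
      omega
    have hE1 : ∀ x ∈ E, x = 1 := by
      intro x hx
      apply h.inj
      rw [map_one]
      refine eq_one_of_res ρ (hE.1 hx) (hexp x (hE.1 hx)) hrF ?_
      intro w hw
      rw [← h4] at hw
      exact hw.1 x hx
    obtain ⟨x, hx, hxE⟩ : ∃ x ∈ D, x ∉ E := by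
      by_contra hcon
      push Not at hcon
      exact hED (le_antisymm hE.1 hcon)
    have hDx : D ≤ Subgroup.zpowers x := by
      refine (hE.2 x hx hxE).trans ?_
      rw [sup_le_iff]
      refine ⟨fun w hw => ?_, le_refl _⟩
      rw [hE1 w hw]
      exact Subgroup.one_mem _
    have h6 : y * x * y⁻¹ ∈ Subgroup.zpowers x := hDx (hD.nrm x hx)
    have hfo : IsOfFinOrder x := isOfFinOrder_of_finite x
    rw [hfo.mem_zpowers_iff_mem_range_orderOf, Finset.mem_image] at h6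
    obtain ⟨j, -, hj⟩ := h6
    have h7 := comm_five (hexp x hx) hy hj.symm
    apply hD.ncen
    intro d hd
    obtain ⟨i, rfl⟩ := Subgroup.mem_zpowers_iff.mp (hDx hd)
    have h8 : Commute y x := h7
    exact h8.zpow_right i
  · push Not at hab
    have := hbeta r y D hodd hD hrF hab
    omega

/-- the noncentral elements of small rank -/
theorem exists_pz_abs [Finite K] [Finite G] [FiniteDimensional F V] {ρ : Representation F K V}
    {e : ℕ → ℕ} (h : RowDat ρ e) (φ : K →* G) (hφ : Function.Surjective φ)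
    (hker : ∀ k, φ k = 1 → ∀ x, k * x = x * k)
    (hbeta : ∀ t : ℕ, t.Prime → Odd t → (t : F) ≠ 0 → BetaP ρ t)
    (π : Set ℕ) (h2 : 2 ∉ π) (hp : ∀ r ∈ π, r.Prime → (r : F) ≠ 0)
    (hsm : ∀ t : ℕ, t.Prime → Odd t → (t : F) ≠ 0 → t ∣ Nat.card G →
      ∃ z : K, φ z ≠ 1 ∧ z ^ t = 1 ∧ rk ρ z ≤ max 2 (e t))
    (hne : ∃ r ∈ π, r.Prime ∧ r ∣ Nat.card G) :
    ∃ t ∈ π, t.Prime ∧ t ∣ Nat.card G ∧ ∃ z : G, z ≠ 1 ∧ z ^ t = 1 ∧ PZ t π z := by
  classical
  have hodd : ∀ r ∈ π, r.Prime → Odd r := by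
    intro r hr hrp
    rcases hrp.eq_two_or_odd' with h | h
    · exact absurd (h ▸ hr) h2
    · exact h
  have h3 : ∀ r ∈ π, r.Prime → 3 ≤ r := by
    intro r hr hrp
    have h4 := hrp.two_le
    have h5 : r ≠ 2 := fun h6 => h2 (h6 ▸ hr)
    omega
  have h5 : ∀ r ∈ π, r.Prime → r ≠ 3 → 5 ≤ r := by
    intro r hr hrp h4
    have h5 := h3 r hr hrp
    have h6 : r ≠ 4 := by
      rintro rfl
      exact absurd hrp (by norm_num)
    omega
  -- the reduction to a choice of `t`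
  suffices hsuff : ∃ t ∈ π, t.Prime ∧ t ∣ Nat.card G ∧ ∀ z g : K, z ^ t = 1 → rk ρ z ≤ max 2 (e t) →
      ∀ r ∈ π, r.Prime → r ≠ t → r ∣ Nat.card G → ∀ y ∈ Subgroup.closure {z, g * z * g⁻¹},
      (∃ k : ℕ, y ^ t ^ k = 1) →
      ∀ R : Subgroup K, R ≤ Subgroup.closure {z, g * z * g⁻¹} → (∀ d ∈ R, ∃ k : ℕ, d ^ r ^ k = 1) →
      Nrm y R → Cen y R by
    obtain ⟨t, htπ, ht, htd, hc⟩ := hsuff
    obtain ⟨z, hz1, hzt, hzr⟩ := hsm t ht (hodd t htπ ht) (hp t htπ ht) htd
    refine ⟨t, htπ, ht, htd, φ z, hz1, by rw [← map_pow, hzt, map_one], ?_⟩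
    intro g hsol hpi
    obtain ⟨g, rfl⟩ := hφ g
    have hmap : (Subgroup.closure {z, g * z * g⁻¹}).map φ =
        Subgroup.closure {φ z, φ g * φ z * (φ g)⁻¹} := by
      rw [MonoidHom.map_closure, Set.image_pair, map_mul, map_mul, map_inv]
    rw [← hmap] at hsol hpi ⊢
    refine isPGroup_pair_of_cen ht z g hzt φ hker hsol ?_
    intro r hr hrt hrd
    exact hc z g hzt hzr r (hpi r hr hrd) hr hrt (hrd.trans (Subgroup.card_subgroup_dvd_card _))
  have hdim : ∀ (t : ℕ) (z g : K), rk ρ z ≤ max 2 (e t) →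
      finrank F (CV ρ (Subgroup.closure {z, g * z * g⁻¹})) ≤ 2 * max 2 (e t) := by
    intro t z g hz
    refine (finrank_CV_pair ρ g z).trans ?_
    omega
  by_cases hA : ∃ t ∈ π, t.Prime ∧ t ∣ Nat.card G ∧ 5 ≤ t ∧ e t ≠ t - 1
  · obtain ⟨t, htπ, ht, htd, ht5, het⟩ := hA
    refine ⟨t, htπ, ht, htd, ?_⟩
    intro z g _ hzr r hrπ hr hrt _ y hyL hy R hRL hR hn
    refine small_cen ρ h.inj ht hr (fun h6 => h2 (h6 ▸ hrπ)) hrt (hp r hrπ hr) _ ?_ hyL hy hRL hR hn
    refine (hdim t z g hzr).trans_lt ?_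
    have h6 := h.epos t ht (hp t htπ ht)
    obtain ⟨m, hm⟩ := h.edvd t ht (hp t htπ ht)
    have h7 : m ≠ 1 := by
      rintro rfl
      rw [mul_one] at hm
      exact het hm.symm
    have h8 : m ≠ 0 := by
      rintro rfl
      rw [mul_zero] at hm
      omega
    have h9 : 2 ≤ m := by omega
    have h10 : e t * 2 ≤ e t * m := Nat.mul_le_mul_left _ h9
    rcases le_total 2 (e t) with h11 | h11
    · rw [max_eq_right h11]; omega
    · rw [max_eq_left h11]; omega
  · push Not at hA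
    by_cases hC : 3 ∈ π ∧ 3 ∣ Nat.card G ∧ e 3 = 1
    · obtain ⟨h3π, h3d, he3⟩ := hC
      refine ⟨3, h3π, Nat.prime_three, h3d, ?_⟩
      intro z g _ hzr r hrπ hr hrt hrd y hyL hy R hRL hR hn
      have hr5 := h5 r hrπ hr hrt
      refine cen_three h hr hr5 (hp r hrπ hr) (hA r hrπ hr hrd hr5)
        (hbeta 3 Nat.prime_three (by decide) (hp 3 h3π Nat.prime_three)) _ ?_ hy hRL hR hn
      refine (hdim 3 z g hzr).trans ?_
      rw [he3]
      norm_num
    · obtain ⟨t, htπ, ht, htd, hmax⟩ := exists_max_prime (G := G) π hne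
      refine ⟨t, htπ, ht, htd, ?_⟩
      have he3 : 3 ∈ π → 3 ∣ Nat.card G → e 3 = 2 := by
        intro h3π h3d
        have h6 := h.epos 3 Nat.prime_three (hp 3 h3π Nat.prime_three)
        have h7 := h.edvd 3 Nat.prime_three (hp 3 h3π Nat.prime_three)
        have h8 : e 3 ≤ 2 := Nat.le_of_dvd (by norm_num) h7
        have h9 : e 3 ≠ 1 := fun h10 => hC ⟨h3π, h3d, h10⟩
        omega
      have hmt : max 2 (e t) = t - 1 := by
        by_cases ht3 : t = 3
        · subst ht3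
          rw [he3 htπ htd]
          rfl
        · have ht5 := h5 t htπ ht ht3
          rw [hA t htπ ht htd ht5]
          exact max_eq_right (by omega)
      intro z g _ hzr r hrπ hr hrt hrd y hyL hy R hRL hR hn
      have hlt : r < t := lt_of_le_of_ne (hmax r hrπ hr hrd) hrt
      refine cen_below h ht hr (hodd r hrπ hr) hlt (hp r hrπ hr) ?_
        (hbeta t ht (hodd t htπ ht) (hp t htπ ht)) _ ?_ hy hRL hR hn
      · by_cases hr3 : r = 3
        · subst hr3
          rw [he3 hrπ hrd]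
        · have hr5 := h5 r hrπ hr hr3
          rw [hA r hrπ hr hrd hr5]
          omega
      · rw [← hmt]
        exact hdim t z g hzr

end Cfsg.Agent.H556.HallRowAbs
end
end

-- part: H556/HallSURow
section
prune_inst 0x4f1507d043de200000018051050001e62b2000000004b880020e003060f814c42a0420e21ba701516129880cc4034006003000020422000000a000400011d018018800604f0c9a108c20006000080400000000000000000000000000000000004000000000
set_option linter.all false
open scoped Cfsg.Agent.FastGrp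

-- part: H556/HallSLRow
section
/-!
# `P(z)` for `PSL` in cross characteristic (helper556)
-/

set_option autoImplicit false

namespace Cfsg.Agent.H556.HallSLRow

open Module Matrix Cfsg.Agent.H167.OP Cfsg.Agent.H170.HL Cfsg.Agent.H556.HallRowAbs

variable {F : Type*} [Field F] {V : Type*} [AddCommGroup V] [Module F V] {K : Type*} [Group K]

theorem not_dvd_card [Fintype F] {r : ℕ} (hr : r.Prime) (hrF : (r : F) ≠ 0) :
    ¬ r ∣ Fintype.card F := by
  intro h
  obtain ⟨n, hp, hn⟩ := FiniteField.card F (ringChar F)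
  rw [hn] at h
  have h1 := (Nat.prime_dvd_prime_iff_eq hr hp).1 (hr.dvd_of_dvd_pow h)
  apply hrF
  rw [h1]
  exact ringChar.Nat.cast_ringChar

/-- some element of `D` acts nontrivially on `V_E` -/
theorem exists_act [Finite K] (ρ : Representation F K V) {D E : Subgroup K}
    (hD : (Nat.card D : F) ≠ 0) (hV : VE ρ E D ≠ ⊥) : ∃ d ∈ D, ∃ w ∈ VE ρ E D, ρ d w ≠ w := by
  by_contra hcon
  push Not at hcon
  apply hV
  rw [eq_bot_iff]
  intro w hw
  have h1 : avg ρ D w = w := avg_fixed ρ D hD fun d hd => hcon d hd w hw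
  rw [Submodule.mem_bot, ← h1]
  exact hw.2

theorem card_ne_zero_of_exp [Finite K] {r : ℕ} (hr : r.Prime) (hrF : (r : F) ≠ 0) {D : Subgroup K}
    (hexp : ∀ a ∈ D, a ^ r = 1) : (Nat.card D : F) ≠ 0 := by
  have hrf : Fact r.Prime := ⟨hr⟩
  have h1 : IsPGroup r D := fun x => ⟨1, Subtype.ext (by simpa using hexp x x.2)⟩
  obtain ⟨n, hn⟩ := IsPGroup.iff_card.mp h1
  rw [hn, Nat.cast_pow]
  exact pow_ne_zero _ hrF

/-- the lower bound in linear groups -/
theorem lb_VE [Fintype F] [FiniteDimensional F V] [Finite K] (ρ : Representation F K V) {r : ℕ}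
    (hr : r.Prime) (hrF : (r : F) ≠ 0) {D E : Subgroup K} (hED : E ≤ D)
    (hab : ∀ a ∈ D, ∀ b ∈ D, a * b = b * a) (hexp : ∀ a ∈ D, a ^ r = 1) (hV : VE ρ E D ≠ ⊥) :
    orderOf (Fintype.card F : ZMod r) ≤ finrank F (VE ρ E D) := by
  obtain ⟨d, hd, w, hw, hdw⟩ := exists_act ρ (card_ne_zero_of_exp hr hrF hexp) hV
  let A : VE ρ E D →ₗ[F] VE ρ E D := (ρ d).restrict fun u hu => VE_inv ρ hED hab hd hu
  have hA : ∀ (i : ℕ) (u : VE ρ E D), (((A ^ i) u : VE ρ E D) : V) = ρ (d ^ i) u := by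
    intro i
    induction i with
    | zero => intro u; rw [pow_zero, pow_zero, one_ap, Module.End.one_apply]
    | succ i ih =>
      intro u
      rw [pow_succ', Module.End.mul_apply, pow_succ', mul_ap, ← ih]
      rfl
  have h1 : A ^ r = 1 := by
    ext u
    rw [hA, hexp d hd, one_ap, Module.End.one_apply]
  have h2 : A ≠ 1 := by
    intro h
    apply hdw
    have h3 := hA 1 ⟨w, hw⟩
    rw [pow_one, pow_one, h] at h3
    exact h3.symm
  exact (HallLB.lb_lin hr (not_dvd_card hr hrF) h1 h2).trans (Submodule.finrank_le _)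

variable {n : ℕ}

/-- the inclusion of `SL_n` -/
def inc (n : ℕ) (F : Type*) [Field F] : SpecialLinearGroup (Fin n) F →* Matrix (Fin n) (Fin n) F where
  toFun A := A.1
  map_one' := rfl
  map_mul' _ _ := rfl

theorem inc_injective : Function.Injective (inc n F) := Subtype.val_injective

/-- scalars of small rank -/
theorem eq_one_of_scalar {t : ℕ} (hn : 0 < n) (ht : t.Prime) {c : F} (hcn : c ^ n = 1)
    (hct : c ^ t = 1) (A : Module.End F (Fin n → F)) (hA : ∀ v, A v = c • v)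
    (hr : finrank F (LinearMap.range (A - 1)) ≤ t - 1) : c = 1 := by
  by_contra hc
  have h1 : LinearMap.range (A - 1) = ⊤ := by
    rw [eq_top_iff]
    rintro v -
    have h2 : c - 1 ≠ 0 := sub_ne_zero.mpr hc
    refine ⟨(c - 1)⁻¹ • v, ?_⟩
    have h4 : c • (c - 1)⁻¹ • v - (c - 1)⁻¹ • v = (c - 1) • (c - 1)⁻¹ • v := by
      rw [sub_smul, one_smul]
    rw [LinearMap.sub_apply, Module.End.one_apply, hA, h4, smul_smul, mul_inv_cancel₀ h2, one_smul]
  rw [h1, finrank_top, Module.finrank_fin_fun] at hr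
  have ht2 := ht.two_le
  have h2 : Nat.Coprime n t := by
    rw [Nat.coprime_comm, ht.coprime_iff_not_dvd]
    intro h
    have := Nat.le_of_dvd hn h
    omega
  apply hc
  have h3 : orderOf c ∣ 1 := by
    rw [← h2]
    exact Nat.dvd_gcd (orderOf_dvd_of_pow_eq_one hcn) (orderOf_dvd_of_pow_eq_one hct)
  exact orderOf_eq_one_iff.mp (Nat.dvd_one.mp h3)

theorem rowDat [Fintype F] (n : ℕ) :
    RowDat (rep (inc n F)) fun r => orderOf (Fintype.card F : ZMod r) where
  inj := rep_injective inc_injective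
  lb r hr _ hrF D E hED hab hexp hV := lb_VE _ hr hrF hED hab hexp hV
  epos r hr hrF := HallOrd.order_pos hr (by
    rw [Ne, ZMod.natCast_eq_zero_iff]; exact not_dvd_card hr hrF)
  edvd r hr hrF := HallOrd.order_dvd hr (by
    rw [Ne, ZMod.natCast_eq_zero_iff]; exact not_dvd_card hr hrF)

/-- **`P(z)` for `PSL`** -/
theorem exists_pz [Fintype F] {n : ℕ} (hn : 2 ≤ n) {G : Type*} [Group G] [Finite G]
    (e : G ≃* ProjectiveSpecialLinearGroup (Fin n) F)
    (hbeta : ∀ t : ℕ, t.Prime → Odd t → (t : F) ≠ 0 → BetaP (rep (inc n F)) t)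
    (π : Set ℕ) (h2 : 2 ∉ π) (hp : ∀ r ∈ π, r.Prime → (r : F) ≠ 0)
    (hne : ∃ r ∈ π, r.Prime ∧ r ∣ Nat.card G) :
    ∃ t ∈ π, t.Prime ∧ t ∣ Nat.card G ∧ ∃ z : G, z ≠ 1 ∧ z ^ t = 1 ∧ PZ t π z := by
  let φ : SpecialLinearGroup (Fin n) F →* G :=
    (e.symm : ProjectiveSpecialLinearGroup (Fin n) F →* G).comp
      (QuotientGroup.mk' (Subgroup.center (SpecialLinearGroup (Fin n) F)))
  have hφ : Function.Surjective φ :=
    e.symm.surjective.comp (QuotientGroup.mk'_surjective _)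
  have hφ1 : ∀ k, φ k = 1 ↔ k ∈ Subgroup.center (SpecialLinearGroup (Fin n) F) := by
    intro k
    rw [← QuotientGroup.eq_one_iff]
    constructor
    · intro h
      exact e.symm.injective (h.trans (map_one e.symm).symm)
    · intro h
      show e.symm (QuotientGroup.mk' _ k) = 1
      rw [QuotientGroup.mk'_apply, h, map_one]
  refine exists_pz_abs (rowDat n) φ hφ (fun k hk x => ?_) hbeta π h2 hp ?_ hne
  · exact (Subgroup.mem_center_iff.mp ((hφ1 k).mp hk) x).symm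
  · intro t ht hodd htF htd
    have h1 : Nat.card G ∣ Nat.card (SpecialLinearGroup (Fin n) F) :=
      Subgroup.card_dvd_of_surjective φ hφ
    obtain ⟨z, hz1, hz2, hz3⟩ := HallOrd.small_SL hn ht (not_dvd_card ht htF) (htd.trans h1)
    refine ⟨z, fun h => hz2 ?_, hz1, hz3⟩
    rw [hφ1, Matrix.SpecialLinearGroup.mem_center_iff] at h
    obtain ⟨c, hcn, hc⟩ := h
    rw [Fintype.card_fin] at hcn
    have hne : Nonempty (Fin n) := ⟨⟨0, by omega⟩⟩
    have hct : c ^ t = 1 := by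
      have h3 : (scalar (Fin n) c) ^ t = 1 := by
        rw [hc]
        exact congrArg Subtype.val hz1
      rwa [← map_pow, ← map_one (scalar (Fin n)), scalar_inj] at h3
    have h4 := eq_one_of_scalar (by omega) ht hcn hct (z.1.mulVecLin) (fun v => by
      rw [mulVecLin_apply, ← hc, scalar_apply, ← smul_one_eq_diagonal, smul_mulVec, one_mulVec]) (hz3.trans
        (HallOrd.mm_le ht (by rintro rfl; exact absurd hodd (by decide)) (by
          rw [Ne, ZMod.natCast_eq_zero_iff]; exact not_dvd_card ht htF)))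
    apply Subtype.ext
    rw [← hc, h4, map_one]
    rfl

end Cfsg.Agent.H556.HallSLRow
end

-- part: H556/HallSURow
section
/-!
# `P(z)` for `PSU` in cross characteristic (helper556)
-/

set_option autoImplicit false

namespace Cfsg.Agent.H556.HallSURow

open Module Matrix Cfsg Cfsg.Agent.H167.OP Cfsg.Agent.H170.HL Cfsg.Agent.H556.HallRowAbs
open Cfsg.Agent.H556.HallSLRow Cfsg.Agent.LieClassical.HermBasic

variable {F : Type*} [Field F] [Fintype F] {n q : ℕ} {K : Type*} [Group K]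

/-- the hermitian form as a sesquilinear map -/
def frm (hF : Fintype.card F = q ^ 2) (n : ℕ) :
    (Fin n → F) →ₗ[F] (Fin n → F) →ₛₗ[(conj hF : F →+* F)] F :=
  LinearMap.mk₂'ₛₗ (RingHom.id F) (conj hF : F →+* F) (hermForm n F q)
    (fun u u' v => herm_add_left u u' v) (fun c u v => herm_smul_left c u v)
    (fun u v v' => herm_add_right hF u v v') (fun c u v => herm_smul_right c u v)

/-- the lower bound in unitary groups -/
theorem lb_VE (hF : Fintype.card F = q ^ 2) [Finite K] (ρ : Representation F K (Fin n → F))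
    (hiso : ∀ g u v, hermForm n F q (ρ g u) (ρ g v) = hermForm n F q u v) {r : ℕ}
    (hr : r.Prime) (hrF : (r : F) ≠ 0) {D E : Subgroup K} (hED : E ≤ D)
    (hab : ∀ a ∈ D, ∀ b ∈ D, a * b = b * a) (hexp : ∀ a ∈ D, a ^ r = 1) (hV : VE ρ E D ≠ ⊥) :
    orderOf (-(q : ZMod r)) ≤ finrank F (VE ρ E D) := by
  have hcD := card_ne_zero_of_exp (F := F) hr hrF hexp
  have hcE := card_ne_zero_of_exp (F := F) (D := E) hr hrF (fun a ha => hexp a (hED ha))
  obtain ⟨d, hd, w, hw, hdw⟩ := exists_act ρ hcD hV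
  -- the projection
  let P : Module.End F (Fin n → F) := avg ρ E - avg ρ D
  have hPV : ∀ u, P u ∈ VE ρ E D := by
    intro u
    refine ⟨fun e he => ?_, ?_⟩
    · show ρ e (avg ρ E u - avg ρ D u) = avg ρ E u - avg ρ D u
      rw [map_sub, map_avg ρ E he, map_avg ρ D (hED he)]
    · have h4 : avg ρ D (avg ρ D u) = avg ρ D u := avg_fixed ρ D hcD (fun e he => map_avg ρ D he u)
      have h5 : avg ρ D (avg ρ E u) = avg ρ D u := by
        classical
        have : Fintype E := Fintype.ofFinite E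
        rw [avg_apply ρ E, map_smul, map_sum]
        have : ∀ e : E, avg ρ D (ρ e u) = avg ρ D u := fun e => avg_map ρ D (hED e.2) u
        rw [Finset.sum_congr rfl (fun e _ => this e), Finset.sum_const, Finset.card_univ,
          ← Nat.cast_smul_eq_nsmul F, smul_smul, ← Nat.card_eq_fintype_card,
          inv_mul_cancel₀ hcE, one_smul]
      show avg ρ D (avg ρ E u - avg ρ D u) = 0
      rw [map_sub, h5, h4, sub_self]
  have hPid : ∀ u ∈ VE ρ E D, P u = u := by
    intro u hu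
    show avg ρ E u - avg ρ D u = u
    rw [hu.2, avg_fixed ρ E hcE hu.1, sub_zero]
  have hadj : ∀ u v, hermForm n F q (P u) v = hermForm n F q u (P v) := by
    intro u v
    have h1 := avg_adj ρ (frm hF n) hiso E u v
    have h2 := avg_adj ρ (frm hF n) hiso D u v
    show frm hF n (avg ρ E u - avg ρ D u) v = frm hF n u (avg ρ E v - avg ρ D v)
    rw [map_sub, LinearMap.sub_apply, map_sub, h1, h2]
  have horth : ∀ u ∈ VE ρ E D, ∀ v, hermForm n F q u (v - P v) = 0 := by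
    intro u hu v
    rw [← hPid u hu, hadj, map_sub, hPid _ (hPV v), sub_self, herm_zero_right hF]
  have horth' : ∀ u ∈ VE ρ E D, ∀ v, hermForm n F q (v - P v) u = 0 := by
    intro u hu v
    rw [← hPid u hu, ← hadj, map_sub, hPid _ (hPV v), sub_self, herm_zero_left]
  have hVinv : ∀ u ∈ VE ρ E D, ρ d u ∈ VE ρ E D := fun u hu => VE_inv ρ hED hab hd hu
  -- the element acting on `V_E` only
  let A : Module.End F (Fin n → F) := ρ d * P + (1 - P)
  have hA : ∀ u, A u = ρ d (P u) + (u - P u) := fun u => rfl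
  have hAV : ∀ u ∈ VE ρ E D, A u = ρ d u := by
    intro u hu
    rw [hA, hPid u hu, sub_self, add_zero]
  have hA0 : ∀ u, A (u - P u) = u - P u := by
    intro u
    rw [hA, map_sub, hPid _ (hPV u), sub_self, map_zero, zero_add, sub_zero]
  have hpowV : ∀ (i : ℕ), ∀ u ∈ VE ρ E D, (A ^ i) u = ρ (d ^ i) u ∧ ρ (d ^ i) u ∈ VE ρ E D := by
    intro i
    induction i with
    | zero => intro u hu; rw [pow_zero, pow_zero, one_ap, Module.End.one_apply]; exact ⟨rfl, hu⟩
    | succ i ih =>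
      intro u hu
      obtain ⟨h1, h2⟩ := ih u hu
      rw [pow_succ', Module.End.mul_apply, pow_succ', mul_ap, h1, hAV _ h2]
      exact ⟨rfl, hVinv _ h2⟩
  have hpow0 : ∀ (i : ℕ) u, (A ^ i) (u - P u) = u - P u := by
    intro i
    induction i with
    | zero => intro u; rw [pow_zero, Module.End.one_apply]
    | succ i ih => intro u; rw [pow_succ', Module.End.mul_apply, ih, hA0]
  have h1 : A ^ r = 1 := by
    apply LinearMap.ext
    intro u
    have h2 : u = P u + (u - P u) := by abel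
    rw [Module.End.one_apply]
    conv_lhs => rw [h2]
    rw [map_add, (hpowV r _ (hPV u)).1, hpow0, hexp d hd, one_ap]
    abel
  have h2 : A ≠ 1 := by
    intro h
    apply hdw
    rw [← hAV w hw, h, Module.End.one_apply]
  have h3 : ∀ u v, hermForm n F q (A u) (A v) = hermForm n F q u v := by
    intro u v
    have e1 : hermForm n F q (A u) (A v) = hermForm n F q (P u) (P v) +
        hermForm n F q (u - P u) (v - P v) := by
      rw [hA, hA, herm_add_left, herm_add_right hF, herm_add_right hF, hiso,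
        horth _ (hVinv _ (hPV u)), horth' _ (hVinv _ (hPV v)), add_zero, zero_add]
    have e2 : hermForm n F q u v = hermForm n F q (P u) (P v) +
        hermForm n F q (u - P u) (v - P v) := by
      have h4 : u = P u + (u - P u) := by abel
      have h5 : v = P v + (v - P v) := by abel
      conv_lhs => rw [h4, h5]
      rw [herm_add_left, herm_add_right hF, herm_add_right hF, horth _ (hPV u),
        horth' _ (hPV v), add_zero, zero_add]
    rw [e1, e2]
  have hrq : ¬ r ∣ q := by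
    intro h
    apply not_dvd_card hr hrF
    rw [hF]
    exact dvd_pow h two_ne_zero
  refine (HallLB.lb_unit hF hr hrq h1 h2 h3).trans (Submodule.finrank_mono ?_)
  rintro _ ⟨u, rfl⟩
  have h4 : (A - 1) u = ρ d (P u) - P u := by
    rw [LinearMap.sub_apply, Module.End.one_apply, hA]
    abel
  rw [h4]
  exact Submodule.sub_mem _ (hVinv _ (hPV u)) (hPV u)

/-- the inclusion of `SU_n` -/
def inc (n : ℕ) (F : Type*) [Field F] (q : ℕ) : SU n F q →* Matrix (Fin n) (Fin n) F where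
  toFun A := A.1.1
  map_one' := rfl
  map_mul' _ _ := rfl

theorem inc_injective {F : Type*} [Field F] : Function.Injective (inc n F q) :=
  Subtype.val_injective.comp Subtype.val_injective

theorem rowDat (hF : Fintype.card F = q ^ 2) (n : ℕ) :
    RowDat (rep (inc n F q)) fun r => orderOf (-(q : ZMod r)) where
  inj := rep_injective inc_injective
  lb r hr _ hrF D E hED hab hexp hV := lb_VE hF _ (fun g u v => g.2 u v) hr hrF hED hab hexp hV
  epos r hr hrF := HallOrd.order_pos hr (by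
    rw [Ne, neg_eq_zero, ZMod.natCast_eq_zero_iff]
    exact fun h => not_dvd_card hr hrF (hF ▸ dvd_pow h two_ne_zero))
  edvd r hr hrF := HallOrd.order_dvd hr (by
    rw [Ne, neg_eq_zero, ZMod.natCast_eq_zero_iff]
    exact fun h => not_dvd_card hr hrF (hF ▸ dvd_pow h two_ne_zero))

/-- **`P(z)` for `PSU`** -/
theorem exists_pz (hF : Fintype.card F = q ^ 2) {n : ℕ} (hn : 3 ≤ n) {G : Type*} [Group G] [Finite G]
    (e : G ≃* PSU n F q)
    (hbeta : ∀ t : ℕ, t.Prime → Odd t → (t : F) ≠ 0 → BetaP (rep (inc n F q)) t)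
    (π : Set ℕ) (h2 : 2 ∉ π) (hp : ∀ r ∈ π, r.Prime → (r : F) ≠ 0)
    (hne : ∃ r ∈ π, r.Prime ∧ r ∣ Nat.card G) :
    ∃ t ∈ π, t.Prime ∧ t ∣ Nat.card G ∧ ∃ z : G, z ≠ 1 ∧ z ^ t = 1 ∧ PZ t π z := by
  let φ : SU n F q →* G :=
    (e.symm : PSU n F q →* G).comp (QuotientGroup.mk' (Subgroup.center (SU n F q)))
  have hφ : Function.Surjective φ :=
    e.symm.surjective.comp (QuotientGroup.mk'_surjective _)
  have hφ1 : ∀ k, φ k = 1 ↔ k ∈ Subgroup.center (SU n F q) := by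
    intro k
    rw [← QuotientGroup.eq_one_iff]
    constructor
    · intro h
      exact e.symm.injective (h.trans (map_one e.symm).symm)
    · intro h
      show e.symm (QuotientGroup.mk' _ k) = 1
      rw [QuotientGroup.mk'_apply, h, map_one]
  refine exists_pz_abs (rowDat hF n) φ hφ (fun k hk x => ?_) hbeta π h2 hp ?_ hne
  · exact (Subgroup.mem_center_iff.mp ((hφ1 k).mp hk) x).symm
  · intro t ht hodd htF htd
    have htq : ¬ t ∣ q := fun h => not_dvd_card ht htF (hF ▸ dvd_pow h two_ne_zero)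
    have h1 : Nat.card G ∣ Nat.card (SU n F q) := Subgroup.card_dvd_of_surjective φ hφ
    obtain ⟨z, hz1, hz2, hz3⟩ := HallOrd.small_SU hF (by omega) ht htq (htd.trans h1)
    refine ⟨z, fun h => hz2 ?_, hz1, hz3⟩
    rw [hφ1, Cfsg.Agent.LieClassical.SUBasic.mem_center_SU_iff hF hn] at h
    obtain ⟨c, hcn, hcq, rfl⟩ := h
    have hne : Nonempty (Fin n) := ⟨⟨0, by omega⟩⟩
    have hval : (Cfsg.Agent.LieClassical.SUBasic.suScalar q c hcn hcq : SU n F q).1.1 =
        diagonal fun _ => c := rfl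
    have hct : c ^ t = 1 := by
      have h3 : (scalar (Fin n) c) ^ t = 1 := by
        rw [scalar_apply, ← hval]
        exact congrArg (fun A : SU n F q => A.1.1) hz1
      rwa [← map_pow, ← map_one (scalar (Fin n)), scalar_inj] at h3
    have h4 := eq_one_of_scalar (by omega) ht hcn hct
      ((Cfsg.Agent.LieClassical.SUBasic.suScalar q c hcn hcq : SU n F q).1.1.mulVecLin) (fun v => by
        rw [mulVecLin_apply, hval, ← smul_one_eq_diagonal, smul_mulVec, one_mulVec]) (hz3.trans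
        (HallOrd.mm_le ht (by rintro rfl; exact absurd hodd (by decide)) (by
          rw [Ne, neg_eq_zero, ZMod.natCast_eq_zero_iff]; exact htq)))
    apply Subtype.ext
    apply Subtype.ext
    rw [hval, h4, diagonal_one]
    rfl

end Cfsg.Agent.H556.HallSURow
end

private theorem dce_719326dd11fc : _root_.True := by
  try have : _root_.True := by simp only [_root_.Cfsg.Agent.H167.OP.VE.congr_simp]
  exact _root_.True.intro
end

-- part: H170/HL/ClRows
section
set_option linter.all false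
open scoped Cfsg.Agent.FastGrp

/-!
# The rows `PSp`, `POmega` of the conjugacy of odd order Hall subgroups (helper170)
-/

set_option autoImplicit false

namespace Cfsg.Agent.H170.HL.Rows

open Cfsg Cfsg.Agent.H553.OddHall Cfsg.Agent.H560.HallKey Cfsg.Agent.H167.OP

universe u

/-- a group of Lie type in characteristic `p`: it is enough to find `z` with `P(z)` if `p ∉ π` -/
theorem oddC_of_pz {G : Type u} [Group G] [Finite G] [IsSimpleGroup G]
    (hnc : ¬ IsMulCommutative G) (hind : OddInd G) {p : ℕ} (hp : p.Prime)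
    (hG : IsLieTypeChar p G)
    (h : ∀ π : Set ℕ, 2 ∉ π → p ∉ π → (∃ r ∈ π, r.Prime ∧ r ∣ Nat.card G) →
      ∃ t ∈ π, t.Prime ∧ t ∣ Nat.card G ∧ ∃ z : G, z ≠ 1 ∧ z ^ t = 1 ∧ HL.PZ t π z) : OddC G := by
  refine oddC_of_two ?_
  intro π h2 hπ hlt H K hH hK
  by_cases hpπ : p ∈ π
  · exact Cfsg.Agent.H565.OddBorel.conj_of_lie hp hG h2 hpπ hH hK
  · obtain ⟨s, hs, -⟩ := hlt
    obtain ⟨t, htπ, ht, htd, z, hz1, hzt, hP⟩ := h π h2 hpπ ⟨s, hs, (hπ s hs).1, (hπ s hs).2⟩
    have htf : Fact t.Prime := ⟨ht⟩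
    have hord : orderOf z = t ^ 1 := by
      rw [pow_one]
      exact orderOf_eq_prime hzt hz1
    exact conj_of_PZ hnc hind h2 htπ
      (Cfsg.Agent.H560.HallKey.PZ.of_solvable h2 fun g hsol hpi => hP g hsol hpi) hz1
      (zpowers_pgroup hord) hH hK

theorem beta_all {F : Type*} [Field F] {V : Type*} [AddCommGroup V] [Module F V]
    [FiniteDimensional F V] {K : Type*} [Group K] [Finite K] {ρ : Representation F K V}
    (hρ : Function.Injective ρ) : ∀ t : ℕ, t.Prime → Odd t → (t : F) ≠ 0 → BetaP ρ t := by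
  intro t ht hodd _ s y D hs hD hsF hab
  refine Cfsg.Agent.H167.OP.beta ρ hρ hD ?_ ?_ hsF hab
  · rintro rfl
    exact absurd hs (by decide)
  · rintro rfl
    exact absurd hodd (by decide)

theorem cast_ne_zero {F : Type*} [Field F] {p : ℕ} [CharP F p] (hp : p.Prime) {π : Set ℕ}
    (hpπ : p ∉ π) : ∀ r ∈ π, r.Prime → (r : F) ≠ 0 := by
  intro r hr hrp h
  rw [CharP.cast_eq_zero_iff F p, Nat.prime_dvd_prime_iff_eq hp hrp] at h
  exact hpπ (h ▸ hr)

/-- **row `PSp`** -/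
theorem oddC_psp {G : Type u} [Group G] [Finite G] [IsSimpleGroup G]
    (hnc : ¬ IsMulCommutative G) (hind : OddInd G) {p : ℕ} (hG : IsPSpChar p G) : OddC G := by
  obtain ⟨F, _, _, hchar, m, hm, hm2, ⟨e⟩⟩ := hG
  have hp : p.Prime := CharP.char_is_prime F p
  have hlie : IsLieTypeChar p G :=
    Or.inr (Or.inl ⟨F, inferInstance, inferInstance, hchar, m, hm, hm2, ⟨e⟩⟩)
  refine oddC_of_pz hnc hind hp hlie fun π h2 hpπ hne => ?_
  exact SpRow.exists_pz e (beta_all (rep_injective SpRow.inc_injective)) π h2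
    (cast_ne_zero hp hpπ) hne

/-- a form version -/
theorem oddC_omega {G : Type u} [Group G] [Finite G] [IsSimpleGroup G]
    (hnc : ¬ IsMulCommutative G) (hind : OddInd G) {p : ℕ} (hp : p.Prime)
    (hlie : IsLieTypeChar p G) {F : Type*} [Field F] [Finite F] [CharP F p] {ι : Type} [Fintype ι]
    [DecidableEq ι] {Q : QuadraticForm F (ι → F)} (hQ : OmRow.GoodQ Q) {Q' : (ι → F) → F}
    (hQQ : ⇑Q = Q') (e : G ≃* Cfsg.POmega F Q') : OddC G := by
  subst hQQ
  refine oddC_of_pz hnc hind hp hlie fun π h2 hpπ hne => ?_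
  exact OmRow.exists_pz hQ e (beta_all (rep_injective OmRow.inc_injective)) π h2
    (cast_ne_zero hp hpπ) hne

/-- **row `POmega`, odd dimension** -/
theorem oddC_pomegaOdd {G : Type u} [Group G] [Finite G] [IsSimpleGroup G]
    (hnc : ¬ IsMulCommutative G) (hind : OddInd G) {p : ℕ} (hG : IsPOmegaOddChar p G) : OddC G := by
  obtain ⟨F, _, _, hchar, m, hm, hodd, ⟨e⟩⟩ := hG
  have hp : p.Prime := CharP.char_is_prime F p
  have hlie : IsLieTypeChar p G :=
    Or.inr (Or.inr (Or.inr (Or.inl ⟨F, inferInstance, inferInstance, hchar, m, hm, hodd, ⟨e⟩⟩)))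
  have h2 : (2 : F) ≠ 0 := by
    intro h
    have h1 : ((2 : ℕ) : F) = 0 := by exact_mod_cast h
    rw [CharP.cast_eq_zero_iff F p, Nat.prime_dvd_prime_iff_eq hp Nat.prime_two] at h1
    subst h1
    obtain ⟨n, hn⟩ := FiniteField.card F 2
    rw [hn.2] at hodd
    have : Even (2 ^ (n : ℕ)) := (Nat.even_pow.mpr ⟨even_two, n.ne_zero⟩)
    exact (Nat.not_even_iff_odd.mpr hodd) this
  have hc := Cfsg.Agent.LieClassical.OrthForms.coe_oddForm m F
  exact oddC_omega hnc hind hp hlie (OmRow.goodQ_odd (by omega) h2) hc e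

/-- **row `POmega`, plus type** -/
theorem oddC_pomegaPlus {G : Type u} [Group G] [Finite G] [IsSimpleGroup G]
    (hnc : ¬ IsMulCommutative G) (hind : OddInd G) {p : ℕ} (hG : IsPOmegaPlusChar p G) :
    OddC G := by
  obtain ⟨F, _, _, hchar, m, hm, ⟨e⟩⟩ := hG
  have hp : p.Prime := CharP.char_is_prime F p
  have hlie : IsLieTypeChar p G :=
    Or.inr (Or.inr (Or.inr (Or.inr (Or.inl ⟨F, inferInstance, inferInstance, hchar, m, hm, ⟨e⟩⟩))))
  have hc := Cfsg.Agent.LieClassical.OrthForms.coe_plusForm m F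
  exact oddC_omega hnc hind hp hlie (OmRow.goodQ_plus (by omega)) hc e

/-- **row `POmega`, minus type** -/
theorem oddC_pomegaMinus {G : Type u} [Group G] [Finite G] [IsSimpleGroup G]
    (hnc : ¬ IsMulCommutative G) (hind : OddInd G) {p : ℕ} (hG : IsPOmegaMinusChar p G) :
    OddC G := by
  obtain ⟨F, _, _, hchar, m, a, b, hm, hab, ⟨e⟩⟩ := hG
  have hp : p.Prime := CharP.char_is_prime F p
  have hlie : IsLieTypeChar p G :=
    Or.inr (Or.inr (Or.inr (Or.inr (Or.inr (Or.inl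
      ⟨F, inferInstance, inferInstance, hchar, m, a, b, hm, hab, ⟨e⟩⟩)))))
  have hc := Cfsg.Agent.LieClassical.OrthForms.coe_minusForm (m - 1) F a b
  exact oddC_omega hnc hind hp hlie (OmRow.goodQ_minus (by omega) a b hab) hc e

end Cfsg.Agent.H170.HL.Rows
end

-- part: H553/ExcFull
section
prune_inst 0x40140584049c00000000005025000182296000090000b80000020034407888c42000206600c000100080a800800340020021000100000000000000000000101209000160650c1a00ce40001800080000000000000000000000000000000000004000000000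
set_option linter.all false
open scoped Cfsg.Agent.FastGrp

-- part: H572/ExcRow
section
/-!
# The exceptional rows of S4350

* `oddC_isoF4`, `oddC_isoE6`, `oddC_iso2E6`, `oddC_isoE7`, `oddC_isoE8` : `OddC G`.
-/

set_option autoImplicit false

namespace Cfsg.Agent.H572.ExcRow

open Subgroup Cfsg Cfsg.Lie Cfsg.Agent.H553.OddHall Cfsg.Agent.H565.NM Cfsg.Agent.H572.ExcF

universe u

variable {G : Type u} [Group G] [Finite G]

/-- `OddC` for a group of Lie type from the pairs -/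
theorem oddC_of_lie' {p : ℕ} (hp : p.Prime) (hG : IsLieTypeChar p G)
    (h : ∀ s t : ℕ, s.Prime → t.Prime → s ≠ p → 2 < s → s < t → PairN t s G) : OddC G :=
  oddC_of_char p (fun π h2 hpπ H K hH hK => Cfsg.Agent.H565.OddBorel.conj_of_lie hp hG h2 hpπ hH hK)
    fun s t hs ht hsp _ h3 hst _ _ => h s t hs ht hsp h3 hst

theorem three_or_five_le {s : ℕ} (hs : s.Prime) (hs2 : 2 < s) : s = 3 ∨ 5 ≤ s := by
  by_contra h
  push Not at h
  have : s = 4 := by omega
  rw [this] at hs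
  exact absurd hs (by norm_num)

theorem oddC_isoF4 (h : Lie.IsoF4 G) : OddC G := by
  obtain ⟨F, iF, iFt, ⟨e⟩⟩ := h
  obtain ⟨p, hp'⟩ := CharP.exists F
  have hp : p.Prime := CharP.char_is_prime F p
  refine oddC_of_lie' hp (p := p) ?_ fun s t hs ht hsp hs2 hst => ?_
  · exact Or.inr <| Or.inr <| Or.inr <| Or.inr <| Or.inr <| Or.inr <| Or.inl ⟨F, iF, iFt, hp', Or.inr (Or.inl ⟨e⟩)⟩
  have hsF := cast_ne_zero_of_char (F := F) hp hs hsp
  refine PairN.of_equiv e.symm ?_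
  rcases three_or_five_le hs hs2 with rfl | h5
  · exact f4_three (by exact_mod_cast hsF) ht (by omega) (by omega)
  · exact pairN_of_noMin hs ht (by omega) (by omega) hst.ne (noMin_f4 (F := F) hsF hs2 hst h5)

theorem oddC_isoE6 (P1 : ∀ (F : Type) [Field F] [Fintype F], (3 : F) ≠ 0 → Fintype.card F % 3 = 2 → ∀ t, t.Prime →
    3 < t → PairN t 3 ↥(chevE6.group F)) (h : Lie.IsoChevE6 G) : OddC G := by
  obtain ⟨F, iF, iFt, ⟨e⟩⟩ := h
  obtain ⟨p, hp'⟩ := CharP.exists F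
  have hp : p.Prime := CharP.char_is_prime F p
  refine oddC_of_lie' hp (p := p) ?_ fun s t hs ht hsp hs2 hst => ?_
  · exact Or.inr <| Or.inr <| Or.inr <| Or.inr <| Or.inr <| Or.inr <| Or.inl
      ⟨F, iF, iFt, hp', Or.inr (Or.inr (Or.inl ⟨e⟩))⟩
  have hsF := cast_ne_zero_of_char (F := F) hp hs hsp
  refine PairN.of_equiv e.symm ?_
  rcases three_or_five_le hs hs2 with rfl | h5
  · have h3 : (3 : F) ≠ 0 := by exact_mod_cast hsF
    have h4 := three_cases h3
    by_cases h1 : Fintype.card F % 3 = 1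
    · exact e6_three_one h3 h1 ht (by omega) (by omega)
    · exact P1 F h3 (by omega) t ht hst
  · exact pairN_of_noMin hs ht (by omega) (by omega) hst.ne (noMin_e6 (F := F) hsF hs2 hst h5)

theorem oddC_iso2E6 (P1 : ∀ (F : Type) [Field F] [Fintype F] (q : ℕ), (3 : F) ≠ 0 → IsPrimePow q →
    Fintype.card F = q ^ 2 → q % 3 = 1 → ∀ t, t.Prime → 3 < t → PairN t 3 ↥(twistedE6 F q)) (h : Lie.Iso2E6 G) :
    OddC G := by
  obtain ⟨F, iF, iFt, q, hq, hF, ⟨e⟩⟩ := h
  obtain ⟨p, hp'⟩ := CharP.exists F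
  have hp : p.Prime := CharP.char_is_prime F p
  have hfin : Finite ↥(twistedE6 F q) := inferInstance
  refine oddC_of_lie' hp (p := p) ?_ fun s t hs ht hsp hs2 hst => ?_
  · exact Or.inr <| Or.inr <| Or.inr <| Or.inr <| Or.inr <| Or.inr <| Or.inr <| Or.inl
      ⟨F, iF, iFt, hp', q, hq, Or.inl ⟨hF, ⟨e⟩⟩⟩
  have hsF := cast_ne_zero_of_char (F := F) hp hs hsp
  refine PairN.of_equiv e.symm ?_
  rcases three_or_five_le hs hs2 with rfl | h5
  · have h3 : (3 : F) ≠ 0 := by exact_mod_cast hsF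
    have h4 := three_cases h3
    have h0 : q % 3 ≠ 0 := by
      intro h0
      have h5 : 3 ∣ q := Nat.dvd_of_mod_eq_zero h0
      have h6 : 3 ∣ Fintype.card F := by rw [hF]; exact dvd_pow h5 two_ne_zero
      omega
    by_cases h1 : q % 3 = 2
    · exact twE6_three_two h3 hq hF h1 ht (by omega) (by omega)
    · exact P1 F q h3 hq hF (by omega) t ht hst
  · exact pairN_of_noMin hs ht (by omega) (by omega) hst.ne (noMin_2E6 (K := F) hq hsF hs2 hst hF h5)

/-- `q ≡ ±1` modulo `5` or `5 ∣ q² + 1` -/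
theorem five_cases {F : Type} [Field F] [Fintype F] (h5 : (5 : F) ≠ 0) :
    (5 : ℤ) ∣ (Fintype.card F : ℤ) - 1 ∨ (5 : ℤ) ∣ (Fintype.card F : ℤ) - (-1 : ℤ) ∨
    5 ∣ Fintype.card F ^ 2 + 1 := by
  have h0 : ¬ 5 ∣ Fintype.card F := by
    intro h
    obtain ⟨p, n, hp, hpp, hc⟩ := FiniteField.card' F
    rw [hc] at h
    have h2 := Nat.prime_five.dvd_of_dvd_pow h
    have h3' := (Nat.prime_dvd_prime_iff_eq Nat.prime_five hpp).1 h2
    subst h3'
    exact h5 (by exact_mod_cast CharP.cast_eq_zero F 5)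
  have h1 : Fintype.card F % 5 = 1 ∨ Fintype.card F % 5 = 4 ∨ Fintype.card F % 5 = 2 ∨ Fintype.card F % 5 = 3 := by
    omega
  rcases h1 with h1 | h1 | h1 | h1
  · left; omega
  · right; left; omega
  · right; right
    rw [Nat.dvd_iff_mod_eq_zero, Nat.add_mod, Nat.pow_mod, h1]
  · right; right
    rw [Nat.dvd_iff_mod_eq_zero, Nat.add_mod, Nat.pow_mod, h1]

theorem oddC_isoE7 (P5 : ∀ (F : Type) [Field F] [Fintype F], (5 : F) ≠ 0 → 5 ∣ Fintype.card F ^ 2 + 1 →
    PairN 7 5 ↥(chevE7.group F)) (h : Lie.IsoE7 G) : OddC G := by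
  obtain ⟨F, iF, iFt, ⟨e⟩⟩ := h
  obtain ⟨p, hp'⟩ := CharP.exists F
  have hp : p.Prime := CharP.char_is_prime F p
  refine oddC_of_lie' hp (p := p) ?_ fun s t hs ht hsp hs2 hst => ?_
  · exact Or.inr <| Or.inr <| Or.inr <| Or.inr <| Or.inr <| Or.inr <| Or.inl
      ⟨F, iF, iFt, hp', Or.inr (Or.inr (Or.inr (Or.inl ⟨e⟩)))⟩
  have hsF := cast_ne_zero_of_char (F := F) hp hs hsp
  refine PairN.of_equiv e.symm ?_
  rcases three_or_five_le hs hs2 with rfl | h5
  · exact e7_three (by exact_mod_cast hsF) ht (by omega) (by omega)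
  · by_cases ht7 : 7 < t
    · exact pairN_of_noMin hs ht (by omega) (by omega) hst.ne (noMin_e7 (F := F) hsF hs2 hst h5 ht7)
    · have hs5 : s = 5 := by
        by_contra hne
        have : s = 6 := by omega
        rw [this] at hs
        exact absurd hs (by norm_num)
      subst hs5
      have ht7' : t = 7 := by
        by_contra hne
        have : t = 6 := by omega
        rw [this] at ht
        exact absurd ht (by norm_num)
      subst ht7'
      have h5' : (5 : F) ≠ 0 := by exact_mod_cast hsF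
      rcases five_cases h5' with h1 | h1 | h1
      · exact e7_five h5' (Or.inl h1) ht (by norm_num) (by norm_num) (by norm_num)
      · exact e7_five h5' (Or.inr h1) ht (by norm_num) (by norm_num) (by norm_num)
      · exact P5 F h5' h1

theorem oddC_isoE8 (P2 : ∀ (F : Type) [Field F] [Fintype F], (5 : F) ≠ 0 → 5 ∣ Fintype.card F ^ 2 + 1 →
    ∀ t, t.Prime → 5 < t → PairN t 5 ↥(chevE8.group F)) (h : Lie.IsoE8 G) : OddC G := by
  obtain ⟨F, iF, iFt, ⟨e⟩⟩ := h
  obtain ⟨p, hp'⟩ := CharP.exists F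
  have hp : p.Prime := CharP.char_is_prime F p
  refine oddC_of_lie' hp (p := p) ?_ fun s t hs ht hsp hs2 hst => ?_
  · exact Or.inr <| Or.inr <| Or.inr <| Or.inr <| Or.inr <| Or.inr <| Or.inl
      ⟨F, iF, iFt, hp', Or.inr (Or.inr (Or.inr (Or.inr ⟨e⟩)))⟩
  have hsF := cast_ne_zero_of_char (F := F) hp hs hsp
  refine PairN.of_equiv e.symm ?_
  rcases three_or_five_le hs hs2 with rfl | h5
  · exact e8_three (by exact_mod_cast hsF) ht (by omega) (by omega)
  · rcases h5.lt_or_eq with h5 | h5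
    · exact pairN_of_noMin hs ht (by omega) (by omega) hst.ne (noMin_e8 (F := F) hsF hs2 hst h5)
    · subst h5
      have h5' : (5 : F) ≠ 0 := by exact_mod_cast hsF
      rcases five_cases h5' with h1 | h1 | h1
      · exact e8_five h5' (Or.inl h1) ht (by omega) (by omega) (by omega)
      · exact e8_five h5' (Or.inr h1) ht (by omega) (by omega) (by omega)
      · exact P2 F h5' h1 t ht hst

end Cfsg.Agent.H572.ExcRow
end

-- part: H565/CharCnt
section
/-!
# The number of torus elements of a finite group of Lie type from characters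

`card_dvd_TG` : an injective family `A →+ (L →+ ZMod N)` of homomorphisms `c` with `c (θ x) = q c x` gives
`|A| ∣ |TG κ|`.
* `le_im` : all elements of the Weyl group commuting with `θ` are represented, if all fixed points of `τ` are in `G`.
-/

set_option autoImplicit false
set_option linter.unusedSectionVars false

namespace Cfsg.Agent.H565.CharCnt

open CoxeterSystem Cfsg Cfsg.Lie Cfsg.Lie.ChevalleyDatum
open Cfsg.Agent.ChevalleyStructure Cfsg.Agent.ChevalleyStructure.Elts Cfsg.Agent.ChevalleyStructure.CoxeterGeom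
  Cfsg.Agent.ChevalleyStructure.CoxeterGeomTypes Cfsg.Agent.ChevalleyStructure.NPerm
open Cfsg.Agent.Tits.Roots Cfsg.Agent.Tits.Core Cfsg.Agent.Nodes Cfsg.Agent.Nodes.Reps Cfsg.Agent.Nodes.BNOf
  Cfsg.Agent.Nodes.RGDChev Cfsg.Agent.Nodes.Bruhat
open Cfsg.Agent.KFacts.RgdField Cfsg.Agent.KFacts.RgdChevCoord Cfsg.Agent.BpExc.TorCent Cfsg.Agent.BpExc.TorChev
open Cfsg.Agent.GpExc.Field Cfsg.Agent.BpExc.Tow Cfsg.Agent.BpExc.TowChev Cfsg.Agent.BpExc.Fr
  Cfsg.Agent.BpExc.LangFr Cfsg.Agent.H129.TorusChar Cfsg.Agent.H129.TorusMain Cfsg.Agent.H123.ExcZ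
open Cfsg.Agent.BpExc Cfsg.Agent.H795.LangT Cfsg.Agent.H795.Core Cfsg.Agent.H795.NotAbT
open Cfsg.Agent.H572.ExcA Cfsg.Agent.H572.ExcB Cfsg.Agent.H572.ExcC Cfsg.Agent.H572.LatForm
open Subgroup

universe u v

variable {D : ChevalleyDatum} {l : ℕ} {M : CoxeterMatrix (Fin l)} {hp : IsType D l M}
  {k : Type u} [Field k] [IsAlgClosed k] {hk : LocFin k} {r : ℕ} [Fact r.Prime] [CharP k r]
  {G : Type v} [Group G] {κ : G →* ↥(D.group k)} {e : ℕ} {τ : MulAut ↥(D.group k)} {θ : (Fin l → ℤ) ≃+ (Fin l → ℤ)}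

theorem pow_val_add {N : ℕ} [NeZero N] {ζ : k} (hζ : IsPrimitiveRoot ζ N) (x y : ZMod N) :
    ζ ^ (x + y).val = ζ ^ x.val * ζ ^ y.val := by
  rw [← pow_add, ZMod.val_add]
  exact (pow_eq_pow_mod _ hζ.pow_eq_one).symm

theorem pow_val_inj' {N : ℕ} [NeZero N] {ζ : k} (hζ : IsPrimitiveRoot ζ N) {a b : ZMod N}
    (h : ζ ^ a.val = ζ ^ b.val) : a = b :=
  ZMod.val_injective N (hζ.pow_inj (ZMod.val_lt a) (ZMod.val_lt b) h)

theorem pow_val_mul' {N : ℕ} [NeZero N] {ζ : k} (hζ : IsPrimitiveRoot ζ N) (n : ℕ) (a : ZMod N) :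
    ζ ^ ((n : ZMod N) * a).val = (ζ ^ a.val) ^ n := by
  rw [← pow_mul, ZMod.val_mul, ZMod.val_natCast, mul_comm a.val n, pow_eq_pow_mod _ hζ.pow_eq_one,
    pow_eq_pow_mod (n * a.val) hζ.pow_eq_one]
  congr 1
  rw [Nat.mod_mod, Nat.mod_mul_mod]

/-- a torus element fixed by `τ` with given characters -/
theorem exists_tor_fix (hp : IsType D l M) {d : ℕ} {Bi : Fin l → Fin l → ℤ} (hB : InvC D l d Bi) (hd : d ≠ 0)
    (hτ : IsFrob r e τ) (F : Fr M.toCoxeterSystem hp.isCartan (TT D k) (XX D l k) τ θ) {N : ℕ} [NeZero N] {ζ : k}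
    (hζ : IsPrimitiveRoot ζ N) (c : (Fin l → ℤ) →+ ZMod N) (hc : ∀ x, c (θ x) = ((r ^ e : ℕ) : ZMod N) * c x) :
    ∃ t ∈ TT D k, (∀ x, cX hp t x = ζ ^ (c x).val) ∧ t ^ N = 1 ∧ τ t = t := by
  obtain ⟨t, ht, hct⟩ : ∃ t ∈ TT D k, ∀ x, cX hp t x = ζ ^ (c x).val :=
    exists_cX hp hB hd (φ := fun x => ζ ^ (c x).val)
      ⟨by show ζ ^ (c 0).val = 1; rw [map_zero, ZMod.val_zero, pow_zero], fun x y => by
        show ζ ^ (c (x + y)).val = ζ ^ (c x).val * ζ ^ (c y).val
        rw [map_add, pow_val_add hζ]⟩ (fun i => IsAlgClosed.exists_pow_nat_eq _ (Nat.pos_of_ne_zero hd))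
  refine ⟨t, ht, hct, ?_, ?_⟩
  · refine cX_inj hp (pow_mem ht N) (one_mem _) fun i => ?_
    rw [cX_pow hp ht, hct, cX_one, ← pow_mul, mul_comm, pow_mul, hζ.pow_eq_one, one_pow]
  · have hτt : τ t ∈ TT D k := (F.tor t).2 ht
    refine cX_inj hp hτt ht fun i => ?_
    obtain ⟨x, hx⟩ := θ.surjective (sr i)
    rw [← hx, cX_sigma hp M.toCoxeterSystem hτ F ht, hct, hct, ← pow_val_mul' hζ]
    congr 2
    exact (hc x).symm

/-- **the torus elements from characters** -/
theorem card_dvd_TG (hp : IsType D l M) {d : ℕ} {Bi : Fin l → Fin l → ℤ} (hB : InvC D l d Bi) (hd : d ≠ 0)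
    (hinj : Function.Injective κ)
    (hτ : IsFrob r e τ) (F : Fr M.toCoxeterSystem hp.isCartan (TT D k) (XX D l k) τ θ) {N : ℕ} [NeZero N] {ζ : k}
    (hζ : IsPrimitiveRoot ζ N) (hmem : ∀ t ∈ TT D k, τ t = t → t ^ N = 1 → ∃ x, κ x = t)
    {A : Type*} [AddCommGroup A] (Ψ : A →+ ((Fin l → ℤ) →+ ZMod N)) (hΨ : Function.Injective Ψ)
    (hc : ∀ a x, Ψ a (θ x) = ((r ^ e : ℕ) : ZMod N) * Ψ a x) : Nat.card A ∣ Nat.card (TG κ) := by
  have h1 : ∀ a, ∃ x : G, κ x ∈ TT D k ∧ ∀ y, cX hp (κ x) y = ζ ^ (Ψ a y).val := by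
    intro a
    obtain ⟨t, ht, hct, htN, hτt⟩ := exists_tor_fix hp hB hd hτ F hζ (Ψ a) (hc a)
    obtain ⟨x, rfl⟩ := hmem t ht hτt htN
    exact ⟨x, ht, hct⟩
  choose g hg hgc using h1
  let f : Multiplicative A →* ↥(TG κ) :=
    { toFun := fun a => ⟨g a.toAdd, hg _⟩
      map_one' := by
        apply Subtype.ext
        apply hinj
        show κ (g 0) = κ 1
        rw [map_one]
        refine cX_inj hp (hg 0) (one_mem _) fun i => ?_
        rw [hgc, map_zero, cX_one]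
        show ζ ^ (0 : ZMod N).val = 1
        rw [ZMod.val_zero, pow_zero]
      map_mul' := by
        intro a b
        apply Subtype.ext
        apply hinj
        show κ (g (a.toAdd + b.toAdd)) = κ (g a.toAdd * g b.toAdd)
        rw [map_mul]
        refine cX_inj hp (hg _) (mul_mem (hg _) (hg _)) fun i => ?_
        rw [hgc, cX_mul hp (hg _) (hg _), hgc, hgc, map_add, AddMonoidHom.add_apply, pow_val_add hζ] }
  have hf : Function.Injective f := by
    intro a b hab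
    have h2 : g a.toAdd = g b.toAdd := congrArg Subtype.val hab
    refine hΨ (DFunLike.ext _ _ fun y => ?_)
    have h3 := hgc a.toAdd y
    rw [h2, hgc] at h3
    exact (pow_val_inj' hζ h3).symm
  have h2 := Subgroup.card_dvd_of_injective f hf
  exact h2

/-- the Weyl group elements commuting with `θ` are represented -/
theorem le_im (hk : LocFin k) {d : ℕ} {Bi : Fin l → Fin l → ℤ} (hB : InvC D l d Bi) (hd : d ≠ 0) (he : 0 < e)
    (hτ : IsFrob r e τ) (F : Fr M.toCoxeterSystem hp.isCartan (TT D k) (XX D l k) τ θ)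
    (hmem : ∀ y, τ y = y → ∃ x, κ x = y) : CT hp θ ≤ im hp hk r κ (NG hp hk r κ) := by
  intro w hw
  obtain ⟨m, hm, hτm⟩ := exists_fixed_lift hp hk hB hd he hτ F (v := w) hw
  obtain ⟨x, rfl⟩ := hmem m hτm
  exact ⟨x, ⟨w, hm⟩, hm⟩

end Cfsg.Agent.H565.CharCnt
end

-- part: H565/E6Lat
section
/-!
# The lattice data of `E₆(q)`, `q ≡ 2 (3)`, and `²E₆(q)`, `q ≡ 1 (3)`, for the prime three

`γ = permE rho6`, `B x y = (x + γ x, y)`: the form of the fixed lattice of type `F₄`.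
* `isForm_B`, `fdata` : `FData hp B (CT hp θ) ee`, `θ = ± γ`.
-/

set_option autoImplicit false
set_option linter.unusedSectionVars false

namespace Cfsg.Agent.H565.E6Lat

open CoxeterSystem Cfsg Cfsg.Lie Cfsg.Lie.ChevalleyDatum
open Cfsg.Agent.ChevalleyStructure Cfsg.Agent.ChevalleyStructure.Elts Cfsg.Agent.ChevalleyStructure.CoxeterGeom
  Cfsg.Agent.ChevalleyStructure.CoxeterGeomTypes Cfsg.Agent.ChevalleyStructure.NPerm
open Cfsg.Agent.Tits.Roots Cfsg.Agent.Tits.Core Cfsg.Agent.Nodes Cfsg.Agent.Nodes.Reps Cfsg.Agent.Nodes.BNOf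
  Cfsg.Agent.Nodes.RGDChev Cfsg.Agent.Nodes.Bruhat
open Cfsg.Agent.H572.ExcA Cfsg.Agent.H572.ExcB Cfsg.Agent.H572.ExcC Cfsg.Agent.H572.LatQ Cfsg.Agent.H572.LatForm
open Cfsg.Agent.H795.NotAbRows Cfsg.Agent.H795.NotAbCert Cfsg.Agent.H720.TwFr

/-- the Cartan matrix -/
abbrev A6 : Fin 6 → Fin 6 → ℤ := cartanOf chevE6 6

/-- the standard form -/
abbrev b (x y : Fin 6 → ℤ) : ℤ := nf A6 (fun _ => 1) x y

/-- the graph automorphism -/
abbrev g : (Fin 6 → ℤ) ≃+ (Fin 6 → ℤ) := permE rho6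

/-- the form of the fixed lattice -/
def B (x y : Fin 6 → ℤ) : ℤ := b (x + g x) y

theorem symD : SymD A6 (fun _ => 1) 0 ![0, 3, 1, 2, 3, 4] where
  sym := by decide +kernel
  pos := fun _ => one_pos
  conn := by decide +kernel

theorem A6_eq : ∀ i j, A6 i j = H795.NotAbData.E6.Am i j := fun i j => (H795.NotAbData.E6.hA i j).symm

theorem b_eq (x y : Fin 6 → ℤ) : b x y =
    2 * (x 0 * y 0 + x 1 * y 1 + x 2 * y 2 + x 3 * y 3 + x 4 * y 4 + x 5 * y 5)
      - (x 0 * y 2 + x 2 * y 0) - (x 2 * y 3 + x 3 * y 2) - (x 1 * y 3 + x 3 * y 1) - (x 3 * y 4 + x 4 * y 3)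
      - (x 4 * y 5 + x 5 * y 4) := by
  show PRankPar.Weyl.form A6 (fun _ => 1) x y = _
  unfold PRankPar.Weyl.form pairing
  simp only [A6_eq, H795.NotAbData.E6.Am, Fin.sum_univ_succ, Fin.sum_univ_zero, Matrix.cons_val_zero,
    Matrix.cons_val_succ, Matrix.cons_val_fin_one]
  simp only [_root_.Fin.isValue, _root_.one_mul, _root_.Fin.succ_zero_eq_one, _root_.MulZeroClass.zero_mul, _root_.Int.reduceNeg, _root_.Fin.succ_one_eq_two, _root_.neg_mul, _root_.Fin.reduceSucc, _root_.add_zero, _root_.zero_add]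
  ring

theorem g_apply (x : Fin 6 → ℤ) : g x 0 = x 5 ∧ g x 1 = x 1 ∧ g x 2 = x 4 ∧ g x 3 = x 3 ∧ g x 4 = x 2 ∧
    g x 5 = x 0 := ⟨rfl, rfl, rfl, rfl, rfl, rfl⟩

theorem g_g (x : Fin 6 → ℤ) : g (g x) = x := by
  funext i
  fin_cases i <;> rfl

theorem b_g (x y : Fin 6 → ℤ) : b (g x) (g y) = b x y := by
  obtain ⟨a0, a1, a2, a3, a4, a5⟩ := g_apply x
  obtain ⟨c0, c1, c2, c3, c4, c5⟩ := g_apply y
  rw [b_eq, b_eq, a0, a1, a2, a3, a4, a5, c0, c1, c2, c3, c4, c5]
  ring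

theorem b_add (x y z : Fin 6 → ℤ) : b (x + y) z = b x z + b y z := PRankPar.Weyl.form_add_left _ x y z

theorem b_comm (x y : Fin 6 → ℤ) : b x y = b y x := PRankPar.Weyl.form_comm symD.sym x y

theorem b_gl (x y : Fin 6 → ℤ) : b (g x) y = b x (g y) := by
  have := b_g x (g y)
  rwa [g_g] at this

section W

variable (hp : IsType chevE6 6 CoxeterMatrix.E₆)

include hp in
theorem isForm_b : IsForm b := by
  have := finite_W hp (CoxeterMatrix.E₆.toCoxeterSystem)
  exact isForm CoxeterMatrix.E₆.toCoxeterSystem hp.isCartan symD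

include hp in
theorem isForm_B : IsForm B where
  add x y z := by
    show b (x + y + g (x + y)) z = b (x + g x) z + b (y + g y) z
    rw [← b_add, map_add]
    congr 1
    abel
  comm x y := by
    show b (x + g x) y = b (y + g y) x
    rw [b_add, b_add, b_comm y x, b_gl, b_comm x (g y)]
  nonneg x := by
    have h1 := (isForm_b hp).nonneg (x + g x)
    have h2 : b (x + g x) (x + g x) = 2 * b (x + g x) x := by
      rw [(isForm_b hp).add' (x + g x) x (g x)]
      have h3 : b (x + g x) (g x) = b (x + g x) x := by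
        rw [← b_gl, map_add, g_g, add_comm]
      rw [h3]
      ring
    show 0 ≤ b (x + g x) x
    omega

theorem iso_B {θ : (Fin 6 → ℤ) ≃+ (Fin 6 → ℤ)} (hθ : (∀ x, θ x = g x) ∨ ∀ x, θ x = - g x)
    {w : CoxeterMatrix.E₆.Group} (hw : w ∈ CT hp θ) : Iso B (ac hp w) := by
  have hwg : ∀ x, ac hp w (g x) = g (ac hp w x) := by
    intro x
    have h1 := hw x
    rcases hθ with h | h
    · rwa [h, h] at h1
    · rw [h, h, map_neg] at h1
      exact neg_injective h1
  constructor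
  intro x y
  show b (ac hp w x + g (ac hp w x)) (ac hp w y) = b (x + g x) y
  rw [← hwg, ← map_add]
  exact (iso_act CoxeterMatrix.E₆.toCoxeterSystem hp.isCartan symD w).iso _ _

/-- the roots generating the lattice -/
def ee : Fin 6 → (Fin 6 → ℤ) := ![![1, 0, 0, 0, 0, 0], ![0, 0, 0, 0, 0, 1], ![0, 0, 1, 0, 0, 0], ![0, 0, 0, 0, 1, 0],
  ![0, 0, 1, 1, 0, 0], ![0, 1, 1, 1, 0, 0]]

/-- the form in coordinates -/
theorem B_eq (x y : Fin 6 → ℤ) : B x y =
    2 * ((x 0 + x 5) * y 0 + 2 * x 1 * y 1 + (x 2 + x 4) * y 2 + 2 * x 3 * y 3 + (x 4 + x 2) * y 4 + (x 5 + x 0) * y 5)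
      - ((x 0 + x 5) * y 2 + (x 2 + x 4) * y 0) - ((x 2 + x 4) * y 3 + 2 * x 3 * y 2) - (2 * x 1 * y 3 + 2 * x 3 * y 1)
      - (2 * x 3 * y 4 + (x 4 + x 2) * y 3) - ((x 4 + x 2) * y 5 + (x 5 + x 0) * y 4) := by
  obtain ⟨a0, a1, a2, a3, a4, a5⟩ := g_apply x
  show b (x + g x) y = _
  rw [b_eq]
  simp only [Pi.add_apply, a0, a1, a2, a3, a4, a5]
  ring

theorem norm_ee (i : Fin 6) : B (ee i) (ee i) = 2 := by
  rw [B_eq]
  fin_cases i <;> rfl

theorem span_ee : AddSubgroup.closure (Set.range ee) = ⊤ := by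
  rw [eq_top_iff]
  intro x _
  have hm : ∀ i, ee i ∈ AddSubgroup.closure (Set.range ee) := fun i => AddSubgroup.subset_closure ⟨i, rfl⟩
  have e : x = x 0 • ee 0 + x 5 • ee 1 + (x 2 - x 3) • ee 2 + x 4 • ee 3 + (x 3 - x 1) • ee 4 + x 1 • ee 5 := by
    funext i
    (revert i; simp only [ee, _root_.Fin.forall_fin_succ, Fin.isValue, _root_.Matrix.cons_val_zero, _root_.Matrix.smul_cons, _root_.Int.zsmul_eq_mul, _root_.mul_one, _root_.MulZeroClass.mul_zero, _root_.Matrix.smul_empty, _root_.Matrix.cons_val_one, _root_.Matrix.add_cons, _root_.Matrix.head_cons, _root_.add_zero, _root_.Matrix.tail_cons, _root_.zero_add, _root_.Matrix.empty_add_empty, _root_.Matrix.cons_val, _root_.sub_add_sub_cancel, _root_.Pi.add_apply, _root_.Matrix.cons_val_succ, _root_.Fin.succ_zero_eq_one, _root_.Fin.succ_one_eq_two, _root_.sub_add_cancel, Fin.reduceSucc, _root_.Matrix.cons_val_fin_one, _root_.IsEmpty.forall_iff, _root_.and_self])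
  rw [e]
  refine add_mem (add_mem (add_mem (add_mem (add_mem ?_ ?_) ?_) ?_) ?_) ?_ <;>
    exact AddSubgroup.zsmul_mem _ (hm _) _

/-- `2ρ` -/
def rho2 : Fin 6 → ℤ := ![16, 22, 30, 42, 30, 16]

theorem b_rho (x : Fin 6 → ℤ) : b x rho2 = 2 * (x 0 + x 1 + x 2 + x 3 + x 4 + x 5) := by
  rw [b_eq]
  simp only [rho2, _root_.Fin.isValue, _root_.Matrix.cons_val_zero, _root_.Matrix.cons_val_one, _root_.Matrix.cons_val]
  ring

theorem ht_ne : ∀ r : Fin chevE6.nroots, (vec chevE6 6 r 0 + vec chevE6 6 r 1 + vec chevE6 6 r 2 + vec chevE6 6 r 3 +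
    vec chevE6 6 r 4 + vec chevE6 6 r 5 : ℤ) ≠ 0 := by decide +kernel

include hp in
theorem eq_one_of_rho {w : CoxeterMatrix.E₆.Group} (hw : ac hp w rho2 = rho2) : w = 1 := by
  have hWf := finite_W hp (CoxeterMatrix.E₆.toCoxeterSystem)
  have hF := Fintype.ofFinite CoxeterMatrix.E₆.Group
  refine FrameCent.eq_one_of_fix (cs := CoxeterMatrix.E₆.toCoxeterSystem) (h := hp.isCartan) (m := 1)
    (r := fun _ => rho2) (fun x hx => ⟨0, fun h0 => ?_⟩) (fun _ => hw)
  have h1 := two_form_eq CoxeterMatrix.E₆.toCoxeterSystem hp.isCartan symD x rho2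
  rw [h0, mul_zero] at h1
  have h3 := form_pos CoxeterMatrix.E₆.toCoxeterSystem hp.isCartan (sr_ne_zero (0 : Fin 6))
  obtain ⟨r, hr, rfl⟩ := (isRoot_iff hp _ x).1 hx
  have h4 := b_rho (vec chevE6 6 r)
  have h5 := ht_ne ⟨r, hr⟩
  have h6 : b (vec chevE6 6 r) rho2 = 0 := by
    rcases mul_eq_zero.1 h1.symm with h7 | h7
    · exact absurd h7 h3.ne'
    · exact h7
  rw [h6] at h4
  apply h5
  show (vec chevE6 6 r 0 + vec chevE6 6 r 1 + vec chevE6 6 r 2 + vec chevE6 6 r 3 +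
    vec chevE6 6 r 4 + vec chevE6 6 r 5 : ℤ) = 0
  omega

include hp in
theorem rad_B {x : Fin 6 → ℤ} (h : Rad B x) : x + g x = 0 := by
  have := finite_W hp (CoxeterMatrix.E₆.toCoxeterSystem)
  exact eq_zero_of_rad CoxeterMatrix.E₆.toCoxeterSystem hp.isCartan symD (x := x + g x) h

theorem g_rho : g rho2 = rho2 := by
  funext i
  fin_cases i <;> rfl

theorem comm_g {θ : (Fin 6 → ℤ) ≃+ (Fin 6 → ℤ)} (hθ : (∀ x, θ x = g x) ∨ ∀ x, θ x = - g x)
    {w : CoxeterMatrix.E₆.Group} (hw : w ∈ CT hp θ) (x : Fin 6 → ℤ) : ac hp w (g x) = g (ac hp w x) := by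
  have h1 := hw x
  rcases hθ with h | h
  · rwa [h, h] at h1
  · rw [h, h, map_neg] at h1
    exact neg_injective h1

/-- **the data on the form** -/
theorem fdata {θ : (Fin 6 → ℤ) ≃+ (Fin 6 → ℤ)} (hθ : (∀ x, θ x = g x) ∨ ∀ x, θ x = - g x) :
    FData hp B (CT hp θ) ee where
  form := isForm_B hp
  iso := fun w hw => iso_B hp hθ hw
  norm := norm_ee
  fix := by
    intro w hw h
    have hcl : ∀ x : Fin 6 → ℤ, ac hp w x - x + g (ac hp w x - x) = 0 := by
      intro x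
      have hx : x ∈ AddSubgroup.closure (Set.range ee) := by rw [span_ee]; exact AddSubgroup.mem_top _
      induction hx using AddSubgroup.closure_induction with
      | mem x hx =>
        obtain ⟨i, rfl⟩ := hx
        exact rad_B hp (h i)
      | zero => rw [map_zero, sub_zero, map_zero, add_zero]
      | add x y _ _ h1 h2 =>
        have e : ac hp w (x + y) - (x + y) + g (ac hp w (x + y) - (x + y)) =
            (ac hp w x - x + g (ac hp w x - x)) + (ac hp w y - y + g (ac hp w y - y)) := by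
          rw [map_add, map_sub, map_sub, map_sub, map_add, map_add]
          abel
        rw [e, h1, h2, add_zero]
      | neg x _ h1 =>
        have e : ac hp w (-x) - (-x) + g (ac hp w (-x) - (-x)) = -(ac hp w x - x + g (ac hp w x - x)) := by
          rw [map_neg, map_sub, map_sub, map_neg, map_neg]
          abel
        rw [e, h1, neg_zero]
    apply eq_one_of_rho hp
    have h1 := hcl rho2
    rw [map_sub, ← comm_g hp hθ hw, g_rho] at h1
    funext i
    have h2 := congrFun h1 i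
    simp only [Pi.add_apply, Pi.sub_apply, Pi.zero_apply] at h2
    omega

theorem norm_roots : ∀ r : Fin chevE6.nroots, ¬ (3 : ℤ) ∣
    2 * ((vec chevE6 6 r 0 + vec chevE6 6 r 5) * vec chevE6 6 r 0 + 2 * vec chevE6 6 r 1 * vec chevE6 6 r 1 +
        (vec chevE6 6 r 2 + vec chevE6 6 r 4) * vec chevE6 6 r 2 + 2 * vec chevE6 6 r 3 * vec chevE6 6 r 3 +
        (vec chevE6 6 r 4 + vec chevE6 6 r 2) * vec chevE6 6 r 4 +
        (vec chevE6 6 r 5 + vec chevE6 6 r 0) * vec chevE6 6 r 5)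
      - ((vec chevE6 6 r 0 + vec chevE6 6 r 5) * vec chevE6 6 r 2 +
        (vec chevE6 6 r 2 + vec chevE6 6 r 4) * vec chevE6 6 r 0)
      - ((vec chevE6 6 r 2 + vec chevE6 6 r 4) * vec chevE6 6 r 3 + 2 * vec chevE6 6 r 3 * vec chevE6 6 r 2)
      - (2 * vec chevE6 6 r 1 * vec chevE6 6 r 3 + 2 * vec chevE6 6 r 3 * vec chevE6 6 r 1)
      - (2 * vec chevE6 6 r 3 * vec chevE6 6 r 4 + (vec chevE6 6 r 4 + vec chevE6 6 r 2) * vec chevE6 6 r 3)
      - ((vec chevE6 6 r 4 + vec chevE6 6 r 2) * vec chevE6 6 r 5 +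
        (vec chevE6 6 r 5 + vec chevE6 6 r 0) * vec chevE6 6 r 4) := by decide +kernel

theorem reg (a : Fin 6 → ℤ) (ha : IsRoot CoxeterMatrix.E₆.toCoxeterSystem hp.isCartan a) : ¬ (3 : ℤ) ∣ B a a := by
  obtain ⟨r, hr, rfl⟩ := (isRoot_iff hp _ a).1 ha
  rw [B_eq]
  exact norm_roots ⟨r, hr⟩

end W

end Cfsg.Agent.H565.E6Lat
end

-- part: H565/E6Five
section
/-!
# Elements of order five commuting with the graph automorphism of `E₆`

* `mod_two` : a matrix `N` over `ZMod 2` with `N ^ 5 = 1` commuting with the graph automorphism is `1`;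
* `nine_dvd` : two commuting elements of order three.
-/

set_option autoImplicit false

namespace Cfsg.Agent.H565.E6Five

abbrev V := Fin 6 → ZMod 2

/-- the graph automorphism modulo two -/
def gp (x : V) : V := ![x 5, x 1, x 4, x 3, x 2, x 0]

theorem gp_add (x y : V) : gp (x + y) = gp x + gp y := by
  funext i
  fin_cases i <;> rfl

/-- the fixed vectors of `γ` -/
def K : AddSubgroup V where
  carrier := {x | gp x = x}
  zero_mem' := by
    show gp 0 = 0
    funext i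
    fin_cases i <;> rfl
  add_mem' := by
    intro a b ha hb
    show gp (a + b) = a + b
    rw [gp_add]
    exact congrArg₂ _ ha hb
  neg_mem' := by
    intro a ha
    show gp (-a) = -a
    have h1 : -a = a := by
      funext i
      exact ZMod.neg_eq_self_mod_two _
    rw [h1]
    exact ha

/-- the range of `γ - 1` -/
def R : AddSubgroup V where
  carrier := {x | ∃ z, gp z + z = x}
  zero_mem' := ⟨0, by funext i; fin_cases i <;> rfl⟩
  add_mem' := by
    rintro a b ⟨z, rfl⟩ ⟨w, rfl⟩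
    exact ⟨z + w, by rw [gp_add]; abel⟩
  neg_mem' := by
    rintro a ⟨z, rfl⟩
    refine ⟨z, ?_⟩
    funext i
    exact (ZMod.neg_eq_self_mod_two _).symm

theorem card_K : Nat.card K = 16 := by
  have h : Nat.card K = Nat.card {x : V // gp x = x} := rfl
  rw [h, Nat.card_eq_fintype_card]
  decide +kernel

theorem card_R : Nat.card R = 4 := by
  have h : Nat.card R = Nat.card {x : V // ∃ z, gp z + z = x} := rfl
  rw [h, Nat.card_eq_fintype_card]
  decide +kernel

theorem R_le_K : R ≤ K := by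
  rintro _ ⟨z, rfl⟩
  show gp (gp z + z) = gp z + z
  have : ∀ z : V, gp (gp z + z) = gp z + z := by decide +kernel
  exact this z

/-- the fixed vectors of `f` -/
def Fx (f : V →+ V) : AddSubgroup V where
  carrier := {x | f x = x}
  zero_mem' := map_zero f
  add_mem' := by
    intro a b ha hb
    show f (a + b) = a + b
    rw [map_add]
    exact congrArg₂ _ ha hb
  neg_mem' := by
    intro a ha
    show f (-a) = -a
    rw [map_neg]
    exact congrArg _ ha

theorem card_mod {f : V →+ V} (h5 : ∀ x, f (f (f (f (f x)))) = x) {U : AddSubgroup V} (hU : ∀ x ∈ U, f x ∈ U) :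
    Nat.card U ≡ Nat.card (Fx f ⊓ U : AddSubgroup V) [MOD 5] := by
  classical
  have : Fact (Nat.Prime 5) := ⟨by norm_num⟩
  let σ : Function.End U := fun x => ⟨f x, hU _ x.2⟩
  have hσ : σ ^ 5 ^ 1 = 1 := by
    funext x
    apply Subtype.ext
    exact h5 _
  have h1 := Equiv.Perm.card_fixedPoints_modEq (f := σ) (p := 5) (n := 1) hσ
  have h2 : Fintype.card (Function.fixedPoints σ) = Nat.card (Fx f ⊓ U : AddSubgroup V) := by
    rw [← Nat.card_eq_fintype_card]
    refine Nat.card_congr ⟨fun x => ⟨(x : U), ⟨congrArg Subtype.val x.2, (x : U).2⟩⟩, fun x => ⟨⟨x, x.2.2⟩, Subtype.ext x.2.1⟩,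
      fun x => rfl, fun x => rfl⟩
  rw [h2] at h1
  rw [Nat.card_eq_fintype_card (α := U)]
  exact h1

theorem eq_one {f : V →+ V} (h5 : ∀ x, f (f (f (f (f x)))) = x) (hc : ∀ x, f (gp x) = gp (f x)) (x : V) : f x = x := by
  have hR : ∀ x ∈ R, f x ∈ R := by
    rintro _ ⟨z, rfl⟩
    exact ⟨f z, by rw [map_add, hc]⟩
  have hK : ∀ x ∈ K, f x ∈ K := by
    intro z hz
    show gp (f z) = f z
    have h1 : gp z = z := hz
    rw [← hc, h1]
  have h1 := card_mod h5 hR
  have h2 := card_mod h5 hK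
  have h3 := card_mod h5 (U := ⊤) (fun x _ => AddSubgroup.mem_top _)
  rw [card_R] at h1
  rw [card_K] at h2
  have e3 : Nat.card (⊤ : AddSubgroup V) = 64 := by
    rw [AddSubgroup.card_top, Nat.card_eq_fintype_card]
    decide +kernel
  rw [e3] at h3
  have d1 : Nat.card (Fx f ⊓ R : AddSubgroup V) ∣ 2 ^ 2 := by
    have := AddSubgroup.card_dvd_of_le (inf_le_right : Fx f ⊓ R ≤ R)
    rwa [card_R] at this
  have d2 : Nat.card (Fx f ⊓ K : AddSubgroup V) ∣ 2 ^ 4 := by
    have := AddSubgroup.card_dvd_of_le (inf_le_right : Fx f ⊓ K ≤ K)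
    rwa [card_K] at this
  have d3 : Nat.card (Fx f ⊓ ⊤ : AddSubgroup V) ∣ 2 ^ 6 := by
    have := AddSubgroup.card_dvd_of_le (inf_le_right : Fx f ⊓ ⊤ ≤ ⊤)
    rwa [e3] at this
  obtain ⟨i1, hi1, e1⟩ := (Nat.dvd_prime_pow Nat.prime_two).1 d1
  obtain ⟨i2, hi2, e2⟩ := (Nat.dvd_prime_pow Nat.prime_two).1 d2
  obtain ⟨i3, hi3, e3'⟩ := (Nat.dvd_prime_pow Nat.prime_two).1 d3
  have c1 : Nat.card (Fx f ⊓ R : AddSubgroup V) = 4 := by
    rw [e1] at h1 ⊢
    unfold Nat.ModEq at h1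
    interval_cases i1 <;> simp_all only [_root_.AddSubgroup.mem_inf, _root_.le_top, _root_.inf_of_le_left, _root_.AddSubgroup.mem_top, _root_.Nat.card_eq_fintype_card, _root_.Fintype.card_subtype_true, _root_.Fintype.card_pi, _root_.ZMod.card, _root_.Finset.prod_const, _root_.Finset.card_univ, _root_.Fintype.card_fin, _root_.Nat.reducePow, _root_.Nat.mod_succ, _root_.pow_zero, _root_.Nat.one_mod, _root_.OfNat.ofNat_ne_one, _root_.pow_one, _root_.Nat.reduceMod, _root_.Nat.reduceEqDiff, _root_.Std.le_refl]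
  have f1 : Fx f ⊓ R = R := AddSubgroup.eq_of_le_of_card_ge inf_le_right (by rw [c1, card_R])
  have l1 : Fx f ⊓ R ≤ Fx f ⊓ K := inf_le_inf_left _ R_le_K
  have g1 := Nat.le_of_dvd Nat.card_pos (AddSubgroup.card_dvd_of_le l1)
  rw [c1] at g1
  have c2 : Nat.card (Fx f ⊓ K : AddSubgroup V) = 16 := by
    rw [e2] at h2 g1 ⊢
    unfold Nat.ModEq at h2
    interval_cases i2 <;> simp_all only [_root_.le_top, _root_.inf_of_le_left, _root_.AddSubgroup.mem_top, _root_.Nat.card_eq_fintype_card, _root_.Fintype.card_subtype_true, _root_.Fintype.card_pi, _root_.ZMod.card, _root_.Finset.prod_const, _root_.Finset.card_univ, _root_.Fintype.card_fin, _root_.Nat.reducePow, _root_.AddSubgroup.mem_inf, _root_.inf_eq_right, _root_.inf_of_le_right, _root_.le_inf_iff, _root_.true_and, _root_.Nat.reduceMod, _root_.pow_zero, _root_.Nat.one_mod, _root_.zero_le, _root_.Nat.not_ofNat_le_one, _root_.pow_one, _root_.OfNat.one_ne_ofNat, _root_.Nat.mod_succ,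 _root_.Std.le_refl, _root_.Nat.reduceLeDiff]
  have l2 : Fx f ⊓ K ≤ Fx f ⊓ ⊤ := inf_le_inf_left _ le_top
  have g2 := Nat.le_of_dvd Nat.card_pos (AddSubgroup.card_dvd_of_le l2)
  rw [c2] at g2
  have c3 : Nat.card (Fx f ⊓ ⊤ : AddSubgroup V) = 64 := by
    rw [e3'] at h3 g2 ⊢
    unfold Nat.ModEq at h3
    interval_cases i3 <;> simp_all only [_root_.AddSubgroup.mem_inf, _root_.AddSubgroup.mem_top, _root_.Nat.card_eq_fintype_card, _root_.Fintype.card_subtype_true, _root_.Fintype.card_pi, _root_.ZMod.card, _root_.Finset.prod_const, _root_.Finset.card_univ, _root_.Fintype.card_fin, _root_.Nat.reducePow, _root_.le_top, _root_.inf_of_le_left, _root_.inf_eq_right, _root_.inf_of_le_right, _root_.le_inf_iff, _root_.true_and, _root_.inf_le_left, _root_.Nat.reduceMod, _root_.pow_zero, _root_.Nat.one_mod, _root_.OfNat.ofNat_ne_one, _root_.pow_one, _root_.Nat.reduceEqDiff, _root_.Nat.mod_succ, _root_.Nat.reduceLeDiff, _root_.Nat.succ_ne_self,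 _root_.Std.le_refl]
  have f3 : Fx f ⊓ ⊤ = ⊤ := AddSubgroup.eq_of_le_of_card_ge inf_le_right (by rw [c3, e3])
  have h6 : x ∈ Fx f ⊓ ⊤ := by rw [f3]; exact AddSubgroup.mem_top _
  exact h6.1

/-- two commuting elements of order three -/
theorem nine_dvd {W : Type*} [Group W] [Finite W] {C : Subgroup W} {y z : W} (hy : y ∈ C) (hz : z ∈ C)
    (hy3 : y ^ 3 = 1) (hz3 : z ^ 3 = 1) (hc : y * z = z * y) (h0 : z ≠ 1) (h1 : y ≠ 1) (h2 : y ≠ z)
    (h3 : y ≠ z * z) : 3 ^ 2 ∣ Nat.card C := by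
  have : Fact (Nat.Prime 3) := ⟨Nat.prime_three⟩
  have oy : orderOf y = 3 := orderOf_eq_prime hy3 h1
  have oz : orderOf z = 3 := orderOf_eq_prime hz3 h0
  classical
  have hny : y ∉ Subgroup.zpowers z := by
    intro h
    rw [mem_zpowers_iff_mem_range_orderOf, oz] at h
    simp only [Finset.mem_image, Finset.mem_range] at h
    obtain ⟨n, hn, e⟩ := h
    interval_cases n
    · exact h1 (by rw [← e, pow_zero])
    · exact h2 (by rw [← e, pow_one])
    · exact h3 (by rw [← e, pow_two])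
  have hdis : Disjoint (Subgroup.zpowers y) (Subgroup.zpowers z) := by
    rw [disjoint_iff, ← Subgroup.card_eq_one]
    have h4 : Nat.card (Subgroup.zpowers y ⊓ Subgroup.zpowers z : Subgroup W) ∣ 3 := by
      have := Subgroup.card_dvd_of_le (inf_le_left : Subgroup.zpowers y ⊓ Subgroup.zpowers z ≤ Subgroup.zpowers y)
      rwa [Nat.card_zpowers, oy] at this
    rcases (Nat.dvd_prime Nat.prime_three).1 h4 with h5 | h5
    · exact h5
    · exfalso
      have h6 : Subgroup.zpowers y ⊓ Subgroup.zpowers z = Subgroup.zpowers y :=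
        Subgroup.eq_of_le_of_card_ge inf_le_left (by rw [h5, Nat.card_zpowers, oy])
      apply hny
      have h7 : y ∈ Subgroup.zpowers y ⊓ Subgroup.zpowers z := by rw [h6]; exact Subgroup.mem_zpowers y
      exact h7.2
  have hp : IsPGroup 3 (Subgroup.zpowers y ⊔ Subgroup.zpowers z : Subgroup W) := by
    refine IsPGroup.to_sup_of_normal_right' ?_ ?_ ?_
    · exact IsPGroup.of_card (n := 1) (by rw [Nat.card_zpowers, oy, pow_one])
    · exact IsPGroup.of_card (n := 1) (by rw [Nat.card_zpowers, oz, pow_one])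
    · rw [Subgroup.zpowers_le, Subgroup.mem_normalizer_iff]
      have key : ∀ u ∈ Subgroup.zpowers z, y * u = u * y := by
        rintro _ ⟨n, rfl⟩
        exact (show Commute y z from hc).zpow_right n
      intro u
      constructor
      · intro h
        rw [key u h, mul_inv_cancel_right]
        exact h
      · intro h
        have h8 := key _ h
        have h9 : y * u * y⁻¹ = u := by
          have : y * (y * u * y⁻¹) * y⁻¹ = y * u * y⁻¹ := by rw [h8, mul_inv_cancel_right]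
          exact mul_left_cancel (mul_right_cancel this)
        rwa [h9] at h
  have hle : Subgroup.zpowers y ⊔ Subgroup.zpowers z ≤ C :=
    sup_le (Subgroup.zpowers_le.2 hy) (Subgroup.zpowers_le.2 hz)
  have h9 : 9 ≤ Nat.card (Subgroup.zpowers y ⊔ Subgroup.zpowers z : Subgroup W) := by
    have h10 := Nat.card_le_card_of_injective
      (fun g : Subgroup.zpowers y × Subgroup.zpowers z =>
        (⟨(g.1 : W) * g.2, mul_mem (Subgroup.mem_sup_left g.1.2) (Subgroup.mem_sup_right g.2.2)⟩ :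
          (Subgroup.zpowers y ⊔ Subgroup.zpowers z : Subgroup W)))
      (fun a b hab => Subgroup.mul_injective_of_disjoint hdis (congrArg Subtype.val hab))
    rw [Nat.card_prod, Nat.card_zpowers, Nat.card_zpowers, oy, oz] at h10
    exact h10
  obtain ⟨n, hn⟩ := (IsPGroup.iff_card (p := 3)).1 hp
  have hn2 : 2 ≤ n := by
    by_contra hlt
    have : 3 ^ n ≤ 3 ^ 1 := Nat.pow_le_pow_right (by norm_num) (by omega)
    omega
  refine dvd_trans ?_ (Subgroup.card_dvd_of_le hle)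
  rw [hn]
  exact pow_dvd_pow 3 hn2

end Cfsg.Agent.H565.E6Five
end

-- part: H565/E6Elt
section
/-!
# Two commuting elements of order three of `W(E₆)` commuting with the graph automorphism; no element of order five

* `nine_dvd_CT` : `9 ∣ |CT hp θ|`, `θ = ± γ`;
* `five_not_dvd` : `5 ∤ |CT hp θ|`.
-/

set_option autoImplicit false
set_option linter.unusedSectionVars false

namespace Cfsg.Agent.H565.E6Elt

open CoxeterSystem Cfsg Cfsg.Lie Cfsg.Lie.ChevalleyDatum
open Cfsg.Agent.ChevalleyStructure Cfsg.Agent.ChevalleyStructure.Elts Cfsg.Agent.ChevalleyStructure.CoxeterGeom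
  Cfsg.Agent.ChevalleyStructure.CoxeterGeomTypes Cfsg.Agent.ChevalleyStructure.NPerm
open Cfsg.Agent.Tits.Roots Cfsg.Agent.Tits.Core Cfsg.Agent.Nodes Cfsg.Agent.Nodes.Reps Cfsg.Agent.Nodes.BNOf
  Cfsg.Agent.Nodes.RGDChev Cfsg.Agent.Nodes.Bruhat Cfsg.Agent.H129.WData
open Cfsg.Agent.H572.ExcA Cfsg.Agent.H572.ExcB Cfsg.Agent.H572.ExcC Cfsg.Agent.H572.LatQ Cfsg.Agent.H572.LatForm
open Cfsg.Agent.H795.NotAbRows Cfsg.Agent.H795.NotAbCert Cfsg.Agent.H795.NotAbData Cfsg.Agent.H795.NotAbData.E6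
  Cfsg.Agent.H720.TwFr
open Cfsg.Agent.H565.E6Lat (g comm_g)

/-- the chain of `y` -/
def yL : List (Fin 6 × Mat 6) := [
  (1, ![![1, 0, 0, 0, 0, 0], ![1, 1, 2, 3, 2, 1], ![0, 0, 1, 0, 0, 0], ![-1, -1, -2, -2, -2, -1], ![0, 0, 0, 0, 1, 0], ![0, 0, 0, 0, 0, 1]]),
  (3, ![![1, 0, 0, 0, 0, 0], ![1, 2, 2, 3, 2, 1], ![0, 0, 1, 0, 0, 0], ![-1, -1, -2, -2, -2, -1], ![0, 0, 0, 0, 1, 0], ![0, 0, 0, 0, 0, 1]]),
  (2, ![![1, 0, 0, 0, 0, 0], ![1, 2, 2, 3, 2, 1], ![0, 0, 1, 1, 0, 0], ![-1, -1, -2, -3, -2, -1], ![0, 0, 0, 1, 1, 0], ![0, 0, 0, 0, 0, 1]]),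
  (4, ![![1, 0, 1, 0, 0, 0], ![1, 2, 2, 3, 2, 1], ![0, 0, 0, 1, 0, 0], ![-1, -1, -2, -3, -2, -1], ![0, 0, 1, 1, 1, 0], ![0, 0, 0, 0, 0, 1]]),
  (3, ![![1, 0, 1, 0, 0, 0], ![1, 2, 2, 3, 2, 1], ![0, 0, 0, 1, 1, 0], ![-1, -1, -2, -3, -2, -1], ![0, 0, 1, 1, 0, 0], ![0, 0, 0, 0, 1, 1]]),
  (1, ![![1, 0, 1, 1, 0, 0], ![1, 2, 2, 3, 2, 1], ![0, 0, 0, 0, 1, 0], ![-1, -1, -2, -2, -2, -1], ![0, 0, 1, 0, 0, 0], ![0, 0, 0, 1, 1, 1]]),
  (0, ![![1, 1, 1, 1, 0, 0], ![1, 1, 2, 3, 2, 1], ![0, 0, 0, 0, 1, 0], ![-1, -1, -2, -2, -2, -1], ![0, 0, 1, 0, 0, 0], ![0, 1, 0, 1, 1, 1]]),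
  (5, ![![0, 1, 1, 1, 0, 0], ![1, 1, 2, 3, 2, 1], ![0, 0, 0, 0, 1, 0], ![-1, -1, -2, -2, -2, -1], ![1, 0, 1, 0, 0, 0], ![0, 1, 0, 1, 1, 1]]),
  (2, ![![0, 1, 1, 1, 0, 0], ![1, 1, 2, 3, 2, 1], ![0, 0, 0, 0, 1, 1], ![-1, -1, -2, -2, -2, -1], ![1, 0, 1, 0, 0, 0], ![0, 1, 0, 1, 1, 0]]),
  (4, ![![0, 1, 0, 1, 0, 0], ![1, 1, 2, 3, 2, 1], ![0, 0, 0, 0, 1, 1], ![-1, -1, -1, -2, -2, -1], ![1, 0, 0, 0, 0, 0], ![0, 1, 1, 1, 1, 0]]),
  (3, ![![0, 1, 0, 1, 1, 0], ![1, 1, 2, 3, 2, 1], ![0, 0, 0, 0, 0, 1], ![-1, -1, -1, -2, -1, -1], ![1, 0, 0, 0, 0, 0], ![0, 1, 1, 1, 0, 0]]),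
  (1, ![![0, 1, 0, 1, 1, 0], ![1, 1, 2, 2, 2, 1], ![0, 0, 0, 0, 0, 1], ![-1, -1, -1, -1, -1, -1], ![1, 0, 0, 0, 0, 0], ![0, 1, 1, 1, 0, 0]]),
  (2, ![![0, 0, 0, 1, 1, 0], ![1, 1, 2, 2, 2, 1], ![0, 0, 0, 0, 0, 1], ![-1, 0, -1, -1, -1, -1], ![1, 0, 0, 0, 0, 0], ![0, 0, 1, 1, 0, 0]]),
  (4, ![![0, 0, 1, 1, 1, 0], ![1, 1, 1, 2, 2, 1], ![0, 0, 0, 0, 0, 1], ![-1, 0, -1, -1, -1, -1], ![1, 0, 1, 0, 0, 0], ![0, 0, 0, 1, 0, 0]]),
  (3, ![![0, 0, 1, 1, 0, 0], ![1, 1, 1, 2, 1, 1], ![0, 0, 0, 0, 1, 1], ![-1, 0, -1, -1, -1, -1], ![1, 0, 1, 0, 0, 0], ![0, 0, 0, 1, 1, 0]]),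
  (0, ![![0, 0, 1, 0, 0, 0], ![1, 1, 1, 1, 1, 1], ![0, 0, 0, 1, 1, 1], ![-1, 0, -1, -1, -1, -1], ![1, 0, 1, 1, 0, 0], ![0, 0, 0, 0, 1, 0]]),
  (5, ![![1, 0, 1, 0, 0, 0], ![0, 1, 1, 1, 1, 1], ![0, 0, 0, 1, 1, 1], ![0, 0, -1, -1, -1, -1], ![0, 0, 1, 1, 0, 0], ![0, 0, 0, 0, 1, 0]]),
  (2, ![![1, 0, 1, 0, 0, 0], ![0, 1, 1, 1, 1, 0], ![0, 0, 0, 1, 1, 0], ![0, 0, -1, -1, -1, 0], ![0, 0, 1, 1, 0, 0], ![0, 0, 0, 0, 1, 1]]),
  (4, ![![1, 0, 0, 0, 0, 0], ![0, 1, 0, 1, 1, 0], ![0, 0, 1, 1, 1, 0], ![0, 0, 0, -1, -1, 0], ![0, 0, 0, 1, 0, 0], ![0, 0, 0, 0, 1, 1]]),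
  (3, ![![1, 0, 0, 0, 0, 0], ![0, 1, 0, 1, 0, 0], ![0, 0, 1, 1, 0, 0], ![0, 0, 0, -1, 0, 0], ![0, 0, 0, 1, 1, 0], ![0, 0, 0, 0, 0, 1]])]

theorem yOK : ChainOK Am yL :=
  H129.ChainF.ok H129.ChainF.i6 H129.ChainF.m6 (H129.ChainF.c6 <| H129.ChainF.c6 <| H129.ChainF.c6 <| H129.ChainF.c6 <| H129.ChainF.c6 <| H129.ChainF.c6 <| H129.ChainF.c6 <| H129.ChainF.c6 <| H129.ChainF.c6 <| H129.ChainF.c6 <| H129.ChainF.c6 <| H129.ChainF.c6 <| H129.ChainF.c6 <| H129.ChainF.c6 <| H129.ChainF.c6 <| H129.ChainF.c6 <| H129.ChainF.c6 <| H129.ChainF.c6 <| H129.ChainF.c6 <| H129.ChainF.c6 <| H129.ChainF.nil) (by decide +kernel)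

/-- the matrix of `y` -/
def yM : Mat 6 := ![![1, 0, 0, 0, 0, 0], ![1, 1, 2, 3, 2, 1], ![0, 0, 1, 0, 0, 0], ![-1, -1, -2, -2, -2, -1], ![0, 0, 0, 0, 1, 0], ![0, 0, 0, 0, 0, 1]]

/-- the element -/
noncomputable def y : CoxeterMatrix.E₆.Group := CoxeterMatrix.E₆.toCoxeterSystem.wordProd (yL.map Prod.fst)

theorem is_y (hp : IsType chevE6 6 CoxeterMatrix.E₆) : IsMat hp y yM := by
  have h := isMat_chain hp hA yOK
  have e : hd yL = yM := rfl
  rw [e] at h
  exact h

/-- the chain of `z` -/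
def zL : List (Fin 6 × Mat 6) := [
  (0, ![![0, 0, 1, 0, 0, 0], ![0, 1, 0, 0, 0, 0], ![-1, 0, -1, 0, 0, 0], ![1, 0, 1, 1, 1, 1], ![0, 0, 0, 0, -1, -1], ![0, 0, 0, 0, 1, 0]]),
  (5, ![![1, 0, 1, 0, 0, 0], ![0, 1, 0, 0, 0, 0], ![0, 0, -1, 0, 0, 0], ![0, 0, 1, 1, 1, 1], ![0, 0, 0, 0, -1, -1], ![0, 0, 0, 0, 1, 0]]),
  (2, ![![1, 0, 1, 0, 0, 0], ![0, 1, 0, 0, 0, 0], ![0, 0, -1, 0, 0, 0], ![0, 0, 1, 1, 1, 0], ![0, 0, 0, 0, -1, 0], ![0, 0, 0, 0, 1, 1]]),
  (4, ![![1, 0, 0, 0, 0, 0], ![0, 1, 0, 0, 0, 0], ![0, 0, 1, 0, 0, 0], ![0, 0, 0, 1, 1, 0], ![0, 0, 0, 0, -1, 0], ![0, 0, 0, 0, 1, 1]])]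

theorem zOK : ChainOK Am zL :=
  H129.ChainF.ok H129.ChainF.i6 H129.ChainF.m6 (H129.ChainF.c6 <| H129.ChainF.c6 <| H129.ChainF.c6 <| H129.ChainF.c6 <| H129.ChainF.nil) (by decide +kernel)

/-- the matrix of `z` -/
def zM : Mat 6 := ![![0, 0, 1, 0, 0, 0], ![0, 1, 0, 0, 0, 0], ![-1, 0, -1, 0, 0, 0], ![1, 0, 1, 1, 1, 1], ![0, 0, 0, 0, -1, -1], ![0, 0, 0, 0, 1, 0]]

/-- the element -/
noncomputable def z : CoxeterMatrix.E₆.Group := CoxeterMatrix.E₆.toCoxeterSystem.wordProd (zL.map Prod.fst)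

theorem is_z (hp : IsType chevE6 6 CoxeterMatrix.E₆) : IsMat hp z zM := by
  have h := isMat_chain hp hA zOK
  have e : hd zL = zM := rfl
  rw [e] at h
  exact h

/-- the matrix of the graph automorphism -/
def gM : Mat 6 := ![![0, 0, 0, 0, 0, 1], ![0, 1, 0, 0, 0, 0], ![0, 0, 0, 0, 1, 0], ![0, 0, 0, 1, 0, 0], ![0, 0, 1, 0, 0, 0], ![1, 0, 0, 0, 0, 0]]

theorem g_mat (j : Fin 6) : g (sr j) = gM j := by
  have h := perm6_mat j
  rw [show g (sr j) = permE rho6 (sr j) from rfl, h]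
  funext m
  (revert j m; decide +kernel)

variable (hp : IsType chevE6 6 CoxeterMatrix.E₆)

include hp in
theorem y_pow : y ^ 3 = 1 :=
  pow_three_eq_one (is_y hp) (V2 := ![![1, 0, 0, 0, 0, 0], ![-1, -2, -2, -3, -2, -1], ![0, 0, 1, 0, 0, 0], ![0, 1, 0, 1, 0, 0], ![0, 0, 0, 0, 1, 0], ![0, 0, 0, 0, 0, 1]]) (by decide +kernel) (by decide +kernel)

include hp in
theorem z_pow : z ^ 3 = 1 :=
  pow_three_eq_one (is_z hp) (V2 := ![![-1, 0, -1, 0, 0, 0], ![0, 1, 0, 0, 0, 0], ![1, 0, 0, 0, 0, 0], ![0, 0, 1, 1, 1, 0], ![0, 0, 0, 0, 0, 1], ![0, 0, 0, 0, -1, -1]]) (by decide +kernel) (by decide +kernel)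

theorem isMat_unique {w v : CoxeterMatrix.E₆.Group} {U : Mat 6} (hw : IsMat hp w U) (hv : IsMat hp v U) : w = v := by
  apply rep_injective CoxeterMatrix.E₆.toCoxeterSystem hp.isCartan
  apply LinearMap.ext
  intro x
  funext m
  rw [hw.apply, hv.apply]

theorem isMat_ne {w v : CoxeterMatrix.E₆.Group} {U V : Mat 6} (hw : IsMat hp w U) (hv : IsMat hp v V)
    (h : ∃ j m, U j m ≠ V j m) : w ≠ v := by
  rintro rfl
  obtain ⟨j, m, hjm⟩ := h
  apply hjm
  rw [← hw j, ← hv j]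

include hp in
theorem yz_comm : y * z = z * y :=
  isMat_unique hp ((is_y hp).mul (is_z hp) (Z := ![![0, 0, 1, 0, 0, 0], ![1, 1, 2, 3, 2, 1], ![-1, 0, -1, 0, 0, 0], ![0, -1, -1, -2, -1, 0], ![0, 0, 0, 0, -1, -1], ![0, 0, 0, 0, 1, 0]]) (by decide +kernel))
    ((is_z hp).mul (is_y hp) (by decide +kernel))

theorem mem_CT_of_mat {w : CoxeterMatrix.E₆.Group} {U : Mat 6} (hw : IsMat hp w U)
    (h : ∀ j m, ∑ n, gM j n * U n m = ∑ n, U j n * gM n m) {θ : (Fin 6 → ℤ) ≃+ (Fin 6 → ℤ)}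
    (hθ : (∀ x, θ x = g x) ∨ ∀ x, θ x = - g x) : w ∈ CT hp θ := by
  have key : ∀ x, ac hp w (g x) = g (ac hp w x) := by
    intro x
    refine addHom_ext (f := (ac hp w).comp g.toAddMonoidHom) (f' := g.toAddMonoidHom.comp (ac hp w)) (fun j => ?_) x
    show ac hp w (g (sr j)) = g (ac hp w (sr j))
    rw [g_mat]
    have h1 : ac hp w (sr j) = U j := hw j
    rw [h1]
    funext m
    have h2 : ac hp w (gM j) m = ∑ n, gM j n * U n m := hw.apply _ _
    have h3 : g (U j) m = ∑ n, U j n * gM n m := apply_of_sr (f := g.toAddMonoidHom) g_mat _ _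
    rw [h2, h3, h]
  intro x
  rcases hθ with h1 | h1
  · rw [h1, h1, key]
  · rw [h1, h1, map_neg, key]

/-- `9 ∣ |CT|` -/
theorem nine_dvd_CT {θ : (Fin 6 → ℤ) ≃+ (Fin 6 → ℤ)} (hθ : (∀ x, θ x = g x) ∨ ∀ x, θ x = - g x) :
    3 ^ 2 ∣ Nat.card (CT hp θ) := by
  have := finite_W hp (CoxeterMatrix.E₆.toCoxeterSystem)
  refine E6Five.nine_dvd (mem_CT_of_mat hp (is_y hp) (by decide +kernel) hθ)
    (mem_CT_of_mat hp (is_z hp) (by decide +kernel) hθ) (y_pow hp) (z_pow hp) (yz_comm hp) ?_ ?_ ?_ ?_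
  · exact isMat_ne hp (is_z hp) isMat_one (by decide +kernel)
  · exact isMat_ne hp (is_y hp) isMat_one (by decide +kernel)
  · exact isMat_ne hp (is_y hp) (is_z hp) (by decide +kernel)
  · exact isMat_ne hp (is_y hp) ((is_z hp).mul (is_z hp) (Z := ![![-1, 0, -1, 0, 0, 0], ![0, 1, 0, 0, 0, 0], ![1, 0, 0, 0, 0, 0], ![0, 0, 1, 1, 1, 0], ![0, 0, 0, 0, 0, 1], ![0, 0, 0, 0, -1, -1]]) (by decide +kernel)) (by decide +kernel)

/-- reduction modulo two -/
def pi2 (x : Fin 6 → ℤ) : E6Five.V := fun i => (x i : ZMod 2)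

theorem pi2_surj (v : E6Five.V) : ∃ x, pi2 x = v := by
  choose x hx using fun i => ZMod.intCast_surjective (v i)
  exact ⟨x, funext hx⟩

theorem pi2_g (x : Fin 6 → ℤ) : pi2 (g x) = E6Five.gp (pi2 x) := by
  funext i
  fin_cases i <;> rfl

/-- an element of order five commuting with `γ` is trivial -/
theorem eq_one_of_five {w : CoxeterMatrix.E₆.Group} (h5 : w ^ 5 = 1) (hc : ∀ x, ac hp w (g x) = g (ac hp w x)) :
    w = 1 := by
  let f : E6Five.V →+ E6Five.V :=
    { toFun := fun v m => ∑ n, v n * ((ac hp w (sr n) m : ℤ) : ZMod 2)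
      map_zero' := by
        funext m
        simp
      map_add' := fun a b => by
        funext m
        simp only [Pi.add_apply, add_mul, Finset.sum_add_distrib] }
  have hf : ∀ x, f (pi2 x) = pi2 (ac hp w x) := by
    intro x
    funext m
    have h1 : ac hp w x m = ∑ n, x n * ac hp w (sr n) m :=
      apply_of_sr (f := ac hp w) (U := fun n => ac hp w (sr n)) (fun _ => rfl) x m
    show ∑ n, pi2 x n * ((ac hp w (sr n) m : ℤ) : ZMod 2) = ((ac hp w x m : ℤ) : ZMod 2)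
    rw [h1]
    push_cast
    rfl
  have hf5 : ∀ v, f (f (f (f (f v)))) = v := by
    intro v
    obtain ⟨x, rfl⟩ := pi2_surj v
    rw [hf, hf, hf, hf, hf, ← ac_mul, ← ac_mul, ← ac_mul, ← ac_mul]
    have h1 : w * w * w * w * w = 1 := by rw [← h5]; simp only [pow_succ, pow_zero, one_mul]
    rw [h1, ac_one]
  have hfg : ∀ v, f (E6Five.gp v) = E6Five.gp (f v) := by
    intro v
    obtain ⟨x, rfl⟩ := pi2_surj v
    rw [← pi2_g, hf, hc, pi2_g, hf]
  have h1 := E6Five.eq_one hf5 hfg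
  have h2 : ∀ x i, (2 : ℤ) ∣ ac hp w x i - x i := by
    intro x i
    have h3 := congrFun (h1 (pi2 x)) i
    rw [hf] at h3
    have h4 : ((ac hp w x i : ℤ) : ZMod 2) = ((x i : ℤ) : ZMod 2) := h3
    rw [← sub_eq_zero, ← Int.cast_sub, ZMod.intCast_zmod_eq_zero_iff_dvd] at h4
    exact_mod_cast h4
  let N : Matrix (Fin 6) (Fin 6) ℤ := LinearMap.toMatrixAlgEquiv' (rep CoxeterMatrix.E₆.toCoxeterSystem hp.isCartan w)
  have hN5 : N ^ 5 = 1 := by
    show (LinearMap.toMatrixAlgEquiv' (rep CoxeterMatrix.E₆.toCoxeterSystem hp.isCartan w)) ^ 5 = 1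
    rw [← map_pow, ← map_pow, h5, map_one, map_one]
  have hN : N = 1 := by
    refine Cfsg.Agent.H566.PairW.minkowski Nat.prime_two (by norm_num : Nat.Prime 5) (by norm_num) hN5 (fun i j => ?_)
    have h3 := h2 (sr j) i
    have h4 : N i j = ac hp w (sr j) i := by
      show (LinearMap.toMatrixAlgEquiv' (rep CoxeterMatrix.E₆.toCoxeterSystem hp.isCartan w)) i j = _
      rw [LinearMap.toMatrixAlgEquiv'_apply]
      rfl
    have h5 : (1 : Matrix (Fin 6) (Fin 6) ℤ) i j = (sr j : Fin 6 → ℤ) i := by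
      rw [Matrix.one_apply, sr_apply']
      by_cases h : i = j
      · rw [if_pos h, if_pos h.symm]
      · rw [if_neg h, if_neg (Ne.symm h)]
    rw [Matrix.sub_apply, h4, h5]
    exact_mod_cast h3
  have h6 : rep CoxeterMatrix.E₆.toCoxeterSystem hp.isCartan w = 1 := by
    apply LinearMap.toMatrixAlgEquiv'.injective
    rw [map_one]
    exact hN
  apply rep_injective CoxeterMatrix.E₆.toCoxeterSystem hp.isCartan
  rw [h6, map_one]

/-- `5 ∤ |CT|` -/
theorem five_not_dvd {θ : (Fin 6 → ℤ) ≃+ (Fin 6 → ℤ)} (hθ : (∀ x, θ x = g x) ∨ ∀ x, θ x = - g x) :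
    ¬ 5 ∣ Nat.card (CT hp θ) := by
  intro h
  have := finite_W hp (CoxeterMatrix.E₆.toCoxeterSystem)
  have : Fact (Nat.Prime 5) := ⟨by norm_num⟩
  obtain ⟨w, hw⟩ := exists_prime_orderOf_dvd_card' 5 h
  have h1 : w ^ 5 = 1 := by rw [← hw]; exact pow_orderOf_eq_one w
  have h2 : (w : CoxeterMatrix.E₆.Group) = 1 :=
    eq_one_of_five hp (by exact_mod_cast congrArg Subtype.val h1) (comm_g hp hθ w.2)
  have h3 : w = 1 := Subtype.ext h2
  rw [h3, orderOf_one] at hw
  norm_num at hw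

end Cfsg.Agent.H565.E6Elt
end

-- part: H565/RowP1
section
/-!
# `PairN t 3` for `E₆(q)`, `q ≡ 2 (3)`, and `²E₆(q)`, `q ≡ 1 (3)` (S4350)

* `pair_row` : `θ = ε γ`, `3 ^ a ∣ r ^ e - ε`;
* `pairN_E6`, `pairN_twE6`.
-/

set_option autoImplicit false
set_option linter.unusedSectionVars false

namespace Cfsg.Agent.H565.RowP1

open CoxeterSystem Cfsg Cfsg.Lie Cfsg.Lie.ChevalleyDatum
open Cfsg.Agent.ChevalleyStructure Cfsg.Agent.ChevalleyStructure.Elts Cfsg.Agent.ChevalleyStructure.CoxeterGeom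
  Cfsg.Agent.ChevalleyStructure.CoxeterGeomTypes Cfsg.Agent.ChevalleyStructure.NPerm
open Cfsg.Agent.Tits.Roots Cfsg.Agent.Tits.Core Cfsg.Agent.Nodes Cfsg.Agent.Nodes.Reps Cfsg.Agent.Nodes.BNOf
  Cfsg.Agent.Nodes.RGDChev Cfsg.Agent.Nodes.Bruhat
open Cfsg.Agent.KFacts.RgdField Cfsg.Agent.KFacts.RgdChevCoord Cfsg.Agent.BpExc.TorCent Cfsg.Agent.BpExc.TorChev
open Cfsg.Agent.GpExc.Field Cfsg.Agent.BpExc.Tow Cfsg.Agent.BpExc.TowChev Cfsg.Agent.BpExc.Fr
  Cfsg.Agent.BpExc.LangFr Cfsg.Agent.H129.TorusChar Cfsg.Agent.H129.TorusMain Cfsg.Agent.H123.ExcZ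
open Cfsg.Agent.BpExc Cfsg.Agent.H795.LangT Cfsg.Agent.H795.Core Cfsg.Agent.H795.NotAbT
open Cfsg.Agent.H572.ExcA Cfsg.Agent.H572.ExcB Cfsg.Agent.H572.ExcC Cfsg.Agent.H572.ExcD Cfsg.Agent.H572.ExcE
  Cfsg.Agent.H572.LatQ Cfsg.Agent.H572.LatForm
open Cfsg.Agent.H129.TorusUntw (phi isFrob_phi fr_phi phi_emb coe_phi fix_range fix_split exists_closure)
open Cfsg.Agent.H795.Untw Cfsg.Agent.H795.NotAbRows Cfsg.Agent.BpExc.RowsUntw Cfsg.Agent.PRankPar.CardW
open Cfsg.Agent.H795.NotAbCert Cfsg.Agent.H720.TwFr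
open Cfsg.Agent.H553.OddHall Cfsg.Agent.H565.E6Lat Cfsg.Agent.H565.E6Elt Cfsg.Agent.H565.CharCnt
open Subgroup

universe u v

section Row

variable {hp : IsType chevE6 6 CoxeterMatrix.E₆}
  {k : Type u} [Field k] [IsAlgClosed k] {hk : LocFin k} {r e : ℕ} [Fact r.Prime] [CharP k r]
  {G : Type v} [Group G] {κ : G →* ↥(chevE6.group k)} {τ : MulAut ↥(chevE6.group k)}
  {θ : (Fin 6 → ℤ) ≃+ (Fin 6 → ℤ)}

/-- the functionals fixed by `γ` -/
def Psi (N : ℕ) : (Fin 4 → ZMod N) →+ ((Fin 6 → ℤ) →+ ZMod N) where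
  toFun v :=
    { toFun := fun x => v 0 * ((x 0 + x 5 : ℤ) : ZMod N) + v 1 * ((x 2 + x 4 : ℤ) : ZMod N) +
        v 2 * ((x 1 : ℤ) : ZMod N) + v 3 * ((x 3 : ℤ) : ZMod N)
      map_zero' := by simp
      map_add' := fun x y => by
        simp only [Pi.add_apply]
        push_cast
        ring }
  map_zero' := AddMonoidHom.ext fun x => by simp
  map_add' v w := AddMonoidHom.ext fun x => by
    simp only [AddMonoidHom.coe_mk, ZeroHom.coe_mk, AddMonoidHom.add_apply, Pi.add_apply]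
    ring

theorem Psi_apply {N : ℕ} (v : Fin 4 → ZMod N) (x : Fin 6 → ℤ) :
    Psi N v x = v 0 * ((x 0 + x 5 : ℤ) : ZMod N) + v 1 * ((x 2 + x 4 : ℤ) : ZMod N) +
        v 2 * ((x 1 : ℤ) : ZMod N) + v 3 * ((x 3 : ℤ) : ZMod N) := rfl

theorem Psi_inj (N : ℕ) : Function.Injective (Psi N) := by
  rw [injective_iff_map_eq_zero]
  intro v hv
  have h : ∀ x, Psi N v x = 0 := fun x => by rw [hv]; rfl
  have h0 := h ![1, 0, 0, 0, 0, 0]
  have h1 := h ![0, 0, 1, 0, 0, 0]
  have h2 := h ![0, 1, 0, 0, 0, 0]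
  have h3 := h ![0, 0, 0, 1, 0, 0]
  rw [Psi_apply] at h0 h1 h2 h3
  simp only [_root_.Fin.isValue, _root_.Matrix.cons_val_zero, _root_.Matrix.cons_val, _root_.add_zero, _root_.Int.cast_one, _root_.mul_one, _root_.Int.cast_zero, _root_.MulZeroClass.mul_zero, _root_.Matrix.cons_val_one, _root_.zero_add] at h0 h1 h2 h3
  funext i
  fin_cases i
  · exact h0
  · exact h1
  · exact h2
  · exact h3

theorem Psi_g {N : ℕ} (v : Fin 4 → ZMod N) (x : Fin 6 → ℤ) : Psi N v (g x) = Psi N v x := by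
  obtain ⟨a0, a1, a2, a3, a4, a5⟩ := g_apply x
  rw [Psi_apply, Psi_apply, a0, a1, a2, a3, a4, a5, add_comm (x 5), add_comm (x 4)]

theorem B_g (hp : IsType chevE6 6 CoxeterMatrix.E₆) (x y : Fin 6 → ℤ) : B (g x) y = B x y := by
  show b (g x + g (g x)) y = b (x + g x) y
  rw [g_g, add_comm]

/-- **The row.** -/
theorem pair_row [Finite G] {ε : ℤ} (h : Emb hp r e κ τ θ) (hθ : ∀ x, θ x = ε • g x) (hε : ε = 1 ∨ ε = -1)
    (hmem : ∀ y, τ y = y → ∃ x, κ x = y) (h3r : 3 ≠ r) {a : ℕ} (ha : 0 < a)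
    (hq : ((3 ^ a : ℕ) : ℤ) ∣ (r : ℤ) ^ e - ε) (hord : ¬ 3 ^ (4 * a + 3) ∣ Nat.card G) (hk : LocFin k)
    {t : ℕ} [ht : Fact t.Prime] (ht2 : t ≠ 2) (ht3 : t ≠ 3)
    (hW : Nat.card CoxeterMatrix.E₆.Group = 51840) : PairN t 3 G := by
  have hWf := finite_W hp (CoxeterMatrix.E₆.toCoxeterSystem)
  have : Fact (Nat.Prime 3) := ⟨Nat.prime_three⟩
  have hθ' : (∀ x, θ x = g x) ∨ ∀ x, θ x = - g x := by
    rcases hε with h1 | h1
    · exact Or.inl fun x => by rw [hθ, h1, one_smul]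
    · exact Or.inr fun x => by rw [hθ, h1, neg_smul, one_smul]
  have hB := invC_E6
  have hcast : ∀ n, 0 < n → n ≤ a → ((r ^ e : ℕ) : ZMod (3 ^ n)) = (ε : ZMod (3 ^ n)) := by
    intro n _ hn
    have h1 : ((3 ^ n : ℕ) : ℤ) ∣ (r : ℤ) ^ e - ε :=
      dvd_trans (Int.natCast_dvd_natCast.2 (pow_dvd_pow 3 hn)) hq
    have h2 := (ZMod.intCast_zmod_eq_zero_iff_dvd _ _).2 h1
    push_cast at h2 ⊢
    exact sub_eq_zero.1 h2
  obtain ⟨ζ, hζ⟩ := exists_zeta_pow (k := k) (r := r) (s := 3) (a := a) h3r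
  obtain ⟨ζ₁, hζ₁⟩ := exists_zeta_pow (k := k) (r := r) (s := 3) (a := 1) h3r
  have hNz : NeZero (3 ^ a) := ⟨(pow_pos (by norm_num) a).ne'⟩
  have hNz1 : NeZero (3 ^ 1) := ⟨by norm_num⟩
  have hneg : ∀ n (c : (Fin 6 → ℤ) →+ ZMod (3 ^ n)), 0 < n → n ≤ a → (∀ x, c (g x) = c x) →
      ∀ x, c (θ x) = ((r ^ e : ℕ) : ZMod (3 ^ n)) * c x := by
    intro n c hn0 hn hc x
    rw [hθ, map_zsmul, hc, hcast n hn0 hn, zsmul_eq_mul]
  have R : Row hp hk κ θ 3 r ζ₁ B ee (4 * a) 2 := by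
    refine ⟨?_, ?_, hord, fdata hp hθ', by rwa [pow_one] at hζ₁, ?_, reg hp⟩
    · have h1 := card_dvd_TG hp (κ := κ) hB three_ne_zero h.inj h.frob h.fr hζ
        (fun t _ ht _ => hmem t ht) (Psi (3 ^ a)) (Psi_inj _)
        (fun v x => hneg a (Psi (3 ^ a) v) ha le_rfl (Psi_g v) x)
      have h2 : Nat.card (Fin 4 → ZMod (3 ^ a)) = 3 ^ (4 * a) := by
        rw [Nat.card_fun, Nat.card_zmod, Nat.card_eq_fintype_card, Fintype.card_fin, ← pow_mul, mul_comm]
      rwa [h2] at h1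
    · refine (nine_dvd_CT hp hθ').trans (Subgroup.card_dvd_of_le ?_)
      exact le_im (κ := κ) hk hB three_ne_zero h.e_pos h.frob h.fr hmem
    · intro y
      let c : (Fin 6 → ℤ) →+ ZMod (3 ^ 1) :=
        { toFun := fun x => ((B x y : ℤ) : ZMod (3 ^ 1))
          map_zero' := by
            have h1 := (isForm_B hp).add 0 0 y
            rw [add_zero] at h1
            have h2 : B 0 y = 0 := by omega
            rw [h2, Int.cast_zero]
          map_add' := fun x z => by rw [(isForm_B hp).add, Int.cast_add] }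
      obtain ⟨t, ht, hct, htN, hτt⟩ := exists_tor_fix hp hB three_ne_zero h.frob h.fr hζ₁ c
        (fun x => hneg 1 c one_pos ha (fun x => by
          show ((B (g x) y : ℤ) : ZMod (3 ^ 1)) = ((B x y : ℤ) : ZMod (3 ^ 1))
          rw [B_g hp]) x)
      obtain ⟨x, rfl⟩ := hmem t hτt
      refine ⟨x, ht, h.inj ?_, fun z => ?_⟩
      · rw [map_pow, map_one]
        exact htN
      · rw [hct]
        exact zpow_eq_pow_val hζ₁ _
  refine pairN_three ht2 ht3 h hB three_ne_zero R (0 : Fin 6) (fun i => if i = 0 then 0 else 1) ?_ span_ee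
    (a := ![0, 0, 1, 0, 0, 0]) (b := ![1, 0, 0, 0, 0, 0]) (c := ![0, 0, 1, 1, 0, 0])
    (by rw [B_eq]; rfl) (by rw [B_eq]; rfl) (by rw [B_eq]; rfl) (by rw [B_eq]; rfl) (by rw [B_eq]; rfl)
    (by rw [B_eq]; rfl) ?_
  · intro i
    by_cases hi : i = 0
    · exact Or.inl hi
    · refine Or.inr ⟨0, by rw [if_pos rfl, if_neg hi]; exact one_pos, ?_⟩
      rw [B_eq]
      revert hi
      revert i
      decide +kernel
  · intro H hH _ _ htH
    have h1 : t ∣ Nat.card (CT hp θ) := htH.trans (Subgroup.card_dvd_of_le hH)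
    have h2 : t ∣ 51840 := by rw [← hW]; exact h1.trans (Subgroup.card_subgroup_dvd_card _)
    have h3 : t = 5 := by
      have h4 : t ∣ 2 ^ 7 * 3 ^ 4 * 5 := by norm_num; exact h2
      rcases (ht.out.dvd_mul).1 h4 with h5 | h5
      · rcases (ht.out.dvd_mul).1 h5 with h6 | h6
        · exact absurd ((Nat.prime_dvd_prime_iff_eq ht.out Nat.prime_two).1 (ht.out.dvd_of_dvd_pow h6)) ht2
        · exact absurd ((Nat.prime_dvd_prime_iff_eq ht.out Nat.prime_three).1 (ht.out.dvd_of_dvd_pow h6)) ht3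
      · exact (Nat.prime_dvd_prime_iff_eq ht.out Nat.prime_five).1 h5
    subst h3
    exact five_not_dvd hp hθ' h1

end Row

theorem refl_trans (hp : IsType chevE6 6 CoxeterMatrix.E₆) (w : CoxeterMatrix.E₆.Group) (x : Fin 6 → ℤ) :
    ((AddEquiv.refl (Fin 6 → ℤ)).trans (repAut CoxeterMatrix.E₆.toCoxeterSystem hp.isCartan w)) x =
      rep CoxeterMatrix.E₆.toCoxeterSystem hp.isCartan w x := rfl

theorem card_W6 : Nat.card CoxeterMatrix.E₆.Group = 51840 := S1093.result (⟨6, CoxeterMatrix.E₆⟩, 51840) (by simp)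

/-- `E₆(q)`, `q ≡ 2 (3)` -/
theorem pairN_E6 {F : Type u} [Field F] [Fintype F] (h3 : (3 : F) ≠ 0) (hq3 : Fintype.card F % 3 = 2) {t : ℕ}
    [ht : Fact t.Prime] (ht2 : t ≠ 2) (ht3 : t ≠ 3) : PairN t 3 ↥(chevE6.group F) := by
  obtain ⟨r, e, hr, hrF, hrk, he, hqF, hk⟩ := _root_.Cfsg.Agent.H129.TorusUntw.exists_closure (F := F) rfl
  have h3r : 3 ≠ r := by
    rintro rfl
    exact h3 (by exact_mod_cast CharP.cast_eq_zero F 3)
  have hGf : Finite ↥(chevE6.group F) := inferInstance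
  have hroot : ∀ a : F, ∃ b : F, b ^ 3 = a := exists_root_of_coprime three_ne_zero (by
    refine Nat.Coprime.symm ((Nat.Prime.coprime_iff_not_dvd Nat.prime_three).2 fun h2 => ?_)
    omega)
  have hset := setup_untw_all hp6 hk (algebraMap F (AlgebraicClosure F)) he hqF invC_E6 three_ne_zero hroot 3
  obtain ⟨κ, τ, z, hE, hκ, hb⟩ := _root_.Cfsg.Agent.H572.ExcD.exists_emb (hp := hp6) hk hset.inj he hset.frob hset.fr hset.fix hset.fin
    Cfsg.Agent.H795.NotAbData.E6.c6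
  have hq1 : (3 : ℤ) ∣ (Fintype.card F : ℤ) - (-1) := by omega
  obtain ⟨a, ha, ha1, ha2⟩ := exists_exp Nat.prime_three (Fintype.one_lt_card (α := F)) (Or.inr rfl) hq1
  refine pair_row hE (ε := -1) (fun x => ?_) (Or.inr rfl) (fun y hy => ?_) h3r ha ?_
    (Cfsg.Agent.H169.ExcOrd.E6_three_two rfl ha ha1 ha2 hq3) hk ht2 ht3 card_W6
  · have h1 := eps_of_mat (hp := hp6) (g := permE rho6) (w := Cfsg.Agent.H795.NotAbData.E6.c6)
      (U := Cfsg.Agent.H795.NotAbData.E6.c6M) (ε := -1) perm6_mat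
      (Cfsg.Agent.H795.NotAbData.E6.is_c6 hp6) (by decide +kernel) (g x)
    have h2 : permE rho6 (g x) = x := g_g x
    rw [h2] at h1
    rw [refl_trans hp6, h1]
  · obtain ⟨x, hx⟩ := fix_range hp6 CoxeterMatrix.E₆.toCoxeterSystem (algebraMap F (AlgebraicClosure F)) hqF invC_E6
      three_ne_zero hroot (hb y hy)
    refine ⟨x, ?_⟩
    rw [hκ, hx]
    group
  · have h1 := dvd_of_sq Nat.prime_three (by norm_num) (Fintype.card_pos) (Or.inr rfl) hq1 ha1
    rw [hqF] at h1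
    push_cast at h1 ⊢
    exact h1

/-- `²E₆(q)`, `q ≡ 1 (3)` -/
theorem pairN_twE6 {F : Type u} [Field F] [Fintype F] {q : ℕ} (h3 : (3 : F) ≠ 0) (hq : IsPrimePow q)
    (hF : Fintype.card F = q ^ 2) (hq3 : q % 3 = 1) {t : ℕ}
    [ht : Fact t.Prime] (ht2 : t ≠ 2) (ht3 : t ≠ 3) : PairN t 3 ↥(twistedE6 F q) := by
  obtain ⟨r, n, hr, hrF, hrk, hn0, hn, hk⟩ := Cfsg.Agent.H795.Tw.exists_closure_q two_ne_zero hq hF
  have hpr : 3 ≠ r := by
    rintro rfl
    exact h3 (by exact_mod_cast CharP.cast_eq_zero F 3)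
  have hG : Finite ↥(twistedE6 F q) := inferInstance
  have : Fact (Nat.Prime 5) := ⟨by norm_num⟩
  have hset := Cfsg.Agent.H795.Tw.setup_six (algebraMap F (AlgebraicClosure F)) r hk hn0 hn hF (p := 5) (by norm_num)
  obtain ⟨κ, τ, z, hE, hκ, hb⟩ := _root_.Cfsg.Agent.H572.ExcD.exists_emb (hp := hp6) hk hset.inj hn0 hset.frob hset.fr hset.fix hset.fin 1
  have hq1 : (3 : ℤ) ∣ (q : ℤ) - 1 := by omega
  obtain ⟨a, ha, ha1, ha2⟩ := exists_exp Nat.prime_three hq.two_le (Or.inl rfl) hq1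
  refine pair_row hE (ε := 1) (fun x => ?_) (Or.inl rfl) (fun y hy => ?_) hpr ha ?_
    (Cfsg.Agent.H169.ExcOrd.twE6_three_one hq hF ha ha1 ha2 hq3) hk ht2 ht3 card_W6
  · show rep CoxeterMatrix.E₆.toCoxeterSystem hp6.isCartan 1 (permE rho6 x) = (1 : ℤ) • g x
    rw [map_one, Module.End.one_apply, one_smul]
  · have h1 := desc6 (algebraMap F (AlgebraicClosure F)) r hk hn0 hn hF (hb y hy)
    have h2 : Nat.gcd 3 (q + 1) = 1 := by
      refine (Nat.Prime.coprime_iff_not_dvd Nat.prime_three).2 fun h5 => ?_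
      omega
    rw [h2, pow_one] at h1
    obtain ⟨x, hx⟩ := h1
    refine ⟨x, ?_⟩
    rw [hκ, hx]
    group
  · have h1 := dvd_of_sq Nat.prime_three (by norm_num) (le_trans (by norm_num) hq.two_le) (Or.inl rfl) hq1 ha1
    rw [hn] at h1
    push_cast at h1 ⊢
    exact h1

end Cfsg.Agent.H565.RowP1
end

-- part: H553/ExcFull
section
/-!
# The exceptional rows of S4350, without hypotheses

* `oddC_isoE6`, `oddC_iso2E6`, `oddC_isoE7`, `oddC_isoE8` : `OddC G`.
-/

set_option autoImplicit false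

namespace Cfsg.Agent.H553.ExcFull

open Subgroup Cfsg Cfsg.Lie Cfsg.Agent.H553.OddHall

universe u

variable {G : Type u} [Group G] [Finite G]

theorem oddC_isoE6 (h : Lie.IsoChevE6 G) : OddC G := by
  refine H572.ExcRow.oddC_isoE6 (fun F _ _ h3 hq t ht h3t => ?_) h
  have : Fact t.Prime := ⟨ht⟩
  exact H565.RowP1.pairN_E6 h3 hq (by omega) (by omega)

theorem oddC_iso2E6 (h : Lie.Iso2E6 G) : OddC G := by
  refine H572.ExcRow.oddC_iso2E6 (fun F _ _ q h3 hq hF hq3 t ht h3t => ?_) h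
  have : Fact t.Prime := ⟨ht⟩
  exact H565.RowP1.pairN_twE6 h3 hq hF hq3 (by omega) (by omega)

theorem oddC_isoE7 (h : Lie.IsoE7 G) : OddC G := by
  refine H572.ExcRow.oddC_isoE7 (fun F _ _ h5 hq => ?_) h
  refine H565.NM.pairN_of_noMin (by norm_num) (by norm_num) (by norm_num) (by norm_num) (by norm_num) ?_
  refine H169.NoMinE7.noMin_e7_five_seven F (by exact_mod_cast h5) ?_
  rw [Nat.card_eq_fintype_card]
  intro h1
  have h2 : 1 ≤ Fintype.card F ^ 2 := Nat.one_le_pow _ _ Fintype.card_pos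
  omega

theorem oddC_isoE8 (h : Lie.IsoE8 G) : OddC G := by
  refine H572.ExcRow.oddC_isoE8 (fun F _ _ h5 hq t ht h5t => ?_) h
  refine H574.ExcE8Five.pairN_E8_five hq ht ?_
  by_contra hlt
  have : t = 6 := by omega
  rw [this] at ht
  exact absurd ht (by norm_num)

end Cfsg.Agent.H553.ExcFull
end

private theorem dce_ac387c8d398e : _root_.True := by
  try have : _root_.True := by simp only [_root_.Cfsg.Agent.H795.NotAbData.E6.Am.eq_1]
  try have : _root_.True := by simp only [_root_.Cfsg.Agent.H565.E6Lat.rho2.eq_1]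
  try have : _root_.True := by simp only [_root_.Cfsg.Agent.H565.E6Lat.ee.eq_1]
  exact _root_.True.intro
end
end
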