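import Cfsg.Agent.OddOrderLocal.Thm34Weights
import Cfsg.Agent.FastGrp
import Cfsg.Agent.Prune
set_option linter.all false
prune_inst 0x7f00000000000000000000000000000000000000000000000000000000000000000000000000000000000000000000000000000000000000000000000000000000000000000000000000000000000000003fffffffffffffffffffffffffffbeffbdffffffff
open scoped Cfsg.Agent.FastGrp

/-!
# Groups of small degree are abelian (helper556)

`V` a space of dimension `n` over a field `F`, `A` a finite group acting faithfully on `V`, `|A|` prime to the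
characteristic and all prime divisors of `|A|` are larger than `n`. Then `A` is abelian.
-/

set_option autoImplicit false

namespace Cfsg.Agent.H556.SmallAb

open Module Cfsg.Agent.OddOrderLocal.Thm34Weights

variable {F : Type*} [Field F] {G : Type*} [Group G] [Finite G] {V : Type*} [AddCommGroup V] [Module F V]
  [FiniteDimensional F V]

/-- elements which normalise an abelian subgroup centralise it -/
theorem weights [IsAlgClosed F] (ρ : Representation F G V) (hc : (Nat.card G : F) ≠ 0)
    (hp : ∀ r : ℕ, r.Prime → r ∣ Nat.card G → finrank F V < r) {D : Subgroup G}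
    (hD : ∀ a ∈ D, ∀ b ∈ D, a * b = b * a) {g : G} (hg : g ∈ Subgroup.normalizer (D : Set G)) {d : G} (hd : d ∈ D) :
    ρ (g * d * g⁻¹) = ρ d := by
  classical
  have hDc : (Nat.card D : F) ≠ 0 := by
    intro h
    obtain ⟨c, hc'⟩ := Subgroup.card_subgroup_dvd_card D
    exact hc (by rw [hc', Nat.cast_mul, h, zero_mul])
  have hgD : ∀ x : D, g⁻¹ * x * g ∈ D := fun x => by
    have := (Subgroup.mem_normalizer_iff.mp hg (g⁻¹ * x * g)).mpr
      (by simp [mul_assoc])
    simpa using this
  -- the action on the weights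
  let σ : (D → F) → (D → F) := fun χ x => χ ⟨g⁻¹ * x * g, hgD x⟩
  have hσ : ∀ (n : ℕ) (χ : D → F) (v : V), v ∈ wt ρ D χ → ρ (g ^ n) v ∈ wt ρ D (σ^[n] χ) := by
    intro n
    induction n with
    | zero => intro χ v hv; simpa using hv
    | succ n ih =>
      intro χ v hv
      rw [Function.iterate_succ', Function.comp_apply, pow_succ', map_mul, End.mul_apply]
      have h1 := ih χ v hv
      rw [mem_wt] at h1 ⊢
      intro k
      have h2 := h1 ⟨g⁻¹ * k * g, hgD k⟩
      show ρ k (ρ g (ρ (g ^ n) v)) = (σ^[n] χ) ⟨g⁻¹ * k * g, hgD k⟩ • ρ g (ρ (g ^ n) v)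
      generalize ρ (g ^ n) v = u at h2
      rw [← map_smul, ← h2, ← End.mul_apply, ← End.mul_apply, ← map_mul, ← map_mul]
      congr 2
      group
  have hper : ∀ χ : D → F, wt ρ D χ ≠ ⊥ → σ^[orderOf g] χ = χ := by
    intro χ hχ
    obtain ⟨v, hv, hv0⟩ := Submodule.exists_mem_ne_zero_of_ne_bot hχ
    have h1 := hσ (orderOf g) χ v hv
    rw [pow_orderOf_eq_one, map_one, End.one_apply] at h1
    funext k
    rw [mem_wt] at h1 hv
    have h2 := (h1 k).symm.trans (hv k)
    rw [← sub_eq_zero, ← sub_smul] at h2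
    rcases smul_eq_zero.mp h2 with h | h
    · exact sub_eq_zero.mp h
    · exact absurd h hv0
  have hfix : ∀ χ : D → F, wt ρ D χ ≠ ⊥ → σ χ = χ := by
    intro χ hχ
    by_contra hne
    set k := Function.minimalPeriod σ χ with hk
    have hk1 : k ≠ 1 := fun h => hne (Function.minimalPeriod_eq_one_iff_isFixedPt.mp (hk ▸ h))
    have hkd : k ∣ orderOf g := Function.IsPeriodicPt.minimalPeriod_dvd (hper χ hχ)
    have hk0 : 0 < k := Nat.pos_of_dvd_of_pos hkd (orderOf_pos g)
    obtain ⟨r, hr, hrk⟩ := Nat.exists_prime_and_dvd hk1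
    have h1 : finrank F V < r := hp r hr (hrk.trans (hkd.trans (orderOf_dvd_natCard g)))
    have h2 : r ≤ k := Nat.le_of_dvd hk0 hrk
    have hinj : Function.Injective fun i : Fin k => σ^[(i : ℕ)] χ := by
      intro i j hij
      apply Fin.ext
      exact Function.iterate_injOn_Iio_minimalPeriod (f := σ) (x := χ) i.2 j.2 hij
    have h3 : iSupIndep fun i : Fin k => wt ρ D (σ^[(i : ℕ)] χ) := (indep_wt ρ D hDc hD).comp hinj
    obtain ⟨v, hv, hv0⟩ := Submodule.exists_mem_ne_zero_of_ne_bot hχ
    have hne' : ∀ i : Fin k, wt ρ D (σ^[(i : ℕ)] χ) ≠ ⊥ := by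
      intro i hbot
      have h4 := hσ i χ v hv
      rw [hbot, Submodule.mem_bot] at h4
      apply hv0
      have h5 : ρ (g ^ (i : ℕ))⁻¹ (ρ (g ^ (i : ℕ)) v) = v := by
        rw [← End.mul_apply, ← map_mul, inv_mul_cancel, map_one, End.one_apply]
      rw [← h5, h4, map_zero]
    have h4 : Fintype.card {i : Fin k // wt ρ D (σ^[(i : ℕ)] χ) ≠ ⊥} ≤ finrank F V :=
      h3.subtype_ne_bot_le_finrank
    have h5 : Fintype.card {i : Fin k // wt ρ D (σ^[(i : ℕ)] χ) ≠ ⊥} = k := by
      rw [Fintype.card_subtype]
      simp [hne']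
    omega
  -- conclude
  have hgd : g * d * g⁻¹ ∈ D := (Subgroup.mem_normalizer_iff.mp hg d).mp hd
  have h1 : (⊤ : Submodule F V) ≤ LinearMap.ker (ρ (g * d * g⁻¹) - ρ d) := by
    rw [← iSup_wt ρ D hDc hD]
    refine iSup_le fun χ => ?_
    intro v hv
    by_cases hχ : wt ρ D χ = ⊥
    · rw [hχ, Submodule.mem_bot] at hv
      rw [hv]
      exact Submodule.zero_mem _
    rw [LinearMap.mem_ker, LinearMap.sub_apply, sub_eq_zero]
    have h2 := congrFun (hfix χ hχ) ⟨g * d * g⁻¹, hgd⟩
    have h3 : σ χ ⟨g * d * g⁻¹, hgd⟩ = χ ⟨d, hd⟩ := by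
      show χ _ = χ _
      congr 1
      apply Subtype.ext
      show g⁻¹ * (g * d * g⁻¹) * g = d
      group
    rw [mem_wt] at hv
    have h4 := hv ⟨g * d * g⁻¹, hgd⟩
    have h5 := hv ⟨d, hd⟩
    rw [← h2, h3] at h4
    exact h4.trans h5.symm
  apply LinearMap.ext
  intro v
  have h2 := h1 (Submodule.mem_top (x := v))
  rw [LinearMap.mem_ker, LinearMap.sub_apply, sub_eq_zero] at h2
  exact h2

/-- `p`-groups -/
theorem pgroup_comm [IsAlgClosed F] (ρ : Representation F G V) (hinj : Function.Injective ρ)
    (hc : (Nat.card G : F) ≠ 0) (hp : ∀ r : ℕ, r.Prime → r ∣ Nat.card G → finrank F V < r) {s : ℕ} [Fact s.Prime]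
    {P : Subgroup G} (hP : IsPGroup s P) : ∀ a ∈ P, ∀ b ∈ P, a * b = b * a := by
  by_contra hcon
  push Not at hcon
  obtain ⟨a, ha, b, hb, hab⟩ := hcon
  have hZ : Subgroup.center P ≠ ⊤ := by
    intro h
    apply hab
    have h1 : (⟨a, ha⟩ : P) ∈ Subgroup.center P := h ▸ Subgroup.mem_top _
    exact (congrArg Subtype.val (Subgroup.mem_center_iff.mp h1 ⟨b, hb⟩)).symm
  have hnt : Nontrivial (P ⧸ Subgroup.center P) := by
    by_contra h
    rw [not_nontrivial_iff_subsingleton] at h
    exact hZ (eq_top_iff.mpr fun x _ => (QuotientGroup.eq_one_iff x).mp (Subsingleton.elim _ _))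
  have h1 : Nontrivial (Subgroup.center (P ⧸ Subgroup.center P)) := (hP.to_quotient _).center_nontrivial
  obtain ⟨⟨q, hq⟩, hq1⟩ := exists_ne (1 : Subgroup.center (P ⧸ Subgroup.center P))
  obtain ⟨x, rfl⟩ := QuotientGroup.mk_surjective q
  have hx : x ∉ Subgroup.center P := by
    intro h
    apply hq1
    apply Subtype.ext
    exact (QuotientGroup.eq_one_iff x).mpr h
  have hxc : ∀ g : P, g * x * g⁻¹ * x⁻¹ ∈ Subgroup.center P := by
    intro g
    rw [← QuotientGroup.eq_one_iff]
    have := Subgroup.mem_center_iff.mp hq (g : P ⧸ Subgroup.center P)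
    simp only [QuotientGroup.mk_mul, QuotientGroup.mk_inv]
    rw [this]
    group
  -- the abelian subgroup
  let D : Subgroup P := Subgroup.center P ⊔ Subgroup.zpowers x
  have hDc : ∀ u ∈ D, ∀ w ∈ D, u * w = w * u := by
    have h2 : D ≤ Subgroup.centralizer (D : Set P) := by
      refine sup_le ?_ ?_
      · exact fun u hu => Subgroup.mem_centralizer_iff.mpr fun w _ => Subgroup.mem_center_iff.mp hu w
      · rw [Subgroup.zpowers_le, Subgroup.mem_centralizer_iff]
        have h3 : D ≤ Subgroup.centralizer {x} := by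
          refine sup_le (Subgroup.center_le_centralizer _) ?_
          rw [Subgroup.zpowers_le, Subgroup.mem_centralizer_singleton_iff]
        intro w hw
        exact Subgroup.mem_centralizer_singleton_iff.mp (h3 hw)
    intro u hu w hw
    exact (Subgroup.mem_centralizer_iff.mp (h2 hu) w hw).symm
  have hDn : D.Normal := by
    refine ⟨fun u hu g => ?_⟩
    have h2 : D ≤ D.comap (MulAut.conj g).toMonoidHom := by
      refine sup_le ?_ ?_
      · intro u hu
        show g * u * g⁻¹ ∈ D
        rw [Subgroup.mem_center_iff.mp hu g]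
        simpa using Subgroup.mem_sup_left (T := Subgroup.zpowers x) hu
      · rw [Subgroup.zpowers_le]
        show g * x * g⁻¹ ∈ D
        have h3 : g * x * g⁻¹ = (g * x * g⁻¹ * x⁻¹) * x := by group
        rw [h3]
        exact mul_mem (Subgroup.mem_sup_left (hxc g)) (Subgroup.mem_sup_right (Subgroup.mem_zpowers x))
    exact h2 hu
  apply hx
  rw [Subgroup.mem_center_iff]
  intro g
  have hcP : (Nat.card P : F) ≠ 0 := by
    intro h
    obtain ⟨c, hc'⟩ := Subgroup.card_subgroup_dvd_card P
    exact hc (by rw [hc', Nat.cast_mul, h, zero_mul])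
  let τ : Representation F P V := ρ.comp P.subtype
  have h4 := weights τ hcP (fun r hr hd => hp r hr (hd.trans (Subgroup.card_subgroup_dvd_card P))) hDc
    (g := g) (d := x) (by rw [Subgroup.normalizer_eq_top]; trivial) (Subgroup.mem_sup_right (Subgroup.mem_zpowers x))
  have h5 : g * x * g⁻¹ = x := by
    apply Subtype.ext
    exact hinj h4
  calc g * x = g * x * g⁻¹ * g := by group
    _ = x * g := by rw [h5]

/-- **groups of small degree are abelian** (algebraically closed field) -/
theorem comm_closed [IsAlgClosed F] (ρ : Representation F G V) (hinj : Function.Injective ρ)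
    (hc : (Nat.card G : F) ≠ 0) (hp : ∀ r : ℕ, r.Prime → r ∣ Nat.card G → finrank F V < r) (x y : G) :
    x * y = y * x := by
  have key : x * y * x⁻¹ * y⁻¹ = 1 := by
    rw [← orderOf_eq_one_iff]
    by_contra hne
    obtain ⟨s, hs, hsd⟩ := Nat.exists_prime_and_dvd hne
    have : Fact s.Prime := ⟨hs⟩
    obtain ⟨S⟩ : Nonempty (Sylow s G) := inferInstance
    have hS := pgroup_comm ρ hinj hc hp S.2
    have hN : Subgroup.normalizer ((S : Subgroup G) : Set G) ≤ Subgroup.centralizer ((S : Subgroup G) : Set G) := by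
      intro g hg
      rw [Subgroup.mem_centralizer_iff]
      intro d hd
      have h1 := hinj (weights ρ hc hp hS hg hd)
      calc d * g = g * d * g⁻¹ * g := by rw [h1]
        _ = g * d := by group
    have h2 := MonoidHom.not_dvd_card_ker_transferSylow S hN
    apply h2
    have h3 : x * y * x⁻¹ * y⁻¹ ∈ (MonoidHom.transferSylow S hN).ker := by
      have hcS : ∀ a b : S, a * b = b * a := fun a b => Subtype.ext (hS a a.2 b b.2)
      rw [MonoidHom.mem_ker]
      simp only [map_mul, map_inv]
      rw [hcS (MonoidHom.transferSylow S hN x) (MonoidHom.transferSylow S hN y)]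
      group
    refine hsd.trans ?_
    have h4 := orderOf_dvd_natCard (⟨_, h3⟩ : (MonoidHom.transferSylow S hN).ker)
    rwa [Subgroup.orderOf_mk] at h4
  calc x * y = (x * y * x⁻¹ * y⁻¹) * (y * x) := by group
    _ = y * x := by rw [key, one_mul]

/-- **groups of small degree are abelian** -/
theorem comm_of_small (ρ : Representation F G V) (hinj : Function.Injective ρ)
    (hc : (Nat.card G : F) ≠ 0) (hp : ∀ r : ℕ, r.Prime → r ∣ Nat.card G → finrank F V < r) (x y : G) :
    x * y = y * x := by
  let K := AlgebraicClosure F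
  let τ : Representation K G (TensorProduct F K V) :=
    ((End.baseChangeHom F K V : End F V →ₐ[F] End K (TensorProduct F K V)) : End F V →* End K (TensorProduct F K V)).comp ρ
  have hτ : Function.Injective τ := by
    have h1 : Function.Injective (LinearMap.baseChangeHom F K V V) := LinearMap.baseChangeHom_injective F V K
    intro a b hab
    exact hinj (h1 hab)
  refine comm_closed τ hτ ?_ ?_ x y
  · intro h
    apply hc
    have h1 : algebraMap F K (Nat.card G : F) = 0 := by rw [map_natCast]; exact h
    exact (map_eq_zero _).mp h1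
  · intro r hr hd
    have h1 : finrank K (TensorProduct F K V) = finrank F V := Module.finrank_baseChange
    rw [h1]
    exact hp r hr hd

/-- a version for representations which are not faithful -/
theorem comm_of_small' (ρ : Representation F G V)
    (hc : (Nat.card G : F) ≠ 0) (hp : ∀ r : ℕ, r.Prime → r ∣ Nat.card G → finrank F V < r) (x y : G) :
    ρ (x * y) = ρ (y * x) := by
  let ρ' : G →* (End F V)ˣ := MonoidHom.toHomUnits ρ
  let σ : ρ'.range →* End F V := (Units.coeHom (End F V)).comp ρ'.range.subtype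
  have hσ : Function.Injective σ := fun a b hab => Subtype.ext (Units.ext hab)
  have hdvd : Nat.card ρ'.range ∣ Nat.card G := Subgroup.card_range_dvd ρ'
  have hfin : Finite ρ'.range := Finite.of_surjective ρ'.rangeRestrict ρ'.rangeRestrict_surjective
  have h1 := comm_of_small (G := ρ'.range) σ hσ
    (by
      intro h
      obtain ⟨c, hc'⟩ := hdvd
      exact hc (by rw [hc', Nat.cast_mul, h, zero_mul]))
    (fun r hr hd => hp r hr (hd.trans hdvd)) ⟨ρ' x, x, rfl⟩ ⟨ρ' y, y, rfl⟩
  have h2 : ρ x * ρ y = ρ y * ρ x := congrArg (fun z : ρ'.range => ((z : (End F V)ˣ) : End F V)) h1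
  rw [map_mul, map_mul, h2]

end Cfsg.Agent.H556.SmallAb

private theorem dce_001fea524486 : _root_.True := by
  try have : _root_.True := by simp only [_root_.MonoidHom.transferSylow.congr_simp]
  exact _root_.True.intro
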