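import Cfsg.Agent.GTwoOdd.TrZero
import Cfsg.Agent.ClassificationK.GTwoChev
set_option linter.all false

/-!
# Homomorphisms of `SL(2,F)` which do not kill `-1` are injective (`2 ≠ 0` in `F`)
-/

set_option autoImplicit false

namespace Cfsg.Agent.H556.SLPair

open Matrix
open Cfsg.Agent.GTwoOdd (M2 SL2 m2_ext sl2_ext m2_sq m2_sq_of_trace exists_sl_conj cancel_right
  trace_of_sq_scalar m2_mul_00 m2_mul_01 m2_mul_10 m2_mul_11)
open Cfsg.Agent.ChevalleyStructure.SL2Hom (up lo mem_closure_SL2)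
open Cfsg.Agent.ClassificationK.GTwoSL (delta coe_delta)
open Cfsg.Agent.ClassificationK.GTwoChev (wsl coe_wsl wsl_sq wsl_up wsl_lo)

variable {F : Type*} [Field F] {Γ : Type*} [Group Γ]

theorem coe_up (t : F) : ((up t : SL2 F) : M2 F) = !![1, t; 0, 1] := rfl

theorem coe_lo (t : F) : ((lo t : SL2 F) : M2 F) = !![1, 0; t, 1] := rfl

theorem up_mul_up (s t : F) : up s * up t = up (s + t) := by
  apply sl2_ext <;> simp [coe_up, Matrix.mul_apply, Fin.sum_univ_two, add_comm]

theorem up_zero : up (0 : F) = 1 := by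
  apply sl2_ext <;> simp [coe_up]

theorem lo_zero : lo (0 : F) = 1 := by
  apply sl2_ext <;> simp [coe_lo]

theorem up_inv (s : F) : (up s)⁻¹ = up (-s) :=
  inv_eq_of_mul_eq_one_right (by rw [up_mul_up, add_neg_cancel, up_zero])

/-- the diagonal matrix -/
def dg (a : F) (ha : a ≠ 0) : SL2 F := ⟨!![a, 0; 0, a⁻¹], by simp [Matrix.det_fin_two_of, ha]⟩

theorem coe_dg (a : F) (ha : a ≠ 0) : ((dg a ha : SL2 F) : M2 F) = !![a, 0; 0, a⁻¹] := rfl

theorem dg_up (a : F) (ha : a ≠ 0) (s : F) : dg a ha * up s = up (a ^ 2 * s) * dg a ha := by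
  apply sl2_ext <;> simp [coe_up, coe_dg, Matrix.mul_apply, Fin.sum_univ_two]
  field_simp

theorem tri_up {g : SL2 F} (hg : (g : M2 F) 1 0 = 0) (s : F) :
    g * up s = up (((g : M2 F) 0 0) ^ 2 * s) * g := by
  have h := g.2
  rw [Matrix.det_fin_two, hg, mul_zero, sub_zero] at h
  apply sl2_ext <;> simp [coe_up, Matrix.mul_apply, Fin.sum_univ_two, hg]
  linear_combination (-((g : M2 F) 0 0 * s)) * h

theorem anti_up {g : SL2 F} (hg : (g : M2 F) 0 0 = 0) (s : F) :
    g * up s = lo (-(((g : M2 F) 1 0) ^ 2 * s)) * g := by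
  have h := g.2
  rw [Matrix.det_fin_two, hg, zero_mul, zero_sub] at h
  apply sl2_ext <;> simp [coe_up, coe_lo, Matrix.mul_apply, Fin.sum_univ_two, hg]
  linear_combination (-((g : M2 F) 1 0 * s)) * h

/-- **A homomorphism of `SL(2,F)` not killing `-1` is injective.** -/
theorem injective_of_neg (h2 : (2 : F) ≠ 0) (φ : SL2 F →* Γ) (hφ : φ (-1) ≠ 1) :
    Function.Injective φ := by
  have hconj : ∀ g x : SL2 F, ∀ y : SL2 F, g * x = y * g → φ x = 1 → φ y = 1 := by
    intro g x y h hx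
    have := congrArg φ h
    rw [map_mul, map_mul, hx, mul_one] at this
    exact (mul_eq_right.1 this.symm)
  -- step 1
  have hup : ∀ s : F, φ (up s) = 1 → s = 0 := by
    intro s hs
    by_contra hs0
    have h1 : ∀ a : F, φ (up (a ^ 2 * s)) = 1 := by
      intro a
      by_cases ha : a = 0
      · rw [ha]
        simp [up_zero]
      · exact hconj _ _ _ (dg_up a ha s) hs
    have h3 : ∀ x : F, φ (up x) = 1 := by
      intro x
      have e : x = ((x / s + 1) / 2) ^ 2 * s + -(((x / s - 1) / 2) ^ 2 * s) := by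
        field_simp
        ring
      rw [e, ← up_mul_up, ← up_inv, map_mul, map_inv, h1, h1]
      simp
    have h4 : ∀ x : F, φ (lo x) = 1 := by
      intro x
      have := hconj _ _ _ (wsl_up (-x)) (h3 _)
      rwa [neg_neg] at this
    apply hφ
    rw [← wsl_sq, wsl]
    simp only [map_mul, h3, h4, mul_one]
  -- step 2
  have htri : ∀ g : SL2 F, (g : M2 F) 1 0 = 0 → φ g = 1 → g = 1 := by
    intro g hg h
    have hdet := g.2
    rw [Matrix.det_fin_two, hg, mul_zero, sub_zero] at hdet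
    have h1 := congrArg φ (tri_up hg 1)
    rw [map_mul, map_mul, h, one_mul, mul_one] at h1
    have h3 : φ (up (((g : M2 F) 0 0) ^ 2 * 1 - 1)) = 1 := by
      rw [sub_eq_add_neg, ← up_mul_up, ← up_inv, map_mul, map_inv, ← h1, mul_inv_cancel]
    have h4 := hup _ h3
    have h5 : ((g : M2 F) 0 0 - 1) * ((g : M2 F) 0 0 + 1) = 0 := by linear_combination h4
    rcases mul_eq_zero.1 h5 with h6 | h6
    · have h7 : (g : M2 F) 0 0 = 1 := by linear_combination h6
      have h8 : (g : M2 F) 1 1 = 1 := by rw [h7, one_mul] at hdet; exact hdet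
      have h9 : g = up ((g : M2 F) 0 1) := by
        apply sl2_ext <;> simp [coe_up, h7, h8, hg]
      rw [h9] at h
      rw [h9, hup _ h, up_zero]
    · exfalso
      have h7 : (g : M2 F) 0 0 = -1 := by linear_combination h6
      have h8 : (g : M2 F) 1 1 = -1 := by rw [h7] at hdet; linear_combination -hdet
      have h9 : g = -1 * up (-(g : M2 F) 0 1) := by
        apply sl2_ext <;> simp [coe_up, h7, h8, hg]
      have h10 : g * g = up (-(2 * (g : M2 F) 0 1)) := by
        apply sl2_ext <;> simp [coe_up, Matrix.mul_apply, Fin.sum_univ_two, h7, h8, hg]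
        ring
      have h11 : φ (up (-(2 * (g : M2 F) 0 1))) = 1 := by rw [← h10, map_mul, h, one_mul]
      have h12 := hup _ h11
      have h13 : (g : M2 F) 0 1 = 0 := by
        rcases mul_eq_zero.1 (neg_eq_zero.1 h12) with h | h
        · exact absurd h h2
        · exact h
      rw [h13, neg_zero, up_zero, mul_one] at h9
      rw [h9] at h
      exact hφ h
  rw [injective_iff_map_eq_one]
  intro g hg
  by_cases hc : (g : M2 F) 1 0 = 0
  · exact htri g hc hg
  exfalso
  -- step 3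
  obtain ⟨g', hg', h00, h10⟩ : ∃ g' : SL2 F, φ g' = 1 ∧ (g' : M2 F) 0 0 = 0 ∧ (g' : M2 F) 1 0 ≠ 0 := by
    refine ⟨up (-((g : M2 F) 0 0 / (g : M2 F) 1 0)) * g * up ((g : M2 F) 0 0 / (g : M2 F) 1 0), ?_, ?_, ?_⟩
    · rw [map_mul, map_mul, hg, mul_one, ← map_mul, up_mul_up, neg_add_cancel, up_zero, map_one]
    · change ((!![1, -((g : M2 F) 0 0 / (g : M2 F) 1 0); 0, 1] * (g : M2 F) *
        !![1, (g : M2 F) 0 0 / (g : M2 F) 1 0; 0, 1] : M2 F)) 0 0 = 0
      rw [m2_mul_00, m2_mul_00, m2_mul_01]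
      simp
      field_simp
      simp
    · change ((!![1, -((g : M2 F) 0 0 / (g : M2 F) 1 0); 0, 1] * (g : M2 F) *
        !![1, (g : M2 F) 0 0 / (g : M2 F) 1 0; 0, 1] : M2 F)) 1 0 ≠ 0
      rw [m2_mul_10, m2_mul_10, m2_mul_11]
      simp
      exact hc
  set c := (g' : M2 F) 1 0 with hcdef
  have h1 : ∀ s : F, φ (up s) = φ (lo (-(c ^ 2 * s))) := by
    intro s
    have := congrArg φ (anti_up h00 s)
    rw [map_mul, map_mul, hg', one_mul, mul_one] at this
    exact this
  have h1' : ∀ t : F, φ (lo t) = φ (up (-(t / c ^ 2))) := by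
    intro t
    rw [h1]
    congr 2
    field_simp
  have hcomm : ∀ (x : SL2 F) (s : F), φ x * φ (up s) = φ (up s) * φ x := by
    intro x s
    refine Subgroup.closure_induction (p := fun x _ => φ x * φ (up s) = φ (up s) * φ x) ?_ ?_ ?_ ?_
      (mem_closure_SL2 x)
    · rintro _ (⟨t, rfl⟩ | ⟨t, rfl⟩)
      · rw [← map_mul, ← map_mul, up_mul_up, up_mul_up, add_comm]
      · rw [h1', ← map_mul, ← map_mul, up_mul_up, up_mul_up, add_comm]
    · rw [map_one, one_mul, mul_one]
    · intro x y _ _ hx hy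
      rw [map_mul, mul_assoc, hy, ← mul_assoc, hx, mul_assoc]
    · intro x _ hx
      rw [map_inv, inv_mul_eq_iff_eq_mul, ← mul_assoc, hx, mul_assoc, mul_inv_cancel, mul_one]
  have hsq : ∀ a : F, a ≠ 0 → a ^ 2 = 1 := by
    intro a ha
    have h3 := congrArg φ (dg_up a ha 1)
    rw [map_mul, map_mul, hcomm] at h3
    have h4 := mul_right_cancel h3
    have h5 : φ (up (a ^ 2 * 1 - 1)) = 1 := by
      rw [sub_eq_add_neg, ← up_mul_up, ← up_inv, map_mul, map_inv, ← h4, mul_inv_cancel]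
    have h6 := hup _ h5
    linear_combination h6
  have h3 : (3 : F) = 0 := by
    have := hsq 2 h2
    linear_combination this
  apply hφ
  have hw : φ (wsl F) = 1 := by
    rw [wsl, map_mul, map_mul, h1' 1, hsq c h10, ← map_mul, ← map_mul, up_mul_up, up_mul_up]
    have : (-1 + -(1 / 1) + -1 : F) = 0 := by linear_combination -h3
    rw [this, up_zero, map_one]
  rw [← wsl_sq, map_mul, hw, one_mul]

end Cfsg.Agent.H556.SLPair
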